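import Cfsg.Agent.Lib.SmallSimple.Order168Sub
import Cfsg.Agent.Lib.HeLocal.Cz.SubEight
import Cfsg.Agent.S0495

/-!
# What the local analysis of `M24` uses about the simple group of order 168

* `nonempty_equiv_l3`: it is `SL(3, 2)`.
* `exists_inverters`: an element of order three is a product of two involutions, in no four-group it normalises.
* `card_of_two_threes`: two subgroups of order three lie in a `{2,3}`-subgroup only of order 12 or 24.
* `normal_two_cases`: a normal 2-subgroup of such a subgroup has order 1 or 4.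
* `four_unique`: such a subgroup contains only one four-group of a given class normalised by a 3-element of it.
-/

set_option autoImplicit false
set_option linter.style.haveILetI false

namespace Cfsg.Agent.M24Order.L3Facts

open Subgroup
open Cfsg.Agent.SmallSimple

variable {K : Type*} [Group K] [Finite K] [IsSimpleGroup K] (h : Nat.card K = 168)
include h

theorem nonempty_equiv_l3 : Nonempty (K ≃* HeLocal.Cz.L3) := by
  haveI : Fact (Nat.Prime 7) := ⟨by norm_num⟩
  haveI := HeLocal.Cz.l3_simple
  obtain ⟨e₁⟩ := Cfsg.Agent.S0495.result h (F := ZMod 7) (ZMod.card 7)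
  obtain ⟨e₂⟩ := Cfsg.Agent.S0495.result (G := HeLocal.Cz.L3) HeLocal.Cz.l3_card (F := ZMod 7) (ZMod.card 7)
  exact ⟨e₁.trans e₂.symm⟩

theorem card_normalizer_zpowers {d : K} (hd : orderOf d = 3) :
    Nat.card (normalizer (zpowers d : Set K)) = 6 := by
  haveI : Fact (Nat.Prime 3) := ⟨Nat.prime_three⟩
  obtain ⟨P, hP⟩ := (IsPGroup.of_card (n := 1) (G := zpowers d)
    (by rw [Nat.card_zpowers, hd, pow_one])).exists_le_sylow
  have e : zpowers d = (P : Subgroup K) :=
    eq_of_le_of_card_ge hP (by rw [Order168.card_sylow3 h, Nat.card_zpowers, hd])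
  rw [e]
  exact (Order168.normalizer3 h P).trans (by norm_num)

/-- An element of order three is a product of two involutions, outside every 2-subgroup it normalises. -/
theorem exists_inverters {d : K} (hd : orderOf d = 3) :
    ∃ x y : K, orderOf x = 2 ∧ orderOf y = 2 ∧ x * y = d ∧
      ∀ X : Subgroup K, IsPGroup 2 X → d ∈ normalizer (X : Set K) → x ∉ X ∧ y ∉ X := by
  haveI : Fact (Nat.Prime 2) := ⟨Nat.prime_two⟩
  obtain ⟨⟨x, hxN⟩, hx⟩ := exists_prime_orderOf_dvd_card' (G := normalizer (zpowers d : Set K)) 2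
    (by rw [card_normalizer_zpowers h hd]; norm_num)
  rw [Subgroup.orderOf_mk] at hx
  have hd3 : d ^ 3 = 1 := hd ▸ pow_orderOf_eq_one d
  have hxx : x * x = 1 := by rw [← pow_two, ← hx, pow_orderOf_eq_one]
  have hxi : x⁻¹ = x := inv_eq_of_mul_eq_one_right hxx
  -- `x` inverts `d`
  have hinv : x * d * x⁻¹ = d⁻¹ := by
    have hm : x * d * x⁻¹ ∈ zpowers d := (mem_normalizer_iff.1 hxN d).1 (mem_zpowers d)
    obtain ⟨k, hk⟩ := mem_zpowers_iff.1 hm
    rw [← zpow_mod_orderOf, hd] at hk
    have h0 := Int.emod_nonneg k (show ((3 : ℕ) : ℤ) ≠ 0 by norm_num)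
    have h1 := Int.emod_lt_of_pos k (show (0 : ℤ) < ((3 : ℕ) : ℤ) by norm_num)
    push_cast at hk h0 h1
    rcases (show k % 3 = 0 ∨ k % 3 = 1 ∨ k % 3 = 2 by omega) with e | e | e <;> rw [e] at hk
    · exfalso
      rw [zpow_zero, eq_comm, conj_eq_one_iff] at hk
      rw [hk, orderOf_one] at hd
      norm_num at hd
    · exfalso
      rw [zpow_one] at hk
      have hc : x ∈ centralizer ({d} : Set K) :=
        mem_centralizer_singleton_iff.2 (mul_inv_eq_iff_eq_mul.1 hk.symm)
      have := Subgroup.orderOf_dvd_natCard _ hc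
      rw [(Order168.cent3 h hd).2, hx] at this
      norm_num at this
    · rw [← hk, eq_inv_iff_mul_eq_one, zpow_two, ← pow_two, ← pow_succ]
      exact hd3
  have hd1 : d ≠ 1 := fun e => by rw [e, orderOf_one] at hd; norm_num at hd
  refine ⟨x, x * d, hx, ?_, by rw [← mul_assoc, hxx, one_mul], ?_⟩
  · refine orderOf_eq_prime ?_ fun e => ?_
    · rw [pow_two]
      calc x * d * (x * d) = x * d * x⁻¹ * d := by rw [hxi, mul_assoc (x * d) x d]
        _ = 1 := by rw [hinv, inv_mul_cancel]
    · have : orderOf x = orderOf d := by rw [eq_inv_of_mul_eq_one_left e, orderOf_inv]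
      omega
  · intro X hX hdX
    have hno : ∀ g : K, g ∈ X → d * g * d⁻¹ * g⁻¹ = d ^ 2 → False := by
      intro g hg e
      have hm : d ^ 2 ∈ X := e ▸ mul_mem ((mem_normalizer_iff.1 hdX g).1 hg) (inv_mem hg)
      obtain ⟨n, hn⟩ := hX ⟨d ^ 2, hm⟩
      have h2 : (d ^ 2) ^ 2 ^ n = 1 := congrArg Subtype.val hn
      have h3 : orderOf d ∣ 2 * 2 ^ n := orderOf_dvd_of_pow_eq_one (by rw [pow_mul]; exact h2)
      rw [hd, ← pow_succ'] at h3
      exact absurd (Nat.prime_three.dvd_of_dvd_pow h3) (by norm_num)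
    refine ⟨fun hm => hno x hm ?_, fun hm => hno (x * d) hm ?_⟩
    · calc d * x * d⁻¹ * x⁻¹ = d * (x * d⁻¹ * x⁻¹) := by group
        _ = d * (x * d * x⁻¹)⁻¹ := by group
        _ = d ^ 2 := by rw [hinv, inv_inv, pow_two]
    · calc d * (x * d) * d⁻¹ * (x * d)⁻¹ = d * (x * d⁻¹ * x⁻¹) := by group
        _ = d * (x * d * x⁻¹)⁻¹ := by group
        _ = d ^ 2 := by rw [hinv, inv_inv, pow_two]

/-- Two subgroups of order three and no element of order seven. -/
theorem card_of_two_threes {M : Subgroup K} {d d' : K} (hd : orderOf d = 3) (hd' : orderOf d' = 3)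
    (hne : d' ∉ zpowers d) (hdM : d ∈ M) (hd'M : d' ∈ M) (h7 : ¬ 7 ∣ Nat.card M) :
    Nat.card M = 12 ∨ Nat.card M = 24 := by
  have h24 : Nat.card M ∣ 24 := by
    have h1 := card_subgroup_dvd_card M
    rw [h] at h1
    have hc : (Nat.card M).Coprime 7 := ((Nat.Prime.coprime_iff_not_dvd (by norm_num)).2 h7).symm
    exact hc.dvd_of_dvd_mul_right (show Nat.card M ∣ 24 * 7 by simpa using h1)
  have h3 : 3 ∣ Nat.card M := hd ▸ Subgroup.orderOf_dvd_natCard _ hdM
  by_contra hcon
  push Not at hcon
  have hle := Nat.le_of_dvd (by norm_num) h24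
  have h6 : Nat.card M ∣ 6 := by
    interval_cases hc : Nat.card M <;> omega
  -- the subgroup of order three is normal
  have hN : M ≤ normalizer (zpowers d : Set K) := by
    rcases (show Nat.card M = 3 ∨ Nat.card M = 6 by
      have := Nat.le_of_dvd (by norm_num) h6
      interval_cases hc : Nat.card M <;> omega) with e | e
    · have : zpowers d = M := eq_of_le_of_card_ge (zpowers_le.2 hdM) (by rw [Nat.card_zpowers, hd, e])
      rw [← this]; exact le_normalizer
    · haveI : ((zpowers d).subgroupOf M).Normal := by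
        refine normal_of_index_eq_two ?_
        have h2 := card_mul_index ((zpowers d).subgroupOf M)
        rw [Nat.card_congr (subgroupOfEquivOfLe (zpowers_le.2 hdM)).toEquiv, Nat.card_zpowers, hd, e] at h2
        omega
      exact (normal_subgroupOf_iff_le_normalizer (zpowers_le.2 hdM)).1 inferInstance
  have h2 : d' ∈ normalizer (zpowers d : Set K) := hN hd'M
  -- a Sylow 3-subgroup of the normaliser
  haveI : ((zpowers d).subgroupOf (normalizer (zpowers d : Set K))).Normal := inferInstance
  let q := QuotientGroup.mk' ((zpowers d).subgroupOf (normalizer (zpowers d : Set K)))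
  have hq : q ⟨d', h2⟩ = 1 := by
    rw [← orderOf_eq_one_iff]
    have d1 : orderOf (q ⟨d', h2⟩) ∣ 3 := by
      have := orderOf_map_dvd q ⟨d', h2⟩
      rwa [Subgroup.orderOf_mk, hd'] at this
    have d2 : orderOf (q ⟨d', h2⟩) ∣ 2 := by
      have hc := card_mul_index ((zpowers d).subgroupOf (normalizer (zpowers d : Set K)))
      rw [Nat.card_congr (subgroupOfEquivOfLe le_normalizer).toEquiv, Nat.card_zpowers, hd,
        card_normalizer_zpowers h hd, index_eq_card] at hc
      have h2' : Nat.card (↥(normalizer (zpowers d : Set K)) ⧸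
          (zpowers d).subgroupOf (normalizer (zpowers d : Set K))) = 2 := by omega
      exact h2' ▸ orderOf_dvd_natCard (q ⟨d', h2⟩)
    exact Nat.eq_one_of_dvd_coprimes (by norm_num) d1 d2
  exact hne ((QuotientGroup.eq_one_iff _).1 hq : (⟨d', h2⟩ : normalizer (zpowers d : Set K)) ∈ _)

/-- A normal 2-subgroup of a subgroup of order 12 or 24. -/
theorem normal_two_cases {M X : Subgroup K} (hM : Nat.card M = 12 ∨ Nat.card M = 24) (hXM : X ≤ M)
    (hX : IsPGroup 2 X) (hn : M ≤ normalizer (X : Set K)) : Nat.card X = 1 ∨ Nat.card X = 4 := by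
  haveI : Fact (Nat.Prime 2) := ⟨Nat.prime_two⟩
  obtain ⟨T, hT⟩ := hX.exists_le_sylow
  have hdvd : Nat.card X ∣ 8 := Order168.card_sylow2 h T ▸ card_dvd_of_le hT
  have h2 : Nat.card X ≠ 2 := by
    intro e
    obtain ⟨s, hs, -⟩ := (Nat.card_eq_two_iff' (1 : X)).1 e
    have hs2 : orderOf (s : K) = 2 := by
      rw [Subgroup.orderOf_coe]
      exact orderOf_eq_prime (by rw [← e]; exact pow_card_eq_one') hs
    have hle : M ≤ centralizer ({(s : K)} : Set K) := by
      intro m hm
      refine mem_centralizer_singleton_iff.2 (mul_inv_eq_iff_eq_mul.1 ?_)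
      have hmem : m * s * m⁻¹ ∈ X := (mem_normalizer_iff.1 (hn hm) _).1 s.2
      have hne1 : (⟨m * s * m⁻¹, hmem⟩ : X) ≠ 1 := fun e1 => hs (Subtype.ext (by
        have := congrArg Subtype.val e1
        simpa using conj_eq_one_iff.1 this))
      obtain ⟨y, -, huniq⟩ := (Nat.card_eq_two_iff' (1 : X)).1 e
      exact congrArg Subtype.val ((huniq _ hne1).trans (huniq _ hs).symm)
    have := card_dvd_of_le hle
    rw [(Order168.cent_involution h hs2).1] at this
    rcases hM with e1 | e1 <;> rw [e1] at this <;> norm_num at this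
  have h8 : Nat.card X ≠ 8 := by
    intro e
    have eT : X = (T : Subgroup K) := eq_of_le_of_card_ge hT (by rw [Order168.card_sylow2 h, e])
    have := card_dvd_of_le hn
    rw [eT, Order168.normalizer2 h, Order168.card_sylow2 h] at this
    rcases hM with e1 | e1 <;> rw [e1] at this <;> norm_num at this
  have := Nat.le_of_dvd (by norm_num) hdvd
  interval_cases hc : Nat.card X <;> omega

/-- Only one four-group of a class normalised by an element of order three. -/
theorem four_unique {M X : Subgroup K} (hM : Nat.card M = 12 ∨ Nat.card M = 24) (hXM : X ≤ M)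
    (hX : Nat.card X = 4) {d : K} (hd : orderOf d = 3) (hdM : d ∈ M) (hdX : d ∈ normalizer (X : Set K))
    (g : K) (hY : Order168.conjSub g X ≤ M) : Order168.conjSub g X = X := by
  haveI : Fact (Nat.Prime 2) := ⟨Nat.prime_two⟩
  set A := M ⊓ normalizer (X : Set K) with hA
  have hXA : X ≤ A := le_inf hXM le_normalizer
  have hdA : d ∈ A := ⟨hdM, hdX⟩
  have h3A : 3 ∣ Nat.card A := hd ▸ Subgroup.orderOf_dvd_natCard _ hdA
  have hK : IsKleinFour X := Order168.klein_of_card_four h (inf_le_right : A ≤ _) hX h3A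
  have h12 : 12 ∣ Nat.card A := Nat.Coprime.mul_dvd_of_dvd_of_dvd (by norm_num) (hX ▸ card_dvd_of_le hXA) h3A
  have hAM := card_dvd_of_le (inf_le_left : A ≤ M)
  have hnorm : M ≤ normalizer (X : Set K) := by
    by_cases e : A = M
    · exact e ▸ inf_le_right
    have hA12 : Nat.card A = 12 ∧ Nat.card M = 24 := by
      have hne : Nat.card A ≠ Nat.card M := fun e' => e (eq_of_le_of_card_ge inf_le_left e'.ge)
      revert hne h12 hAM
      generalize Nat.card A = n
      intro h12 hAM hne
      have := Nat.le_of_dvd Nat.card_pos hAM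
      rcases hM with e1 | e1 <;> rw [e1] at hne hAM this <;> interval_cases n <;> omega
    haveI hAn : (A.subgroupOf M).Normal := normal_of_index_eq_two (by
      have h2 := card_mul_index (A.subgroupOf M)
      rw [Nat.card_congr (subgroupOfEquivOfLe inf_le_left).toEquiv, hA12.1, hA12.2] at h2
      omega)
    haveI : (X.subgroupOf A).Normal := (normal_subgroupOf_iff_le_normalizer hXA).2 inf_le_right
    let S : Sylow 2 A := Sylow.ofCard (X.subgroupOf A) (by
      rw [Nat.card_congr (subgroupOfEquivOfLe hXA).toEquiv, hX, hA12.1, Nat.factorization_def _ Nat.prime_two,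
        show 12 = 2 ^ 2 * 3 from rfl, padicValNat.mul (by norm_num) (by norm_num), padicValNat.prime_pow,
        padicValNat.eq_zero_of_not_dvd (by norm_num)]; rfl)
    haveI : (S : Subgroup A).Normal := by rw [Sylow.coe_ofCard]; infer_instance
    haveI : Unique (Sylow 2 A) := Sylow.unique_of_normal S inferInstance
    intro m hm
    rw [Order168.mem_normalizer_iff_conjSub]
    have hm' : Order168.conjSub m X ≤ A := by
      rintro _ ⟨x, hx, rfl⟩
      exact mem_subgroupOf.1 (hAn.conj_mem ⟨x, hXM hx⟩ (mem_subgroupOf.2 (hXA hx)) ⟨m, hm⟩)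
    have hcX : Nat.card (Order168.conjSub m X) = 4 := by
      rw [Order168.conjSub, card_map_of_injective (MulAut.conj m).injective, hX]
    let S' : Sylow 2 A := Sylow.ofCard ((Order168.conjSub m X).subgroupOf A) (by
      rw [Nat.card_congr (subgroupOfEquivOfLe hm').toEquiv, hcX, hA12.1, Nat.factorization_def _ Nat.prime_two,
        show 12 = 2 ^ 2 * 3 from rfl, padicValNat.mul (by norm_num) (by norm_num), padicValNat.prime_pow,
        padicValNat.eq_zero_of_not_dvd (by norm_num)]; rfl)
    have e1 : (S' : Subgroup A) = S := by rw [Subsingleton.elim S' S]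
    rw [Sylow.coe_ofCard, Sylow.coe_ofCard, subgroupOf_inj, inf_eq_left.2 hm', inf_eq_left.2 hXA] at e1
    exact e1
  set Y := Order168.conjSub g X with hYdef
  have hYK : IsKleinFour Y := Order168.klein_conjSub hK g
  have hp : ∀ U : Subgroup K, IsKleinFour U → IsPGroup 2 U := fun U hU =>
    IsPGroup.of_card (n := 2) hU.card_four
  obtain ⟨T, hT⟩ := ((hp Y hYK).to_sup_of_normal_right' (hp X hK) (hY.trans hnorm)).exists_le_sylow
  by_contra hne
  exact Order168.klein_not_conj h T (le_sup_right.trans hT) (le_sup_left.trans hT) hK hYK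
    (fun e => hne e.symm) g hYdef.symm

end Cfsg.Agent.M24Order.L3Facts
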