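import Cfsg.Agent.Lib.M24Order.Local.Normal
import Cfsg.Agent.Lib.M24Order.Local.L3Facts

/-!
# `Q` is not abelian

Some involution `w` of `Q` would be fixed by a subgroup of order 12 or 24 of `C(z)/Q`.  It is not conjugate
to `t` (no subgroup of order 1536 of `C(t)` has a normal subgroup of order 512), and if `w = g z g⁻¹`, then
two conjugates of the four-group `g Q g⁻¹ Q / Q` give an element of order three with too many fixed points.
-/

set_option autoImplicit false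
set_option linter.style.haveILetI false

namespace Cfsg.Agent.M24Order.Facts

open Subgroup Cfsg
open Cfsg.Agent.SmallSimple

variable {G : Type*} [Group G] [Finite G] (F : Facts G)

theorem card_Cbar_eq : Nat.card F.Cbar = 168 := by
  have := F.card_Cbar
  rw [F.card_Q_eq] at this
  omega

theorem Cbar_isSimple : IsSimpleGroup F.Cbar :=
  F.Cbar_simple (a := 3) (by norm_num) F.card_Cbar_eq

theorem mk_eq_one {c : F.Cz} : (c : F.Cbar) = 1 ↔ (c : G) ∈ F.Q := by
  rw [QuotientGroup.eq_one_iff, F.mem_Q c.2]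

theorem mem_Q_of_mk_eq {a b : F.Cz} (h : (a : F.Cbar) = b) : (a : G)⁻¹ * b ∈ F.Q :=
  F.mk_eq_one (c := a⁻¹ * b).1 ((QuotientGroup.eq_one_iff _).2 (QuotientGroup.eq.1 h))

theorem orderOf_mk_three {d : F.Cz} (hd : orderOf (d : G) = 3) : orderOf (d : F.Cbar) = 3 := by
  haveI : Fact (Nat.Prime 3) := ⟨Nat.prime_three⟩
  have h3 : d ^ 3 = 1 := Subtype.ext (by
    show (d : G) ^ 3 = 1
    rw [← hd, pow_orderOf_eq_one])
  refine orderOf_eq_prime (by rw [← QuotientGroup.mk_pow, h3]; rfl) fun e => ?_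
  obtain ⟨n, hn⟩ := F.two_pow_orderOf (F.mk_eq_one.1 e)
  rw [hd] at hn
  exact absurd (Nat.prime_three.dvd_of_dvd_pow (show (3 : ℕ) ∣ 2 ^ n from hn ▸ dvd_rfl)) (by norm_num)

/-- The subgroup of `C(z)/Q` fixing an element of `Q`. -/
def St (x : G) : Subgroup F.Cbar :=
  ((F.Cz ⊓ centralizer ({x} : Set G)).subgroupOf F.Cz).map (QuotientGroup.mk' (pCore 2 ↥F.Cz))

variable (hab : ∀ a ∈ F.Q, ∀ b ∈ F.Q, a * b = b * a)
include hab

theorem mem_St {x : G} (hx : x ∈ F.Q) {c : F.Cz} : (c : F.Cbar) ∈ F.St x ↔ (c : G) * x = x * c := by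
  refine ⟨?_, fun h => ⟨c, mem_subgroupOf.2 ⟨c.2, mem_centralizer_singleton_iff.2 h⟩, rfl⟩⟩
  rintro ⟨d, hd, e⟩
  have hq := F.mem_Q_of_mk_eq e
  have hdx : (d : G) * x = x * d := mem_centralizer_singleton_iff.1 (mem_subgroupOf.1 hd).2
  calc (c : G) * x = d * ((d : G)⁻¹ * c * x) := by group
    _ = d * x * ((d : G)⁻¹ * c) := by rw [hab _ hq x hx, ← mul_assoc]
    _ = x * c := by rw [hdx]; group

theorem pCore_le {x : G} (hx : x ∈ F.Q) :
    pCore 2 ↥F.Cz ≤ (F.Cz ⊓ centralizer ({x} : Set G)).subgroupOf F.Cz := fun c hc =>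
  mem_subgroupOf.2 ⟨c.2, mem_centralizer_singleton_iff.2 (hab _ ((F.mem_Q c.2).2 hc) x hx)⟩

theorem index_St {x : G} (hx : x ∈ F.Q) :
    (F.St x).index = ((F.Cz ⊓ centralizer ({x} : Set G)).subgroupOf F.Cz).index :=
  index_map_eq _ (QuotientGroup.mk'_surjective _) (by rw [QuotientGroup.ker_mk']; exact F.pCore_le hab hx)

theorem card_St {x : G} (hx : x ∈ F.Q) :
    128 * Nat.card (F.St x) = Nat.card ↥(F.Cz ⊓ centralizer ({x} : Set G)) := by
  have h1 := card_mul_index (F.St x)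
  have h2 := card_mul_index ((F.Cz ⊓ centralizer ({x} : Set G)).subgroupOf F.Cz)
  rw [F.card_Cbar_eq] at h1
  rw [← F.index_St hab hx, Nat.card_congr (subgroupOfEquivOfLe inf_le_left).toEquiv, F.card_Cz] at h2
  have hpos : 0 < (F.St x).index := Nat.pos_of_ne_zero index_ne_zero_of_finite
  exact Nat.eq_of_mul_eq_mul_right hpos (by rw [h2, mul_assoc, h1]; norm_num)

theorem St_dvd {x : G} (hx : x ∈ F.Q) (h1 : x ≠ 1) (hz : x ≠ F.z) : Nat.card (F.St x) ∣ 24 := by
  have h168 := F.card_Cbar_eq ▸ card_subgroup_dvd_card (F.St x)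
  have h7 : ¬ 7 ∣ Nat.card (F.St x) := by
    intro h7
    haveI : Fact (Nat.Prime 7) := ⟨by norm_num⟩
    obtain ⟨⟨v, hv⟩, hv7⟩ := exists_prime_orderOf_dvd_card' (G := ↥(F.Cz ⊓ centralizer ({x} : Set G))) 7
      (F.card_St hab hx ▸ h7.mul_left 128)
    rw [Subgroup.orderOf_mk] at hv7
    have hS : ∀ S : Sylow 7 F.Cz, Nat.card (S : Subgroup F.Cz) = 7 := fun S =>
      (Basic.card_sylow_eq_pow (a := 1) (m := 3072) (by rw [F.card_Cz]; norm_num) (by norm_num) S).trans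
        (by norm_num)
    obtain ⟨A, hA⟩ := (IsPGroup.of_card (n := 1) (G := zpowers (⟨v, hv.1⟩ : F.Cz)) (p := 7)
      (by rw [Nat.card_zpowers, Subgroup.orderOf_mk, hv7, pow_one])).exists_le_sylow
    obtain ⟨B, hB⟩ := (IsPGroup.of_card (n := 1) (G := zpowers (⟨F.u, F.u_mem_Cz⟩ : F.Cz)) (p := 7)
      (by rw [Nat.card_zpowers, Subgroup.orderOf_mk, F.u_seven, pow_one])).exists_le_sylow
    have eA : zpowers (⟨v, hv.1⟩ : F.Cz) = (A : Subgroup F.Cz) :=
      eq_of_le_of_card_ge hA (by rw [hS, Nat.card_zpowers, Subgroup.orderOf_mk, hv7])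
    obtain ⟨c, hc⟩ := MulAction.exists_smul_eq F.Cz A B
    have huB : (⟨F.u, F.u_mem_Cz⟩ : F.Cz) ∈ (B : Subgroup F.Cz) := hB (mem_zpowers _)
    rw [← hc, Sylow.coe_subgroup_smul, ← eA] at huB
    obtain ⟨_, ⟨k, rfl⟩, hk⟩ := huB
    have hk' : (c : G) * v ^ k * (c : G)⁻¹ = F.u := by simpa using congrArg Subtype.val hk
    have hvx : v ^ k * x = x * v ^ k :=
      ((show Commute v x from mem_centralizer_singleton_iff.1 hv.2).zpow_left k).eq
    rcases F.eq_of_fixed (F.conj_mem_Q c.2 hx) (by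
      rw [← hk']
      calc (c : G) * v ^ k * (c : G)⁻¹ * ((c : G) * x * (c : G)⁻¹) = c * (v ^ k * x) * (c : G)⁻¹ := by group
        _ = c * (x * v ^ k) * (c : G)⁻¹ := by rw [hvx]
        _ = _ := by group) with e | e
    · exact h1 (conj_eq_one_iff.1 e)
    · refine hz ?_
      calc x = (c : G)⁻¹ * ((c : G) * x * (c : G)⁻¹) * c := by group
        _ = (c : G)⁻¹ * ((c : G) * F.z) := by rw [e, mul_assoc, F.mem_Cz.1 c.2]
        _ = F.z := by rw [inv_mul_cancel_left]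
  exact (((Nat.Prime.coprime_iff_not_dvd (by norm_num)).2 h7).symm).dvd_of_dvd_mul_right
    (show Nat.card (F.St x) ∣ 24 * 7 from h168)

omit hab in
theorem orderThree_mem_zpowers {K : Type*} [Group K] {a b : K} (ha : orderOf a = 3) (hb : orderOf b = 3)
    (h : b ∈ zpowers a) : b = a ∨ b = a⁻¹ := by
  obtain ⟨k, hk⟩ := mem_zpowers_iff.1 h
  rw [← zpow_mod_orderOf, ha] at hk
  have h0 := Int.emod_nonneg k (show ((3 : ℕ) : ℤ) ≠ 0 by norm_num)
  have h1 := Int.emod_lt_of_pos k (show (0 : ℤ) < ((3 : ℕ) : ℤ) by norm_num)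
  push_cast at hk h0 h1
  rcases (show k % 3 = 0 ∨ k % 3 = 1 ∨ k % 3 = 2 by omega) with e | e | e <;> rw [e] at hk
  · rw [zpow_zero] at hk
    rw [← hk, orderOf_one] at hb
    norm_num at hb
  · exact Or.inl (by rw [← hk, zpow_one])
  · refine Or.inr ?_
    rw [← hk, eq_inv_iff_mul_eq_one, zpow_two, ← pow_two, ← pow_succ]
    have h3 := pow_orderOf_eq_one a
    rwa [ha] at h3

omit hab in
theorem eight_fixed {e : G} (he : e ∈ F.Cz) (he3 : orderOf e = 3) {y : G} (hy : y ∈ F.Q) (hy1 : y ≠ 1)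
    (hyz : y ≠ F.z) (hye : y * e = e * y) : Nat.card ↥(F.Q ⊓ centralizer ({e} : Set G)) = 8 := by
  haveI : Fact (Nat.Prime 3) := ⟨Nat.prime_three⟩
  set X := F.Q ⊓ centralizer ({e} : Set G)
  have hle : zpowers e ≤ F.Cz := zpowers_le.2 he
  letI : MulAction (zpowers e) F.Q :=
    { smul := fun a x => ⟨(a : G) * x * (a : G)⁻¹, F.conj_mem_Q (hle a.2) x.2⟩
      one_smul := fun x => Subtype.ext (show (1 : G) * x * (1 : G)⁻¹ = x by group)
      mul_smul := fun a b x => Subtype.ext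
        (show ((a : G) * b) * x * ((a : G) * b)⁻¹ = (a : G) * ((b : G) * x * (b : G)⁻¹) * (a : G)⁻¹ by group) }
  have h := (IsPGroup.of_card (n := 1) (G := zpowers e) (p := 3)
    (by rw [Nat.card_zpowers, he3, pow_one])).card_modEq_card_fixedPoints (α := F.Q)
  have e' : Nat.card (MulAction.fixedPoints (zpowers e) F.Q) = Nat.card X :=
    Nat.card_congr
      { toFun := fun x => ⟨x.1.1, x.1.2, mem_centralizer_singleton_iff.2
          (mul_inv_eq_iff_eq_mul.1 (congrArg Subtype.val (x.2 ⟨e, mem_zpowers e⟩))).symm⟩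
        invFun := fun y => ⟨⟨y.1, y.2.1⟩, fun a => by
          obtain ⟨k, hk⟩ := mem_zpowers_iff.1 a.2
          refine Subtype.ext ?_
          show (a : G) * y.1 * (a : G)⁻¹ = y.1
          rw [← hk, (Commute.zpow_left (mem_centralizer_singleton_iff.1 y.2.2).symm k).eq, mul_inv_cancel_right]⟩
        left_inv := fun x => rfl
        right_inv := fun y => rfl }
  rw [e', F.card_Q_eq] at h
  have hmod : Nat.card X % 3 = 2 := h.symm.trans rfl
  have hX8 := F.card_fixed_three he he3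
  obtain ⟨n, -, hn⟩ := F.pow_card (X := X) inf_le_left
  have h3 : 3 ≤ Nat.card X := by
    have hs : ({1, F.z, y} : Set G) ⊆ (X : Set G) := by
      rintro x (rfl | rfl | rfl)
      exacts [one_mem X, ⟨F.z_mem_Q, mem_centralizer_singleton_iff.2 (F.mem_Cz.1 he).symm⟩,
        ⟨hy, mem_centralizer_singleton_iff.2 hye⟩]
    calc 3 = ({1, F.z, y} : Set G).ncard := by
          rw [Set.ncard_insert_of_notMem (by simp [Ne.symm F.z_ne_one, Ne.symm hy1]), Set.ncard_pair (Ne.symm hyz)]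
      _ ≤ (X : Set G).ncard := Set.ncard_le_ncard hs (Set.toFinite _)
      _ = Nat.card X := (Nat.card_coe_set_eq _).symm
  have hn3 : n ≤ 3 := (Nat.pow_le_pow_iff_right (show 1 < 2 by norm_num)).1 (hn ▸ hX8 : 2 ^ n ≤ 2 ^ 3)
  change Nat.card X = 8
  rw [hn] at hmod h3 ⊢
  interval_cases n <;> omega

/-- An involution of `Q` fixed by a subgroup of order 12 or 24 of `C(z)/Q`. -/
theorem exists_w_abelian :
    ∃ w ∈ F.Q, w * w = 1 ∧ w ≠ 1 ∧ w ≠ F.z ∧ (Nat.card (F.St w) = 12 ∨ Nat.card (F.St w) = 24) := by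
  classical
  haveI := F.Cbar_isSimple
  have h168 := F.card_Cbar_eq
  let W : Subgroup G :=
    { carrier := {x | x ∈ F.Q ∧ x * x = 1}
      one_mem' := ⟨one_mem _, mul_one 1⟩
      mul_mem' := fun {x y} hx hy => ⟨mul_mem hx.1 hy.1, by
        calc x * y * (x * y) = x * (y * x) * y := by group
          _ = (x * x) * (y * y) := by rw [hab y hy.1 x hx.1]; group
          _ = 1 := by rw [hx.2, hy.2, mul_one]⟩
      inv_mem' := fun {x} hx => ⟨inv_mem hx.1, by rw [← mul_inv_rev, hx.2, inv_one]⟩ }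
  have hWQ : W ≤ F.Q := fun x hx => hx.1
  have hzW : F.z ∈ W := ⟨F.z_mem_Q, F.zz⟩
  have hWc : ∀ c ∈ F.Cz, ∀ x ∈ W, c * x * c⁻¹ ∈ W := fun c hc x hx => ⟨F.conj_mem_Q hc hx.1, by
    rw [show c * x * c⁻¹ * (c * x * c⁻¹) = c * (x * x) * c⁻¹ by group, hx.2, mul_one, mul_inv_cancel]⟩
  rcases F.card_inv hWQ hzW (hWc _ F.u_mem_Cz) with hW | hW | hW | hW
  · exfalso
    have h := F.abelian_small le_rfl hab (fun x hx => F.conj_mem_Q F.u_mem_Cz hx)
      (fun x hx hxx => F.eq_or_eq_of_card_two hW hzW (show x ∈ W from ⟨hx, hxx⟩))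
    have h2 : (F.Q : Set G).ncard ≤ ({1, F.z} : Set G).ncard := Set.ncard_le_ncard h (Set.toFinite _)
    rw [Set.ncard_pair (Ne.symm F.z_ne_one), ← Nat.card_coe_set_eq] at h2
    have h3 : Nat.card F.Q ≤ 2 := h2
    rw [F.card_Q_eq] at h3
    norm_num at h3
  · obtain ⟨w, hw, hwn⟩ : ∃ w ∈ (W : Set G), w ∉ ({1, F.z} : Set G) :=
      Set.exists_mem_notMem_of_ncard_lt_ncard (by
        rw [Set.ncard_pair (Ne.symm F.z_ne_one), ← Nat.card_coe_set_eq]
        exact show 2 < Nat.card W by rw [hW]; norm_num) (Set.toFinite _)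
    simp only [Set.mem_insert_iff, Set.mem_singleton_iff, not_or] at hwn
    refine ⟨w, hw.1, hw.2, hwn.1, hwn.2, ?_⟩
    set K := (F.Cz ⊓ centralizer ({w} : Set G)).subgroupOf F.Cz
    let f : F.Cz ⧸ K → ((W : Set G) \ {1, F.z} : Set G) := fun q =>
      ⟨(q.out : G) * w * (q.out : G)⁻¹, hWc _ q.out.2 w hw, by
        simp only [Set.mem_insert_iff, Set.mem_singleton_iff]
        rintro (e | e)
        · exact hwn.1 (conj_eq_one_iff.1 e)
        · refine hwn.2 ?_
          calc w = (q.out : G)⁻¹ * ((q.out : G) * w * (q.out : G)⁻¹) * q.out := by group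
            _ = (q.out : G)⁻¹ * ((q.out : G) * F.z) := by rw [e, mul_assoc, F.mem_Cz.1 q.out.2]
            _ = F.z := by rw [inv_mul_cancel_left]⟩
    have hf : Function.Injective f := fun a b h => by
      have h' : (a.out : G) * w * (a.out : G)⁻¹ = (b.out : G) * w * (b.out : G)⁻¹ := congrArg Subtype.val h
      rw [← QuotientGroup.out_eq' a, ← QuotientGroup.out_eq' b, QuotientGroup.eq]
      refine mem_subgroupOf.2 ⟨SetLike.coe_mem _, mem_centralizer_singleton_iff.2 ?_⟩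
      simp only [Subgroup.coe_mul, Subgroup.coe_inv]
      calc (a.out : G)⁻¹ * b.out * w = (a.out : G)⁻¹ * ((b.out : G) * w * (b.out : G)⁻¹) * b.out := by group
        _ = _ := by rw [← h']; group
    have hle := Nat.card_le_card_of_injective f hf
    rw [← index_eq_card, ← F.index_St hab hw.1, Nat.card_coe_set_eq,
      Set.ncard_sdiff (by rintro x (rfl | rfl); exacts [one_mem W, hzW]) (Set.toFinite _),
      Set.ncard_pair (Ne.symm F.z_ne_one), ← Nat.card_coe_set_eq] at hle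
    have hle' : (F.St w).index ≤ Nat.card W - 2 := hle
    have hmul := card_mul_index (F.St w)
    rw [h168] at hmul
    have hd := F.St_dvd hab hw.1 hwn.1 hwn.2
    have h12 : 12 ≤ Nat.card (F.St w) := by
      rw [hW] at hle'
      nlinarith
    have key : ∀ n < 25, n ∣ 24 → 12 ≤ n → n = 12 ∨ n = 24 := by decide
    exact key _ (Nat.lt_succ_of_le (Nat.le_of_dvd (by norm_num) hd)) hd h12
  · -- elementary abelian: an element fixed by two subgroups of order three
    have hWe : W = F.Q := eq_of_le_of_card_ge hWQ (by rw [hW, F.card_Q_eq])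
    obtain ⟨e, he, he3, y, hy, hy1, hyz, hye⟩ := F.exists_fixed_three hab
    have h8 := F.eight_fixed he he3 hy hy1 hyz hye
    set E : F.Cbar := QuotientGroup.mk ⟨e, he⟩
    have hE : orderOf E = 3 := F.orderOf_mk_three (d := ⟨e, he⟩) he3
    have hc : ∀ s : {s : F.Cbar // orderOf s = 3}, ∃ c : F.Cz, (c : F.Cbar) * E * (c : F.Cbar)⁻¹ = s.1 := fun s => by
      obtain ⟨c, hc⟩ := isConj_iff.1 (Order168.conj_three h168 hE s.2)
      obtain ⟨c, rfl⟩ := QuotientGroup.mk_surjective c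
      exact ⟨c, hc⟩
    choose cs hcs using hc
    set Y : Set G := (↑(F.Q ⊓ centralizer ({e} : Set G)) : Set G) \ {1, F.z}
    set P : Set G := (F.Q : Set G) \ {1, F.z}
    let f : {s : F.Cbar // orderOf s = 3} × Y → P := fun p =>
      ⟨(cs p.1 : G) * p.2.1 * (cs p.1 : G)⁻¹, F.conj_mem_Q (cs p.1).2 p.2.2.1.1, by
        simp only [Set.mem_insert_iff, Set.mem_singleton_iff]
        rintro (h | h)
        · exact p.2.2.2 (Or.inl (conj_eq_one_iff.1 h))
        · refine p.2.2.2 (Or.inr ?_)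
          show p.2.1 = F.z
          calc p.2.1 = (cs p.1 : G)⁻¹ * ((cs p.1 : G) * p.2.1 * (cs p.1 : G)⁻¹) * (cs p.1 : G) := by group
            _ = (cs p.1 : G)⁻¹ * ((cs p.1 : G) * F.z) := by rw [h, mul_assoc, F.mem_Cz.1 (cs p.1).2]
            _ = F.z := by rw [inv_mul_cancel_left]⟩
    have hY : Nat.card Y = 6 := by
      rw [Nat.card_coe_set_eq, Set.ncard_sdiff (by
          rintro x (rfl | rfl)
          exacts [one_mem _, ⟨F.z_mem_Q, mem_centralizer_singleton_iff.2 (F.mem_Cz.1 he).symm⟩]) (Set.toFinite _),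
        Set.ncard_pair (Ne.symm F.z_ne_one), ← Nat.card_coe_set_eq]
      exact show Nat.card ↥(F.Q ⊓ centralizer ({e} : Set G)) - 2 = 6 by rw [h8]
    have hP : Nat.card P = 126 := by
      rw [Nat.card_coe_set_eq, Set.ncard_sdiff (by rintro x (rfl | rfl); exacts [one_mem F.Q, F.z_mem_Q])
        (Set.toFinite _), Set.ncard_pair (Ne.symm F.z_ne_one), ← Nat.card_coe_set_eq]
      exact show Nat.card F.Q - 2 = 126 by rw [F.card_Q_eq]
    haveI := Fintype.ofFinite ({s : F.Cbar // orderOf s = 3} × Y)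
    haveI := Fintype.ofFinite P
    obtain ⟨x, hx⟩ := Fintype.exists_lt_card_fiber_of_mul_lt_card f (n := 2) (by
      rw [← Nat.card_eq_fintype_card, ← Nat.card_eq_fintype_card, Nat.card_prod, Order168.card3 h168, hY, hP]
      norm_num)
    obtain ⟨a, b, c, ha, hb, hc', hab', hac, hbc⟩ := Finset.two_lt_card_iff.1 hx
    simp only [Finset.mem_filter, Finset.mem_univ, true_and] at ha hb hc'
    have hxQ : (x : G) ∈ F.Q := x.2.1
    have hne : (x : G) ≠ 1 ∧ (x : G) ≠ F.z := ⟨fun h => x.2.2 (Or.inl h), fun h => x.2.2 (Or.inr h)⟩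
    refine ⟨x, hxQ, (show (x : G) ∈ W from hWe.symm ▸ hxQ).2, hne.1, hne.2, ?_⟩
    have inj : ∀ p q, f p = x → f q = x → p ≠ q → p.1 ≠ q.1 := by
      rintro ⟨s, y₁⟩ ⟨s', y₂⟩ hp hq hne' (rfl : s = s')
      have h := congrArg Subtype.val (hp.trans hq.symm)
      exact hne' (Prod.ext rfl (Subtype.ext (mul_left_cancel (mul_right_cancel h))))
    have mem : ∀ p, f p = x → p.1.1 ∈ F.St (x : G) := by
      intro p hp
      have h := congrArg Subtype.val hp
      rw [← hcs p.1, show (cs p.1 : F.Cbar) * E * (cs p.1 : F.Cbar)⁻¹ =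
        ((cs p.1 * ⟨e, he⟩ * (cs p.1)⁻¹ : F.Cz) : F.Cbar) from rfl, F.mem_St hab hxQ, ← h]
      show (cs p.1 : G) * e * (cs p.1 : G)⁻¹ * ((cs p.1 : G) * p.2.1 * (cs p.1 : G)⁻¹) =
        (cs p.1 : G) * p.2.1 * (cs p.1 : G)⁻¹ * ((cs p.1 : G) * e * (cs p.1 : G)⁻¹)
      calc _ = (cs p.1 : G) * (e * p.2.1) * (cs p.1 : G)⁻¹ := by group
        _ = (cs p.1 : G) * (p.2.1 * e) * (cs p.1 : G)⁻¹ := by rw [mem_centralizer_singleton_iff.1 p.2.2.1.2]
        _ = _ := by group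
    obtain ⟨d', hd', hd'M, hd'n⟩ : ∃ d', orderOf d' = 3 ∧ d' ∈ F.St (x : G) ∧ d' ∉ zpowers a.1.1 := by
      by_contra hcon
      push Not at hcon
      have e1 := orderThree_mem_zpowers a.1.2 b.1.2 (hcon _ b.1.2 (mem b hb))
      have e2 := orderThree_mem_zpowers a.1.2 c.1.2 (hcon _ c.1.2 (mem c hc'))
      have n1 : b.1.1 ≠ a.1.1 := fun e => inj a b ha hb hab' (Subtype.ext e.symm)
      have n2 : c.1.1 ≠ a.1.1 := fun e => inj a c ha hc' hac (Subtype.ext e.symm)
      exact inj b c hb hc' hbc (Subtype.ext ((e1.resolve_left n1).trans (e2.resolve_left n2).symm))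
    refine L3Facts.card_of_two_threes h168 a.1.2 hd' hd'n (mem a ha) hd'M fun h7 => ?_
    exact absurd (h7.trans (F.St_dvd hab hxQ hne.1 hne.2)) (by norm_num)
  · exfalso
    have := card_dvd_of_le hWQ
    rw [hW, F.card_Q_eq] at this
    norm_num at this

/-- `w` is not conjugate to `t`. -/
theorem not_conj_t {w g : G} (hw : w ∈ F.Q) (hM : Nat.card (F.St w) = 12 ∨ Nat.card (F.St w) = 24)
    (hg : g * F.t * g⁻¹ = w) : False := by
  classical
  haveI := F.Cbar_isSimple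
  haveI : Fact (Nat.Prime 2) := ⟨Nat.prime_two⟩
  haveI : Fact (Nat.Prime 3) := ⟨Nat.prime_three⟩
  have h168 := F.card_Cbar_eq
  set M := F.St w
  set H := F.Cz ⊓ centralizer ({w} : Set G)
  let φ := (MulAut.conj g⁻¹).toMonoidHom
  have hφH : H.map φ ≤ centralizer ({F.t} : Set G) := by
    rintro _ ⟨h, hh, rfl⟩
    have e : h * (g * F.t * g⁻¹) = g * F.t * g⁻¹ * h := hg.symm ▸ mem_centralizer_singleton_iff.1 hh.2
    refine mem_centralizer_singleton_iff.2 ?_
    show g⁻¹ * h * g⁻¹⁻¹ * F.t = F.t * (g⁻¹ * h * g⁻¹⁻¹)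
    calc g⁻¹ * h * g⁻¹⁻¹ * F.t = g⁻¹ * (h * (g * F.t * g⁻¹)) * g := by group
      _ = _ := by rw [e]; group
  have hcH : Nat.card (H.map φ) = 128 * Nat.card M :=
    (card_map_of_injective (MulAut.conj g⁻¹).injective).trans (F.card_St hab hw).symm
  have h12 : Nat.card M = 12 := by
    refine hM.resolve_right fun e => ?_
    have := card_dvd_of_le hφH
    rw [hcH, e, F.card_Ct] at this
    norm_num at this
  -- the Sylow 2-subgroup of `M` is normal
  have hS3 : ∀ P : Sylow 3 M, Nat.card (P : Subgroup M) = 3 := fun P =>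
    (Basic.card_sylow_eq_pow (a := 1) (m := 4) (by rw [h12]; norm_num) (by norm_num) P).trans (by norm_num)
  let T : Sylow 2 M := default
  have hT4 : Nat.card (T : Subgroup M) = 4 :=
    (Basic.card_sylow_eq_pow (a := 2) (m := 3) (by rw [h12]; norm_num) (by norm_num) T).trans (by norm_num)
  have h3 : Nat.card {y : M // orderOf y = 3} = 8 := by
    rw [Order168.card_orderOf_eq hS3]
    suffices Nat.card (Sylow 3 M) = 4 by omega
    let P : Sylow 3 M := default
    have hd : Nat.card (Sylow 3 M) ∣ 4 := by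
      have h1 := P.card_dvd_index
      have h2 := card_mul_index (P : Subgroup M)
      rw [hS3 P, h12] at h2
      rwa [show (P : Subgroup M).index = 4 by omega] at h1
    have hm : Nat.card (Sylow 3 M) % 3 = 1 := card_sylow_modEq_one 3 M
    have h1' : Nat.card (Sylow 3 M) ≠ 1 := fun e => by
      haveI := (Nat.card_eq_one_iff_unique.1 e).1
      haveI hPn := P.normal_of_subsingleton
      obtain ⟨⟨d, hdP⟩, hd3⟩ := exists_prime_orderOf_dvd_card' (G := (P : Subgroup M)) 3 (by rw [hS3])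
      rw [Subgroup.orderOf_mk] at hd3
      have hle : M ≤ normalizer (zpowers (d : F.Cbar) : Set F.Cbar) := by
        have eP : zpowers d = (P : Subgroup M) :=
          eq_of_le_of_card_ge (zpowers_le.2 hdP) (by rw [hS3, Nat.card_zpowers, hd3])
        intro m hm
        rw [Order168.mem_normalizer_iff_conjSub, Order168.conjSub, MonoidHom.map_zpowers]
        refine eq_of_le_of_card_ge (zpowers_le.2 ?_) (le_of_eq ?_)
        · have := hPn.conj_mem d hdP ⟨m, hm⟩
          rw [← eP] at this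
          obtain ⟨k, hk⟩ := mem_zpowers_iff.1 this
          refine mem_zpowers_iff.2 ⟨k, ?_⟩
          simpa using congrArg Subtype.val hk
        · rw [Nat.card_zpowers, Nat.card_zpowers]
          exact ((MulAut.conj m).orderOf_eq _).symm
      have := card_dvd_of_le hle
      rw [h12, L3Facts.card_normalizer_zpowers h168 (by rwa [Subgroup.orderOf_coe])] at this
      norm_num at this
    have := Nat.le_of_dvd (by norm_num) hd
    interval_cases hn : Nat.card (Sylow 3 M) <;> omega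
  haveI hTn : (T : Subgroup M).Normal := by
    refine ⟨fun t ht c => ?_⟩
    have hsub : ((T : Subgroup M) : Set M) = {y : M | orderOf y ≠ 3} := by
      refine Set.eq_of_subset_of_ncard_le (fun y hy h => ?_) ?_ (Set.toFinite _)
      · obtain ⟨n, hn⟩ := IsPGroup.iff_orderOf.1 T.isPGroup' ⟨y, hy⟩
        rw [Subgroup.orderOf_mk, h] at hn
        exact absurd (Nat.prime_three.dvd_of_dvd_pow (show (3 : ℕ) ∣ 2 ^ n from hn ▸ dvd_rfl)) (by norm_num)
      · have h1 := Set.ncard_compl {y : M | orderOf y = 3}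
        rw [← Nat.card_coe_set_eq {y : M | orderOf y = 3}, h12] at h1
        rw [show {y : M | orderOf y ≠ 3} = {y : M | orderOf y = 3}ᶜ from rfl, h1, ← Nat.card_coe_set_eq]
        exact show 12 - Nat.card {y : M // orderOf y = 3} ≤ Nat.card (T : Subgroup M) by rw [h3, hT4]
    show c * t * c⁻¹ ∈ ((T : Subgroup M) : Set M)
    rw [hsub, Set.mem_ofPred_eq, show c * t * c⁻¹ = MulAut.conj c t from rfl, MulEquiv.orderOf_eq]
    exact fun h => (hsub.le ht : orderOf t ≠ 3) h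
  set X : Subgroup F.Cbar := (T : Subgroup M).map M.subtype
  have hXM : X ≤ M := map_subtype_le _
  set A : Subgroup G := (X.comap (QuotientGroup.mk' (pCore 2 ↥F.Cz))).map F.Cz.subtype
  have hAH : A ≤ H := by
    rintro _ ⟨c, hc, rfl⟩
    exact ⟨c.2, mem_centralizer_singleton_iff.2 ((F.mem_St hab hw).1 (hXM hc))⟩
  have hcA : Nat.card A = 512 := by
    rw [card_map_of_injective F.Cz.subtype_injective]
    have h1 := card_mul_index (X.comap (QuotientGroup.mk' (pCore 2 ↥F.Cz)))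
    rw [index_comap_of_surjective _ (QuotientGroup.mk'_surjective _), F.card_Cz] at h1
    have h2 := card_mul_index X
    rw [card_map_of_injective M.subtype_injective, hT4, h168] at h2
    rw [show X.index = 42 by omega] at h1
    omega
  refine F.no_1536 hφH (map_mono hAH) (by rw [hcH, h12])
    ((card_map_of_injective (MulAut.conj g⁻¹).injective).trans hcA) ?_
  rintro _ ⟨h, hh, rfl⟩ _ ⟨a, ⟨c, hc, rfl⟩, rfl⟩
  refine ⟨h * c * h⁻¹, ⟨⟨h, hh.1⟩ * c * ⟨h, hh.1⟩⁻¹, ?_, rfl⟩, by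
    simp [φ, mul_assoc]⟩
  obtain ⟨m, hm, e⟩ := hc
  refine ⟨⟨((⟨h, hh.1⟩ : F.Cz) : F.Cbar), (F.mem_St hab hw).2 (mem_centralizer_singleton_iff.1 hh.2)⟩ * m *
    ⟨_, (F.mem_St hab hw).2 (mem_centralizer_singleton_iff.1 hh.2)⟩⁻¹, hTn.conj_mem m hm _, ?_⟩
  simp only [map_mul, map_inv]
  rw [e]
  rfl

/-- `w` is not conjugate to `z`. -/
theorem not_conj_z {w g : G} (hw : w ∈ F.Q) (hwz : w ≠ F.z)
    (hM : Nat.card (F.St w) = 12 ∨ Nat.card (F.St w) = 24) (hg : g * F.z * g⁻¹ = w) : False := by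
  classical
  haveI := F.Cbar_isSimple
  haveI : Fact (Nat.Prime 2) := ⟨Nat.prime_two⟩
  haveI : Fact (Nat.Prime 3) := ⟨Nat.prime_three⟩
  have h168 := F.card_Cbar_eq
  set M := F.St w
  set H := F.Cz ⊓ centralizer ({w} : Set G)
  set Q' : Subgroup G := F.Q.map (MulAut.conj g).toMonoidHom
  have hconj : ∀ h, h * w = w * h → g⁻¹ * h * g ∈ F.Cz := fun h e => F.mem_Cz.2 (by
    calc g⁻¹ * h * g * F.z = g⁻¹ * (h * (g * F.z * g⁻¹)) * g := by group
      _ = g⁻¹ * ((g * F.z * g⁻¹) * h) * g := by rw [hg, e]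
      _ = _ := by group)
  have hmemQ' : ∀ y, y ∈ Q' ↔ g⁻¹ * y * g ∈ F.Q := fun y =>
    ⟨fun ⟨q, hq, e⟩ => by rw [← e]; show g⁻¹ * (g * q * g⁻¹) * g ∈ F.Q; simpa [mul_assoc] using hq,
      fun h => ⟨_, h, show g * (g⁻¹ * y * g) * g⁻¹ = y by group⟩⟩
  obtain ⟨⟨d, hdH⟩, hd3⟩ := exists_prime_orderOf_dvd_card' (G := ↥H) 3
    (F.card_St hab hw ▸ Dvd.dvd.mul_left (by rcases hM with e | e <;> rw [e] <;> norm_num) 128)
  rw [Subgroup.orderOf_mk] at hd3
  -- `z` lies in `Q'`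
  have hzQ' : F.z ∈ Q' := by
    rw [hmemQ']
    set d' : F.Cz := ⟨g⁻¹ * d * g, hconj d (mem_centralizer_singleton_iff.1 hdH.2)⟩
    set z' : F.Cz := ⟨g⁻¹ * F.z * g, hconj F.z (F.mem_Cz.1 (F.Q_le hw)).symm⟩
    show (z' : G) ∈ F.Q
    have hd' : orderOf (d' : F.Cbar) = 3 := F.orderOf_mk_three (by
      show orderOf (g⁻¹ * d * g) = 3
      rw [show g⁻¹ * d * g = MulAut.conj g⁻¹ d by simp, MulEquiv.orderOf_eq, hd3])
    have hcomm : z' * d' = d' * z' := Subtype.ext (by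
      show g⁻¹ * F.z * g * (g⁻¹ * d * g) = g⁻¹ * d * g * (g⁻¹ * F.z * g)
      calc _ = g⁻¹ * (F.z * d) * g := by group
        _ = g⁻¹ * (d * F.z) * g := by rw [F.mem_Cz.1 hdH.1]
        _ = _ := by group)
    have h1 : orderOf (z' : F.Cbar) ∣ 3 := (Order168.cent3 (G := F.Cbar) h168 hd').2 ▸ Subgroup.orderOf_dvd_natCard _
      (mem_centralizer_singleton_iff.2 (congrArg (QuotientGroup.mk' (pCore 2 ↥F.Cz)) hcomm))
    have h2 : orderOf (z' : F.Cbar) ∣ 2 := orderOf_dvd_of_pow_eq_one (by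
      rw [← QuotientGroup.mk_pow, show z' ^ 2 = 1 from Subtype.ext (by
        show (g⁻¹ * F.z * g) ^ 2 = 1
        rw [pow_two, show g⁻¹ * F.z * g * (g⁻¹ * F.z * g) = g⁻¹ * (F.z * F.z) * g by group, F.zz]
        group)]
      rfl)
    exact F.mk_eq_one.1 (orderOf_eq_one_iff.1 (Nat.eq_one_of_dvd_coprimes (by norm_num) h1 h2))
  have hQ'ab : ∀ a ∈ Q', ∀ b ∈ Q', a * b = b * a := fun a ha b hb => by
    have := hab _ ((hmemQ' a).1 ha) _ ((hmemQ' b).1 hb)
    calc a * b = g * (g⁻¹ * a * g * (g⁻¹ * b * g)) * g⁻¹ := by group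
      _ = _ := by rw [this]; group
  have hwQ' : w ∈ Q' := ⟨F.z, F.z_mem_Q, hg⟩
  have hQ'C : Q' ≤ F.Cz := fun y hy => F.mem_Cz.2 (hQ'ab y hy _ hzQ')
  have hcQ' : Nat.card Q' = 128 := (card_map_of_injective (MulAut.conj g).injective).trans F.card_Q_eq
  have hne : ¬ Q' ≤ F.Q := fun hle => by
    have e : Q' = F.Q := eq_of_le_of_card_ge hle (by rw [hcQ', F.card_Q_eq])
    have hgN : g ∈ F.Cz := F.mem_Cz_of_normalizes (mem_normalizer_iff.2 fun y => by
      rw [show g * y * g⁻¹ ∈ F.Q ↔ g * y * g⁻¹ ∈ Q' by rw [e], hmemQ',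
        show g⁻¹ * (g * y * g⁻¹) * g = y by group])
    exact hwz (by rw [← hg, F.mem_Cz.1 hgN, mul_inv_cancel_right])
  -- the four-group `X`
  let φ : Q' →* F.Cbar := (QuotientGroup.mk' _).comp (inclusion hQ'C)
  set X := φ.range
  have hXM : X ≤ M := by
    rintro _ ⟨y, rfl⟩
    exact (F.mem_St hab hw).2 (hQ'ab y y.2 w hwQ')
  have hXp : IsPGroup 2 X := IsPGroup.of_surjective
    (IsPGroup.of_card (n := 7) (p := 2) (G := Q') (by rw [hcQ']; norm_num)) φ.rangeRestrict φ.rangeRestrict_surjective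
  have hXn : M ≤ normalizer (X : Set F.Cbar) := by
    intro m hm
    rw [Order168.mem_normalizer_iff_conjSub]
    refine eq_of_le_of_card_ge ?_ (le_of_eq (card_map_of_injective (MulAut.conj m).injective).symm)
    rintro _ ⟨_, ⟨y, rfl⟩, rfl⟩
    obtain ⟨c, rfl⟩ := QuotientGroup.mk_surjective m
    have hc : (c : G) * w = w * c := (F.mem_St hab hw).1 hm
    have hy' : (c : G) * y * (c : G)⁻¹ ∈ Q' := by
      rw [hmemQ', show g⁻¹ * ((c : G) * y * (c : G)⁻¹) * g = (g⁻¹ * c * g) * (g⁻¹ * y * g) * (g⁻¹ * c * g)⁻¹ by group]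
      exact F.conj_mem_Q (hconj _ hc) ((hmemQ' _).1 y.2)
    exact ⟨⟨_, hy'⟩, rfl⟩
  have hker : Nat.card φ.ker = Nat.card ↥(F.Q ⊓ Q') := by
    rw [← Nat.card_congr (subgroupOfEquivOfLe (inf_le_right : F.Q ⊓ Q' ≤ Q')).toEquiv]
    refine congrArg (fun S : Subgroup Q' => Nat.card S) (SetLike.ext fun y => ?_)
    rw [MonoidHom.mem_ker, mem_subgroupOf, mem_inf, show φ y = ((inclusion hQ'C y : F.Cz) : F.Cbar) from rfl,
      F.mk_eq_one]
    exact ⟨fun h => ⟨h, y.2⟩, fun h => h.1⟩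
  have hX4 : Nat.card X = 4 := by
    refine (L3Facts.normal_two_cases h168 hM hXM hXp hXn).resolve_left fun e => hne fun y hy => ?_
    haveI := (Nat.card_eq_one_iff_unique.1 e).1
    have h1 : φ ⟨y, hy⟩ = 1 := congrArg Subtype.val
      (Subsingleton.elim (⟨φ ⟨y, hy⟩, ⟨_, rfl⟩⟩ : X) 1)
    exact F.mk_eq_one.1 h1
  set D : Subgroup G := F.Q ⊓ Q'
  have hD : Nat.card D = 32 := by
    have h1 := card_mul_index φ.ker
    rw [index_ker, hker, show Nat.card φ.range = 4 from hX4, hcQ'] at h1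
    omega
  have hDc : ∀ c : F.Cz, (c : F.Cbar) ∈ X → ∀ v ∈ D, (c : G) * v = v * c := by
    rintro c ⟨y, hy⟩ v hv
    have hq := F.mem_Q_of_mk_eq hy
    change (y : G)⁻¹ * c ∈ F.Q at hq
    calc (c : G) * v = y * ((y : G)⁻¹ * c * v) := by group
      _ = y * v * ((y : G)⁻¹ * c) := by rw [hab _ hq v hv.1, ← mul_assoc]
      _ = v * c := by rw [hQ'ab y y.2 v hv.2]; group
  -- the inverters of `d`
  set dC : F.Cz := ⟨d, hdH.1⟩
  have hdM : (dC : F.Cbar) ∈ M := (F.mem_St hab hw).2 (mem_centralizer_singleton_iff.1 hdH.2)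
  obtain ⟨x, y, hx, hy, hxy, hout⟩ := L3Facts.exists_inverters h168 (F.orderOf_mk_three (d := dC) hd3)
  obtain ⟨⟨x₀, hx₀X⟩, hx₀⟩ := exists_prime_orderOf_dvd_card' (G := ↥X) 2 (by rw [hX4]; norm_num)
  rw [Subgroup.orderOf_mk] at hx₀
  have fixes : ∀ i : F.Cbar, orderOf i = 2 → i ∉ X → ∃ V : Subgroup G, V ≤ F.Q ∧ Nat.card V = 32 ∧
      (∀ a : F.Cz, (a : F.Cbar) = i → ∀ v ∈ V, (a : G) * v = v * a) ∧ w ∉ V := by
    intro i hi hiX
    obtain ⟨c, hc⟩ := isConj_iff.1 (Order168.conj_two h168 hx₀ hi)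
    obtain ⟨c, rfl⟩ := QuotientGroup.mk_surjective c
    refine ⟨D.map (MulAut.conj (c : G)).toMonoidHom, ?_,
      (card_map_of_injective (MulAut.conj (c : G)).injective).trans hD, ?_, ?_⟩
    · rintro _ ⟨v, hv, rfl⟩
      exact F.conj_mem_Q c.2 hv.1
    · rintro a ha _ ⟨v, hv, rfl⟩
      have hm : ((c⁻¹ * a * c : F.Cz) : F.Cbar) ∈ X := by
        rw [QuotientGroup.mk_mul, QuotientGroup.mk_mul, QuotientGroup.mk_inv, ha, ← hc]
        simpa [mul_assoc] using hx₀X
      have e := hDc _ hm v hv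
      simp only [Subgroup.coe_mul, Subgroup.coe_inv] at e
      show (a : G) * ((c : G) * v * (c : G)⁻¹) = (c : G) * v * (c : G)⁻¹ * a
      calc (a : G) * ((c : G) * v * (c : G)⁻¹) = (c : G) * ((c : G)⁻¹ * a * c * v) * (c : G)⁻¹ := by group
        _ = _ := by rw [e]; group
    · rintro ⟨v, hv, hvw⟩
      have hv' : (c : G) * v * (c : G)⁻¹ = w := hvw
      have hle : Order168.conjSub (c : F.Cbar) X ≤ M := by
        rintro _ ⟨r, hr, rfl⟩
        obtain ⟨r, rfl⟩ := QuotientGroup.mk_surjective r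
        show ((c * r * c⁻¹ : F.Cz) : F.Cbar) ∈ M
        rw [F.mem_St hab hw, ← hv']
        simp only [Subgroup.coe_mul, Subgroup.coe_inv]
        calc (c : G) * r * (c : G)⁻¹ * ((c : G) * v * (c : G)⁻¹) = c * ((r : G) * v) * (c : G)⁻¹ := by group
          _ = c * (v * r) * (c : G)⁻¹ := by rw [hDc r hr v hv]
          _ = _ := by group
      refine hiX ?_
      rw [← L3Facts.four_unique h168 hM hXM hX4 (F.orderOf_mk_three (d := dC) hd3) hdM (hXn hdM) _ hle, ← hc]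
      exact ⟨x₀, hx₀X, rfl⟩
  obtain ⟨hxX, hyX⟩ := hout X hXp (hXn hdM)
  obtain ⟨V, hVQ, hV, hVx, hwV⟩ := fixes x hx hxX
  obtain ⟨V', hV'Q, hV', hVy, -⟩ := fixes y hy hyX
  set U := V ⊓ V'
  set C := F.Q ⊓ centralizer ({d} : Set G)
  have hU : 8 ≤ Nat.card U := by
    have hi : ∀ S : Subgroup G, S ≤ F.Q → Nat.card S = 32 → (S.subgroupOf F.Q).index = 4 := fun S hS h32 => by
      have h1 := card_mul_index (S.subgroupOf F.Q)
      rw [Nat.card_congr (subgroupOfEquivOfLe hS).toEquiv, h32, F.card_Q_eq] at h1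
      omega
    have h1 := index_inf_le (H := V.subgroupOf F.Q) (K := V'.subgroupOf F.Q)
    rw [hi V hVQ hV, hi V' hV'Q hV'] at h1
    have h2 := card_mul_index (V.subgroupOf F.Q ⊓ V'.subgroupOf F.Q)
    rw [F.card_Q_eq] at h2
    have h3 : Nat.card ↥(V.subgroupOf F.Q ⊓ V'.subgroupOf F.Q) = Nat.card U :=
      Nat.card_congr (subgroupOfEquivOfLe (inf_le_left.trans hVQ : U ≤ F.Q)).toEquiv
    nlinarith
  have hUC : U ≤ C := fun v hv => by
    refine ⟨hVQ hv.1, mem_centralizer_singleton_iff.2 ?_⟩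
    obtain ⟨a, rfl⟩ := QuotientGroup.mk_surjective x
    obtain ⟨b, rfl⟩ := QuotientGroup.mk_surjective y
    have hq := F.mem_Q_of_mk_eq (a := a * b) (b := dC) hxy
    simp only [Subgroup.coe_mul] at hq
    have ha := hVx a rfl v hv.1
    have hb := hVy b rfl v hv.2
    calc v * d = v * ((a : G) * b) * (((a : G) * b)⁻¹ * d) := by group
      _ = (v * a) * b * (((a : G) * b)⁻¹ * d) := by group
      _ = (a : G) * (v * b) * (((a : G) * b)⁻¹ * d) := by rw [← ha]; group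
      _ = (a : G) * b * (v * (((a : G) * b)⁻¹ * d)) := by rw [← hb]; group
      _ = (a : G) * b * ((((a : G) * b)⁻¹ * d) * v) := by rw [hab _ hq v (hVQ hv.1)]
      _ = d * v := by group
  have hwC : w ∈ C := ⟨hw, mem_centralizer_singleton_iff.2 (mem_centralizer_singleton_iff.1 hdH.2).symm⟩
  exact hwV ((eq_of_le_of_card_ge hUC ((F.card_fixed_three hdH.1 hd3).trans hU)).symm ▸ hwC : w ∈ U).1

omit hab in
/-- `Q` is not abelian. -/
theorem not_abelian : ¬ ∀ a ∈ F.Q, ∀ b ∈ F.Q, a * b = b * a := by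
  intro hab
  obtain ⟨w, hw, hww, hw1, hwz, hM⟩ := F.exists_w_abelian hab
  have h2 : orderOf w = 2 := orderOf_eq_prime (by rw [pow_two, hww]) hw1
  rcases F.involution w h2 with ⟨g, hg⟩ | ⟨g, hg⟩
  exacts [F.not_conj_z hab hw hwz hM hg, F.not_conj_t hab hw hM hg]

end Cfsg.Agent.M24Order.Facts
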