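import Cfsg.Agent.Lib.SmallSimple.Basic

/-!
# General lemmas for the involution centraliser of a group with the counts of `M24`

* `two_mul_card_cent`: an element whose commutators with `Q` lie in `{1, z}` has centraliser of index at most two.
* `card_cent_mul`: counting commuting pairs when all commutators between two subgroups lie in `{1, z}`.
* `no_center_index_eight`: no group with all commutators in `{1, z}` has centre of index eight.
* `seven_normal_of_card_315`: a group of order `315` has a normal Sylow 7-subgroup.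
-/

set_option autoImplicit false
set_option linter.style.haveILetI false

namespace Cfsg.Agent.M24Order

open Subgroup

variable {G : Type*} [Group G] [Finite G]

/-- The elements of a subgroup commuting with an element. -/
abbrev centIn (Q : Subgroup G) (x : G) : Subgroup G := Q ⊓ centralizer ({x} : Set G)

theorem mem_centIn {Q : Subgroup G} {x q : G} : q ∈ centIn Q x ↔ q ∈ Q ∧ q * x = x * q := by
  rw [centIn, mem_inf, mem_centralizer_singleton_iff]

/-- An element whose commutators with `Q` lie in `{1, z}` and that does not centralise `Q`. -/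
theorem two_mul_card_cent {Q : Subgroup G} {z x q₀ : G} (hzx : x * z = z * x)
    (hQz : ∀ q ∈ Q, q * z = z * q)
    (h : ∀ q ∈ Q, x * q = q * x ∨ x * q = q * x * z) (hq₀ : q₀ ∈ Q) (hn : x * q₀ ≠ q₀ * x) :
    2 * Nat.card ↥(centIn Q x) = Nat.card Q := by
  have hidx : ((centIn Q x).subgroupOf Q).index = 2 := by
    rw [index_eq_two_iff_exists_notMem_and]
    refine ⟨⟨q₀, hq₀⟩, fun hm => hn (mem_centIn.1 (mem_subgroupOf.1 hm)).2.symm, fun b => ?_⟩
    rcases h b b.2 with hb | hb
    · exact Or.inr (mem_subgroupOf.2 (mem_centIn.2 ⟨b.2, hb.symm⟩))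
    · left
      rw [mem_subgroupOf, mem_centIn]
      refine ⟨(b * ⟨q₀, hq₀⟩ : Q).2, ?_⟩
      show (b : G) * q₀ * x = x * ((b : G) * q₀)
      rcases h ((b : G) * q₀) (mul_mem b.2 hq₀) with hbq | hbq
      · exact hbq.symm
      · exfalso
        have h0 := (h q₀ hq₀).resolve_left hn
        apply hn
        have key : x * ((b : G) * q₀) = (b : G) * q₀ * x * (z * z) := by
          calc x * ((b : G) * q₀) = x * b * q₀ := by rw [mul_assoc]
            _ = b * x * (z * q₀) := by rw [hb]; group
            _ = b * x * (q₀ * z) := by rw [hQz q₀ hq₀]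
            _ = b * (x * q₀) * z := by group
            _ = b * (q₀ * x * z) * z := by rw [h0]
            _ = _ := by group
        rw [key] at hbq
        have hz1 : z = 1 := by
          have := mul_left_cancel hbq
          exact mul_eq_left.1 this
        rw [h0, hz1, mul_one]
  have h2 := card_mul_index ((centIn Q x).subgroupOf Q)
  rw [hidx, Nat.card_congr (subgroupOfEquivOfLe (inf_le_left : centIn Q x ≤ Q)).toEquiv] at h2
  change 2 * Nat.card ↥(Q ⊓ centralizer ({x} : Set G)) = Nat.card Q
  omega

/-- Counting commuting pairs. -/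
theorem card_cent_mul {T Q : Subgroup G} {z : G} (hTz : ∀ t ∈ T, t * z = z * t)
    (hQz : ∀ q ∈ Q, q * z = z * q) (hz : z * z = 1)
    (h : ∀ t ∈ T, ∀ q ∈ Q, t * q = q * t ∨ t * q = q * t * z) :
    Nat.card ↥(Q ⊓ centralizer (T : Set G)) * Nat.card T =
      Nat.card ↥(T ⊓ centralizer (Q : Set G)) * Nat.card Q := by
  classical
  haveI := Fintype.ofFinite G
  have key : ∀ (A B : Subgroup G), (∀ a ∈ A, a * z = z * a) → (∀ b ∈ B, b * z = z * b) →
      (∀ a ∈ A, ∀ b ∈ B, a * b = b * a ∨ a * b = b * a * z) →
      2 * Nat.card {p : A × B // (p.1 : G) * p.2 = p.2 * p.1} =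
        Nat.card A * Nat.card B + Nat.card ↥(A ⊓ centralizer (B : Set G)) * Nat.card B := by
    intro A B hAz hBz hAB
    have e : {p : A × B // (p.1 : G) * p.2 = p.2 * p.1} ≃ Σ a : A, ↥(centIn B (a : G)) :=
      { toFun := fun p => ⟨p.1.1, ⟨p.1.2, mem_centIn.2 ⟨p.1.2.2, p.2.symm⟩⟩⟩
        invFun := fun s => ⟨(s.1, ⟨s.2.1, (mem_centIn.1 s.2.2).1⟩), (mem_centIn.1 s.2.2).2.symm⟩
        left_inv := fun p => rfl
        right_inv := fun s => rfl }
    have hK : Nat.card ↥(A ⊓ centralizer (B : Set G)) =
        (Finset.univ.filter fun a : A => (a : G) ∈ centralizer (B : Set G)).card := by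
      rw [← Fintype.card_subtype, ← Nat.card_eq_fintype_card]
      exact Nat.card_congr
        { toFun := fun a => ⟨⟨a.1, a.2.1⟩, a.2.2⟩
          invFun := fun a => ⟨a.1.1, a.1.2, a.2⟩
          left_inv := fun a => rfl
          right_inv := fun a => rfl }
    have hf : ∀ a : A, 2 * Nat.card ↥(centIn B (a : G)) =
        Nat.card B + if (a : G) ∈ centralizer (B : Set G) then Nat.card B else 0 := by
      intro a
      by_cases ha : (a : G) ∈ centralizer (B : Set G)
      · have : centIn B (a : G) = B :=
          inf_eq_left.2 fun b hb => mem_centralizer_singleton_iff.2 (mem_centralizer_iff.1 ha b hb)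
        rw [if_pos ha, this]; omega
      · rw [if_neg ha, add_zero]
        obtain ⟨b, hb, hne⟩ : ∃ b ∈ B, b * (a : G) ≠ (a : G) * b := by
          by_contra hcon
          push Not at hcon
          exact ha (mem_centralizer_iff.2 hcon)
        exact two_mul_card_cent (hAz a a.2) hBz (hAB a a.2) hb fun e => hne e.symm
    rw [Nat.card_congr e, Nat.card_sigma, Finset.mul_sum, Finset.sum_congr rfl fun a _ => hf a,
      Finset.sum_add_distrib, ← Finset.sum_filter, Finset.sum_const, Finset.sum_const, hK, Finset.card_univ,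
      smul_eq_mul, smul_eq_mul, Nat.card_eq_fintype_card (α := A)]
  have h' : ∀ q ∈ Q, ∀ t ∈ T, q * t = t * q ∨ q * t = t * q * z := by
    intro q hq t ht
    rcases h t ht q hq with e | e
    · exact Or.inl e.symm
    · refine Or.inr ?_
      rw [e, mul_assoc _ z z, hz, mul_one]
  have h1 := key T Q hTz hQz h
  have h2 := key Q T hQz hTz h'
  have e : {p : T × Q // (p.1 : G) * p.2 = p.2 * p.1} ≃ {p : Q × T // (p.1 : G) * p.2 = p.2 * p.1} :=
    { toFun := fun p => ⟨p.1.swap, p.2.symm⟩
      invFun := fun p => ⟨p.1.swap, p.2.symm⟩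
      left_inv := fun p => rfl
      right_inv := fun p => rfl }
  rw [Nat.card_congr e, h2, mul_comm (Nat.card Q) (Nat.card T)] at h1
  omega

/-- No group with all commutators in `{1, z}` has centre of index eight. -/
theorem no_center_index_eight {T : Subgroup G} {z : G} (hTz : ∀ t ∈ T, t * z = z * t)
    (h : ∀ t ∈ T, ∀ q ∈ T, t * q = q * t ∨ t * q = q * t * z)
    (hidx : 8 * Nat.card ↥(T ⊓ centralizer (T : Set G)) = Nat.card T) : False := by
  set K := T ⊓ centralizer (T : Set G) with hK
  have hKpos : 0 < Nat.card K := Nat.card_pos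
  -- an element that is not central
  obtain ⟨a, ha, b, hb, hab⟩ : ∃ a ∈ T, ∃ b ∈ T, a * b ≠ b * a := by
    by_contra hcon
    push Not at hcon
    have : K = T := inf_eq_left.2 fun a ha => mem_centralizer_iff.2 fun b hb => (hcon a ha b hb).symm
    rw [this] at hidx
    have : 0 < Nat.card T := Nat.card_pos
    omega
  have hA := two_mul_card_cent (hTz a ha) hTz (h a ha) hb hab
  -- the common centraliser
  set A := centIn T a with hAdef
  have haA : a ∈ A := mem_centIn.2 ⟨ha, rfl⟩
  have hB := two_mul_card_cent (Q := A) (hTz b hb) (fun q hq => hTz q hq.1) (fun q hq => h b hb q hq.1) haA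
    fun e => hab e.symm
  set D := centIn A b with hDdef
  have hKD : K ≤ D := by
    intro k hk
    obtain ⟨h1, h2⟩ := hk
    exact mem_centIn.2 ⟨mem_centIn.2 ⟨h1, (mem_centralizer_iff.1 h2 a ha).symm⟩,
      (mem_centralizer_iff.1 h2 b hb).symm⟩
  obtain ⟨k, hkD, hkK⟩ : ∃ k ∈ D, k ∉ K := by
    by_contra hcon
    push Not at hcon
    have : D = K := le_antisymm hcon hKD
    rw [this] at hB
    omega
  obtain ⟨hkA, hkb⟩ := mem_centIn.1 hkD
  obtain ⟨hkT, hka⟩ := mem_centIn.1 hkA
  obtain ⟨c, hc, hkc⟩ : ∃ c ∈ T, k * c ≠ c * k := by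
    by_contra hcon
    push Not at hcon
    exact hkK ⟨hkT, mem_centralizer_iff.2 fun c hc => (hcon c hc).symm⟩
  have hC := two_mul_card_cent (hTz k hkT) hTz (h k hkT) hc hkc
  -- `D` is abelian
  have hDcomm : ∀ x ∈ D, x * k = k * x := by
    intro x hx
    by_cases hxK : x ∈ K
    · exact (mem_centralizer_iff.1 hxK.2 k hkT).symm
    · have hidx2 : (K.subgroupOf D).index = 2 := by
        have h1 := card_mul_index (K.subgroupOf D)
        rw [Nat.card_congr (subgroupOfEquivOfLe hKD).toEquiv] at h1
        have : Nat.card K * (K.subgroupOf D).index = Nat.card K * 2 := by omega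
        exact Nat.eq_of_mul_eq_mul_left hKpos this
      have hm : (⟨k, hkD⟩⁻¹ * ⟨x, hx⟩ : D) ∈ K.subgroupOf D := by
        rw [mul_mem_iff_of_index_two hidx2, inv_mem_iff, mem_subgroupOf, mem_subgroupOf]
        exact iff_of_false hkK hxK
      have hy := mem_centralizer_iff.1 (mem_subgroupOf.1 hm).2 k hkT
      change k * (k⁻¹ * x) = k⁻¹ * x * k at hy
      rw [mul_inv_cancel_left] at hy
      calc x * k = k * (k⁻¹ * x * k) := by group
        _ = k * x := by rw [← hy]
  have haD : a ∉ D := fun hm => hab (mem_centIn.1 hm).2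
  have hDle : D ≤ centIn T k := fun x hx => mem_centIn.2 ⟨(mem_centIn.1 (mem_centIn.1 hx).1).1, hDcomm x hx⟩
  have hinf : A ⊓ centIn T k = A := by
    have h1 : D ≤ A ⊓ centIn T k := le_inf inf_le_left hDle
    have h2 : a ∈ A ⊓ centIn T k := ⟨haA, mem_centIn.2 ⟨ha, hka.symm⟩⟩
    refine eq_of_le_of_card_ge inf_le_left ?_
    have h3 := card_dvd_of_le h1
    have h4 : Nat.card D ≠ Nat.card ↥(A ⊓ centIn T k) := fun e =>
      haD ((eq_of_le_of_card_ge h1 e.ge).symm ▸ h2)
    obtain ⟨m, hm⟩ := h3
    rcases m with _ | _ | m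
    · have := Nat.card_pos (α := ↥(A ⊓ centIn T k)); omega
    · omega
    · rw [hm]; nlinarith
  have hAC : A = centIn T k := eq_of_le_of_card_ge (inf_eq_left.1 hinf) (by omega)
  have hbk : b ∈ centIn T k := mem_centIn.2 ⟨hb, hkb.symm⟩
  rw [← hAC] at hbk
  exact hab (mem_centIn.1 hbk).2.symm

/-- An element normalising a subgroup of order five, of order prime to four, centralises it. -/
theorem cent_five {H : Type*} [Group H] [Finite H] {R : Subgroup H} (hR : Nat.card R = 5) {x : H}
    (hx : x ∈ normalizer (R : Set H)) (hcop : (orderOf x).Coprime 4) : x ∈ centralizer (R : Set H) := by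
  haveI : Fact (Nat.Prime 5) := ⟨by norm_num⟩
  haveI : IsCyclic R := isCyclic_of_prime_card hR
  let φ := normalizerMonoidHom R
  have h1 : φ ⟨x, hx⟩ = 1 := by
    have ha : Nat.card (MulAut R) = 4 := by rw [IsCyclic.card_mulAut, hR]; decide
    have d1 : orderOf (φ ⟨x, hx⟩) ∣ 4 := ha ▸ orderOf_dvd_natCard _
    have d2 : orderOf (φ ⟨x, hx⟩) ∣ orderOf x := by
      have := orderOf_map_dvd φ ⟨x, hx⟩
      rwa [Subgroup.orderOf_mk] at this
    exact orderOf_eq_one_iff.1 (Nat.eq_one_of_dvd_coprimes hcop d2 d1)
  have hk : (⟨x, hx⟩ : normalizer (R : Set H)) ∈ φ.ker := h1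
  rwa [normalizerMonoidHom_ker, mem_subgroupOf] at hk

/-- A group of order `315` has a normal Sylow 7-subgroup. -/
theorem seven_normal_of_card_315 {H : Type*} [Group H] [Finite H] (hH : Nat.card H = 315)
    [Fact (Nat.Prime 7)] : Nat.card (Sylow 7 H) = 1 := by
  haveI : Fact (Nat.Prime 5) := ⟨by norm_num⟩
  have h7c : ∀ P : Sylow 7 H, Nat.card (P : Subgroup H) = 7 := fun P =>
    (SmallSimple.Basic.card_sylow_eq_pow (a := 1) (m := 45) (by rw [hH]; norm_num) (by norm_num) P).trans (by norm_num)
  have h5c : ∀ P : Sylow 5 H, Nat.card (P : Subgroup H) = 5 := fun P =>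
    (SmallSimple.Basic.card_sylow_eq_pow (a := 1) (m := 63) (by rw [hH]; norm_num) (by norm_num) P).trans (by norm_num)
  obtain P : Sylow 7 H := default
  obtain R : Sylow 5 H := default
  have hi7 : (P : Subgroup H).index = 45 := by
    have h := card_mul_index (P : Subgroup H)
    rw [h7c, hH] at h
    omega
  have hn7 : Nat.card (Sylow 7 H) ∣ 45 := hi7 ▸ P.card_dvd_index
  have hm7 := card_sylow_modEq_one 7 H
  by_contra hne
  have h15 : Nat.card (Sylow 7 H) = 15 := by
    have := Nat.le_of_dvd (by norm_num) hn7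
    unfold Nat.ModEq at hm7
    interval_cases hc : Nat.card (Sylow 7 H) <;> omega
  have hNP : Nat.card (normalizer ((P : Subgroup H) : Set H)) = 21 := by
    have h := card_mul_index (normalizer ((P : Subgroup H) : Set H))
    rw [P.coe_coe, ← P.card_eq_index_normalizer, h15, hH] at h
    rw [P.coe_coe]
    omega
  have hi5 : (R : Subgroup H).index = 63 := by
    have h := card_mul_index (R : Subgroup H)
    rw [h5c, hH] at h
    omega
  have hn5 : Nat.card (Sylow 5 H) ∣ 63 := hi5 ▸ R.card_dvd_index
  have hm5 := card_sylow_modEq_one 5 H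
  rcases (show Nat.card (Sylow 5 H) = 1 ∨ Nat.card (Sylow 5 H) = 21 by
    have := Nat.le_of_dvd (by norm_num) hn5
    unfold Nat.ModEq at hm5
    interval_cases hc : Nat.card (Sylow 5 H) <;> omega) with h5 | h5
  · -- a normal subgroup of order five is centralised by the elements of order seven
    haveI : Subsingleton (Sylow 5 H) := Finite.card_le_one_iff_subsingleton.1 h5.le
    haveI : (R : Subgroup H).Normal := Sylow.normal_of_subsingleton R
    have hle : (R : Subgroup H) ≤ normalizer ((P : Subgroup H) : Set H) := by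
      intro r hr
      refine centralizer_le_normalizer _ (mem_centralizer_iff.2 fun x hx => ?_)
      have hxN : x ∈ normalizer ((R : Subgroup H) : Set H) := by
        rw [normalizer_eq_top]; exact mem_top x
      have hc : (orderOf x).Coprime 4 :=
        Nat.Coprime.coprime_dvd_left (h7c P ▸ Subgroup.orderOf_dvd_natCard _ hx) (by norm_num)
      exact (mem_centralizer_iff.1 (cent_five (h5c R) hxN hc) r hr).symm
    have := card_dvd_of_le hle
    rw [h5c, hNP] at this
    norm_num at this
  · -- a normal complement of order sixty-three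
    have hNR : Nat.card (normalizer ((R : Subgroup H) : Set H)) = 15 := by
      have h := card_mul_index (normalizer ((R : Subgroup H) : Set H))
      rw [R.coe_coe, ← R.card_eq_index_normalizer, h5, hH] at h
      rw [R.coe_coe]
      omega
    have hle : normalizer ((R : Subgroup H) : Set H) ≤ centralizer ((R : Subgroup H) : Set H) := fun x hx =>
      cent_five (h5c R) hx (Nat.Coprime.coprime_dvd_left (hNR ▸ Subgroup.orderOf_dvd_natCard _ hx) (by norm_num))
    have hc := MonoidHom.ker_transferSylow_isComplement' R hle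
    set K := (MonoidHom.transferSylow R hle).ker
    have hKc : Nat.card K = 63 := by
      have := hc.card_mul
      rw [h5c, hH] at this
      omega
    haveI hKn : K.Normal := MonoidHom.normal_ker _
    obtain S : Sylow 7 K := default
    have hS : Nat.card (S : Subgroup K) = 7 :=
      (SmallSimple.Basic.card_sylow_eq_pow (a := 1) (m := 9) (by rw [hKc]; norm_num) (by norm_num) S).trans (by norm_num)
    have hK1 : Nat.card (Sylow 7 K) = 1 := by
      have h1 : (S : Subgroup K).index = 9 := by
        have := card_mul_index (S : Subgroup K)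
        rw [hS, hKc] at this
        omega
      have h2 := h1 ▸ S.card_dvd_index
      have h3 := card_sylow_modEq_one 7 K
      have := Nat.le_of_dvd (by norm_num) h2
      unfold Nat.ModEq at h3
      interval_cases hc : Nat.card (Sylow 7 K) <;> omega
    -- every subgroup of order seven lies in the kernel
    have hall : ∀ Q : Sylow 7 H, (Q : Subgroup H) = (S : Subgroup K).map K.subtype := by
      intro Q
      have hQK : (Q : Subgroup H) ≤ K := by
        intro x hx
        rw [← QuotientGroup.eq_one_iff (N := K), ← orderOf_eq_one_iff]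
        have d1 : orderOf (x : H ⧸ K) ∣ 7 :=
          (orderOf_map_dvd (QuotientGroup.mk' K) x).trans (h7c Q ▸ Subgroup.orderOf_dvd_natCard _ hx)
        have d2 : orderOf (x : H ⧸ K) ∣ 5 := by
          have : Nat.card (H ⧸ K) = 5 := by
            have := card_mul_index K
            rw [hKc, hH, index_eq_card] at this
            omega
          exact this ▸ orderOf_dvd_natCard _
        exact Nat.eq_one_of_dvd_coprimes (by norm_num) d1 d2
      haveI : Subsingleton (Sylow 7 K) := Finite.card_le_one_iff_subsingleton.1 hK1.le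
      have : Q.subtype hQK = S := Subsingleton.elim _ _
      rw [← this, Sylow.coe_subtype, subgroupOf_map_subtype, inf_eq_left.2 hQK]
    haveI : Subsingleton (Sylow 7 H) := ⟨fun A B => Sylow.ext ((hall A).trans (hall B).symm)⟩
    exact hne (Nat.card_of_subsingleton P)

end Cfsg.Agent.M24Order
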