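import Cfsg.Agent.Lib.M24Order.Interface
import Cfsg.Agent.Lib.M24Order.Local.Tools
import Cfsg.Agent.Lib.Cores.Basic
import Cfsg.Agent.Lib.SmallSimple.Order168

/-!
# The 2-radical `Q` of `C(z)` and the action of the element `u` of order seven

* `eq_of_fixed`: `u` fixes only `1` and `z` in `Q`; so `card_inv`, `section_fixed`, `section_spec`.
* `Cbar`, `cent_ubar`, `Cbar_simple`: the quotient `C(z)/Q`.
-/

set_option autoImplicit false
set_option linter.style.haveILetI false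

namespace Cfsg.Agent.M24Order.Facts

open Subgroup Cfsg Cfsg.Agent.Cores

variable {G : Type*} [Group G] [Finite G] (F : Facts G)

/-- The centraliser of the involution. -/
abbrev Cz : Subgroup G := centralizer ({F.z} : Set G)

/-- Its largest normal 2-subgroup. -/
def Q : Subgroup G := (pCore 2 ↥F.Cz).map F.Cz.subtype

theorem mem_Cz {g : G} : g ∈ F.Cz ↔ g * F.z = F.z * g := mem_centralizer_singleton_iff

theorem zz : F.z * F.z = 1 := by
  have := pow_orderOf_eq_one F.z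
  rwa [F.z_two, pow_two] at this

theorem z_ne_one : F.z ≠ 1 := fun e => by simpa [e] using F.z_two

theorem u7 : F.u ^ 7 = 1 := by
  have := pow_orderOf_eq_one F.u
  rwa [F.u_seven] at this

theorem u_ne_one : F.u ≠ 1 := fun e => by simpa [e] using F.u_seven

theorem z_mem_Cz : F.z ∈ F.Cz := F.mem_Cz.2 rfl

theorem u_mem_Cz : F.u ∈ F.Cz := F.mem_Cz.2 F.uz

theorem Q_le : F.Q ≤ F.Cz := map_subtype_le _

theorem card_Q : Nat.card F.Q = Nat.card (pCore 2 ↥F.Cz) := card_subtype _ _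

theorem Q_pgroup : IsPGroup 2 F.Q := (pCore_isPGroup 2).map _

theorem mem_Q {y : G} (hy : y ∈ F.Cz) : y ∈ F.Q ↔ (⟨y, hy⟩ : F.Cz) ∈ pCore 2 ↥F.Cz :=
  ⟨fun ⟨x, hx, e⟩ => by rwa [show (⟨y, hy⟩ : F.Cz) = x from Subtype.ext e.symm],
    fun h => ⟨⟨y, hy⟩, h, rfl⟩⟩

theorem conj_mem_Q {c y : G} (hc : c ∈ F.Cz) (hy : y ∈ F.Q) : c * y * c⁻¹ ∈ F.Q := by
  obtain ⟨x, hx, rfl⟩ := hy
  exact ⟨⟨c, hc⟩ * x * ⟨c, hc⟩⁻¹, (pCore_normal 2 ↥F.Cz).conj_mem x hx _, rfl⟩

/-- A 2-subgroup of `C(z)` normalised by it lies in `Q`. -/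
theorem le_Q {N : Subgroup G} (hN : IsPGroup 2 N) (hle : N ≤ F.Cz)
    (hn : ∀ c ∈ F.Cz, ∀ y ∈ N, c * y * c⁻¹ ∈ N) : N ≤ F.Q := by
  haveI : (N.subgroupOf F.Cz).Normal := ⟨fun y hy c => hn c c.2 y hy⟩
  have h : N.subgroupOf F.Cz ≤ pCore 2 ↥F.Cz :=
    le_pCore (hN.comap_of_injective _ F.Cz.subtype_injective)
  exact fun y hy => ⟨⟨y, hle hy⟩, h (mem_subgroupOf.2 hy), rfl⟩

theorem z_mem_Q : F.z ∈ F.Q := by
  haveI : Fact (Nat.Prime 2) := ⟨Nat.prime_two⟩
  refine F.le_Q (N := zpowers F.z) (IsPGroup.of_card (n := 1) (by rw [Nat.card_zpowers, F.z_two, pow_one]))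
    (zpowers_le.2 F.z_mem_Cz) (fun c hc y hy => ?_) (mem_zpowers _)
  obtain ⟨k, rfl⟩ := hy
  have : c * F.z ^ k * c⁻¹ = F.z ^ k := by
    rw [← conj_zpow, F.mem_Cz.1 hc, mul_inv_cancel_right]
  rw [this]
  exact zpow_mem (mem_zpowers _) k

theorem two_pow_orderOf {y : G} (hy : y ∈ F.Q) : ∃ n, orderOf y = 2 ^ n := by
  haveI : Fact (Nat.Prime 2) := ⟨Nat.prime_two⟩
  obtain ⟨n, hn⟩ := IsPGroup.iff_orderOf.1 F.Q_pgroup ⟨y, hy⟩
  exact ⟨n, by rwa [Subgroup.orderOf_mk] at hn⟩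

/-- `u` fixes only `1` and `z` in `Q`. -/
theorem eq_of_fixed {y : G} (hy : y ∈ F.Q) (hc : F.u * y = y * F.u) : y = 1 ∨ y = F.z := by
  set H := F.Cz ⊓ centralizer ({F.u} : Set G) with hH
  have hcard : Nat.card H = 14 := F.card_Czu
  have huH : F.u ∈ H := ⟨F.u_mem_Cz, mem_centralizer_singleton_iff.2 rfl⟩
  have hzH : F.z ∈ H := ⟨F.z_mem_Cz, mem_centralizer_singleton_iff.2 F.uz.symm⟩
  have hyH : y ∈ H := ⟨F.Q_le hy, mem_centralizer_singleton_iff.2 hc.symm⟩
  set U := (zpowers F.u).subgroupOf H with hU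
  have hidx : U.index = 2 := by
    have h := card_mul_index U
    rw [hU, Nat.card_congr (subgroupOfEquivOfLe (zpowers_le.2 huH)).toEquiv, Nat.card_zpowers, F.u_seven,
      hcard] at h
    rw [hU]; omega
  obtain ⟨n, hn⟩ := F.two_pow_orderOf hy
  have h1 : ∀ x : H, (∃ m, orderOf (x : G) = 2 ^ m) → x ∈ U → (x : G) = 1 := by
    rintro x ⟨m, hm⟩ hx
    have h7 : orderOf (x : G) ∣ 7 := F.u_seven ▸ orderOf_dvd_of_mem_zpowers (mem_subgroupOf.1 hx)
    rw [← orderOf_eq_one_iff]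
    exact Nat.eq_one_of_dvd_coprimes (Nat.Coprime.pow_left m (by norm_num)) (dvd_of_eq hm) h7
  by_cases hyU : (⟨y, hyH⟩ : H) ∈ U
  · exact Or.inl (h1 ⟨y, hyH⟩ ⟨n, hn⟩ hyU)
  have hzU : (⟨F.z, hzH⟩ : H) ∉ U := fun h => F.z_ne_one (h1 ⟨F.z, hzH⟩ ⟨1, by rw [F.z_two]; rfl⟩ h)
  have hm : (⟨y, hyH⟩ * ⟨F.z, hzH⟩ : H) ∈ U := (mul_mem_iff_of_index_two hidx).2 (iff_of_false hyU hzU)
  have := h1 _ (F.two_pow_orderOf (y := y * F.z) (mul_mem hy F.z_mem_Q)) hm
  exact Or.inr ((eq_inv_of_mul_eq_one_left this).trans (inv_eq_of_mul_eq_one_right F.zz))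

theorem dvd_of_no_fixed (T : Set G) (hT : ∀ x ∈ T, F.u * x * F.u⁻¹ ∈ T)
    (hfix : ∀ x ∈ T, F.u * x ≠ x * F.u) : 7 ∣ Nat.card T := by
  haveI : Fact (Nat.Prime 7) := ⟨by norm_num⟩
  have hTk : ∀ k : ℕ, ∀ x ∈ T, F.u ^ k * x * (F.u ^ k)⁻¹ ∈ T := by
    intro k
    induction k with
    | zero => intro x hx; simpa using hx
    | succ k ih =>
      intro x hx
      have := hT _ (ih x hx)
      rwa [show F.u ^ (k + 1) * x * (F.u ^ (k + 1))⁻¹ = F.u * (F.u ^ k * x * (F.u ^ k)⁻¹) * F.u⁻¹ by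
        rw [pow_succ']; group]
  have hmem : ∀ a : zpowers F.u, ∀ x ∈ T, (a : G) * x * (a : G)⁻¹ ∈ T := by
    intro a x hx
    obtain ⟨k, hk⟩ := (Submonoid.mem_powers_iff _ _).1 (mem_powers_iff_mem_zpowers.2 a.2)
    rw [← hk]
    exact hTk k x hx
  letI : MulAction (zpowers F.u) T :=
    { smul := fun a x => ⟨(a : G) * x * (a : G)⁻¹, hmem a x x.2⟩
      one_smul := fun x => Subtype.ext (show (1 : G) * x * (1 : G)⁻¹ = x by group)
      mul_smul := fun a b x => Subtype.ext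
        (show ((a : G) * b) * x * ((a : G) * b)⁻¹ = (a : G) * ((b : G) * x * (b : G)⁻¹) * (a : G)⁻¹ by group) }
  have hp : IsPGroup 7 (zpowers F.u) := IsPGroup.of_card (n := 1) (by rw [Nat.card_zpowers, F.u_seven, pow_one])
  have h := hp.card_modEq_card_fixedPoints (α := T)
  haveI : IsEmpty (MulAction.fixedPoints (zpowers F.u) T) := ⟨fun x => hfix _ x.1.2 (by
    have h2 : (F.u * (x.1 : G) * F.u⁻¹ : G) = x.1 := congrArg Subtype.val (x.2 ⟨F.u, mem_zpowers _⟩)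
    exact mul_inv_eq_iff_eq_mul.1 h2)⟩
  rw [Nat.card_of_isEmpty (α := MulAction.fixedPoints (zpowers F.u) T)] at h
  exact Nat.modEq_zero_iff_dvd.1 h

theorem pow_card {X : Subgroup G} (hX : X ≤ F.Q) : ∃ n ≤ 10, Nat.card X = 2 ^ n := by
  haveI : Fact (Nat.Prime 2) := ⟨Nat.prime_two⟩
  obtain ⟨n, hn⟩ := IsPGroup.iff_card.1 (F.Q_pgroup.to_le hX)
  refine ⟨n, ?_, hn⟩
  have h : 2 ^ n ∣ 2 ^ 10 * 21 := by
    rw [← hn, show 2 ^ 10 * 21 = 21504 by norm_num, ← F.card_Cz]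
    exact card_dvd_of_le (hX.trans F.Q_le)
  exact Nat.pow_dvd_pow_iff_le_right (by norm_num) |>.1
    ((Nat.Coprime.pow_left n (by norm_num)).dvd_of_dvd_mul_right h)

/-- The orders of the `u`-invariant subgroups of `Q` containing `z`. -/
theorem card_inv {X : Subgroup G} (hX : X ≤ F.Q) (hz : F.z ∈ X) (hu : ∀ x ∈ X, F.u * x * F.u⁻¹ ∈ X) :
    Nat.card X = 2 ∨ Nat.card X = 16 ∨ Nat.card X = 128 ∨ Nat.card X = 1024 := by
  have h := F.dvd_of_no_fixed ((X : Set G) \ {1, F.z}) (fun x hx => by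
      refine ⟨hu x hx.1, fun h => hx.2 ?_⟩
      simp only [Set.mem_insert_iff, Set.mem_singleton_iff] at h ⊢
      rcases h with h | h
      · exact Or.inl (conj_eq_one_iff.1 h)
      · right
        calc x = F.u⁻¹ * (F.u * x * F.u⁻¹) * F.u := by group
          _ = F.u⁻¹ * (F.z * F.u) := by rw [h, mul_assoc]
          _ = F.z := by rw [← F.uz, inv_mul_cancel_left])
    (fun x hx e => hx.2 (by
      simp only [Set.mem_insert_iff, Set.mem_singleton_iff]
      exact F.eq_of_fixed (hX hx.1) e))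
  have hsub : ({1, F.z} : Set G) ⊆ (X : Set G) := by
    rintro x (rfl | rfl)
    exacts [one_mem X, hz]
  rw [Nat.card_coe_set_eq, Set.ncard_diff hsub (Set.toFinite _), Set.ncard_pair (Ne.symm F.z_ne_one),
    ← Nat.card_coe_set_eq] at h
  obtain ⟨n, hn, hc⟩ := F.pow_card hX
  replace h : 7 ∣ Nat.card X - 2 := h
  have hn0 : n ≠ 0 := fun e => by
    rw [e, pow_zero] at hc
    exact F.z_ne_one ((Subgroup.eq_bot_of_card_eq X hc) ▸ hz : F.z ∈ (⊥ : Subgroup G))
  rw [hc] at h ⊢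
  interval_cases n <;> revert h hn0 <;> decide

theorem Q_cases : Nat.card F.Q = 2 ∨ Nat.card F.Q = 16 ∨ Nat.card F.Q = 128 ∨ Nat.card F.Q = 1024 :=
  F.card_inv le_rfl F.z_mem_Q fun _ hx => F.conj_mem_Q F.u_mem_Cz hx

/-- `u` fixes no non-trivial element of a section. -/
theorem section_fixed {Z : Subgroup G} (hZ : Z ≤ F.Q) (hz : F.z ∈ Z)
    (hu : ∀ x ∈ Z, F.u * x * F.u⁻¹ ∈ Z) {a : G} (ha : a ∈ F.Q) (hfix : a⁻¹ * (F.u * a * F.u⁻¹) ∈ Z) :
    a ∈ Z := by
  set T : Set G := {y | a⁻¹ * y ∈ Z}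
  have hT : ∀ y ∈ T, F.u * y * F.u⁻¹ ∈ T := by
    intro y hy
    show a⁻¹ * (F.u * y * F.u⁻¹) ∈ Z
    have := mul_mem hfix (hu _ hy)
    rwa [show a⁻¹ * (F.u * a * F.u⁻¹) * (F.u * (a⁻¹ * y) * F.u⁻¹) = a⁻¹ * (F.u * y * F.u⁻¹) by group] at this
  by_contra haZ
  have h7 := F.dvd_of_no_fixed T hT fun y hy e => by
    have hyQ : y ∈ F.Q := by
      have := mul_mem ha (hZ hy)
      rwa [mul_inv_cancel_left] at this
    have hyZ : y ∈ Z := by
      rcases F.eq_of_fixed hyQ e with rfl | rfl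
      exacts [one_mem Z, hz]
    apply haZ
    have := mul_mem hyZ (inv_mem (show a⁻¹ * y ∈ Z from hy))
    rwa [show y * (a⁻¹ * y)⁻¹ = a by group] at this
  have hc : Nat.card T = Nat.card Z := Nat.card_congr
    { toFun := fun y => ⟨a⁻¹ * y.1, y.2⟩
      invFun := fun x => ⟨a * x.1, by show a⁻¹ * (a * (x : G)) ∈ Z; rw [inv_mul_cancel_left]; exact x.2⟩
      left_inv := fun y => Subtype.ext (mul_inv_cancel_left a y.1)
      right_inv := fun x => Subtype.ext (inv_mul_cancel_left a x.1) }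
  obtain ⟨n, -, hn⟩ := F.pow_card hZ
  rw [hc, hn] at h7
  exact absurd ((Nat.prime_dvd_prime_iff_eq (by norm_num) Nat.prime_two).1
    ((show Nat.Prime 7 by norm_num).dvd_of_dvd_pow h7)) (by norm_num)

/-- A section of order eight: `u` is transitive on it, and it is elementary abelian. -/
theorem section_spec {Z R : Subgroup G} (hR : R ≤ F.Q) (hZR : Z ≤ R) (hz : F.z ∈ Z)
    (hn : ∀ c ∈ R, ∀ x ∈ Z, c * x * c⁻¹ ∈ Z) (huZ : ∀ x ∈ Z, F.u * x * F.u⁻¹ ∈ Z)
    (huR : ∀ x ∈ R, F.u * x * F.u⁻¹ ∈ R) (hidx : 8 * Nat.card Z = Nat.card R) :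
    (∀ a ∈ R, a ∉ Z → ∀ b ∈ R, b ∉ Z → ∃ i < 7, (F.u ^ i * a * (F.u ^ i)⁻¹)⁻¹ * b ∈ Z) ∧
      (∀ a ∈ R, a * a ∈ Z) ∧ (∀ a ∈ R, ∀ b ∈ R, a⁻¹ * b⁻¹ * a * b ∈ Z) := by
  classical
  haveI : (Z.subgroupOf R).Normal := ⟨fun x hx c => hn c c.2 x hx⟩
  have hq : Nat.card (R ⧸ Z.subgroupOf R) = 8 := by
    have h := card_mul_index (Z.subgroupOf R)
    rw [Nat.card_congr (subgroupOfEquivOfLe hZR).toEquiv, index_eq_card, ← hidx, mul_comm 8] at h
    exact Nat.eq_of_mul_eq_mul_left Nat.card_pos h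
  have hpow : ∀ k : ℕ, ∀ x ∈ R, F.u ^ k * x * (F.u ^ k)⁻¹ ∈ R := by
    intro k
    induction k with
    | zero => intro x hx; simpa using hx
    | succ k ih =>
      intro x hx
      rw [show F.u ^ (k + 1) * x * (F.u ^ (k + 1))⁻¹ = F.u * (F.u ^ k * x * (F.u ^ k)⁻¹) * F.u⁻¹ by
        rw [pow_succ']; group]
      exact huR _ (ih x hx)
  have hpowZ : ∀ k : ℕ, ∀ x ∈ Z, F.u ^ k * x * (F.u ^ k)⁻¹ ∈ Z := by
    intro k
    induction k with
    | zero => intro x hx; simpa using hx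
    | succ k ih =>
      intro x hx
      rw [show F.u ^ (k + 1) * x * (F.u ^ (k + 1))⁻¹ = F.u * (F.u ^ k * x * (F.u ^ k)⁻¹) * F.u⁻¹ by
        rw [pow_succ']; group]
      exact huZ _ (ih x hx)
  have mk_eq : ∀ a b : R, (a : R ⧸ Z.subgroupOf R) = b ↔ (a : G)⁻¹ * b ∈ Z := fun a b => by
    rw [QuotientGroup.eq, mem_subgroupOf]; rfl
  have trans : ∀ a ∈ R, a ∉ Z → ∀ b ∈ R, b ∉ Z → ∃ i < 7, (F.u ^ i * a * (F.u ^ i)⁻¹)⁻¹ * b ∈ Z := by
    intro a ha haZ b hb hbZ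
    let f : Fin 7 → {q : R ⧸ Z.subgroupOf R // q ≠ 1} := fun i =>
      ⟨(⟨_, hpow i a ha⟩ : R), fun e => by
        rw [QuotientGroup.eq_one_iff, mem_subgroupOf] at e
        apply haZ
        have h7 := hpowZ (7 - i) _ e
        rwa [show F.u ^ (7 - (i : ℕ)) * (F.u ^ (i : ℕ) * a * (F.u ^ (i : ℕ))⁻¹) * (F.u ^ (7 - (i : ℕ)))⁻¹ =
          F.u ^ (7 - (i : ℕ) + i) * a * (F.u ^ (7 - (i : ℕ) + i))⁻¹ by rw [pow_add]; group,
          Nat.sub_add_cancel i.isLt.le, F.u7, one_mul, inv_one, mul_one] at h7⟩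
    have hinj : Function.Injective f := by
      intro i j e
      have e' := (mk_eq _ _).1 (congrArg Subtype.val e :)
      simp only at e'
      by_contra hne
      wlog hij : (i : ℕ) < j generalizing i j
      · refine this (i := j) (j := i) e.symm ?_ (Ne.symm hne) (lt_of_le_of_ne (not_lt.1 hij) fun h => hne (Fin.ext h.symm))
        have := inv_mem e'
        simpa [mul_inv_rev] using this
      obtain ⟨k, hk⟩ : ∃ k, (j : ℕ) = i + k := ⟨j - i, by omega⟩
      have hk0 : 0 < k ∧ k < 7 := ⟨by omega, by omega⟩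
      -- the element `u ^ k` fixes the coset of `a`
      have h0 : a⁻¹ * (F.u ^ k * a * (F.u ^ k)⁻¹) ∈ Z := by
        have h7 := hpowZ (7 - i) _ e'
        rw [hk, pow_add] at h7
        rwa [show F.u ^ (7 - (i : ℕ)) * ((F.u ^ (i : ℕ) * a * (F.u ^ (i : ℕ))⁻¹)⁻¹ *
            (F.u ^ (i : ℕ) * F.u ^ k * a * (F.u ^ (i : ℕ) * F.u ^ k)⁻¹)) * (F.u ^ (7 - (i : ℕ)))⁻¹ =
          F.u ^ (7 - (i : ℕ) + i) * (a⁻¹ * (F.u ^ k * a * (F.u ^ k)⁻¹)) * (F.u ^ (7 - (i : ℕ) + i))⁻¹ by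
            rw [pow_add]; group,
          Nat.sub_add_cancel i.isLt.le, F.u7, one_mul, inv_one, mul_one] at h7
      have hiter : ∀ m : ℕ, a⁻¹ * ((F.u ^ k) ^ m * a * ((F.u ^ k) ^ m)⁻¹) ∈ Z := by
        intro m
        induction m with
        | zero => simp
        | succ m ih =>
          have := mul_mem h0 (hpowZ k _ ih)
          rwa [show a⁻¹ * (F.u ^ k * a * (F.u ^ k)⁻¹) * (F.u ^ k * (a⁻¹ * ((F.u ^ k) ^ m * a * ((F.u ^ k) ^ m)⁻¹)) *
            (F.u ^ k)⁻¹) = a⁻¹ * ((F.u ^ k) ^ (m + 1) * a * ((F.u ^ k) ^ (m + 1))⁻¹) by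
              rw [pow_succ']; group] at this
      obtain ⟨m, hm⟩ : ∃ m, k * m % 7 = 1 := by
        have : ∀ k < 7, 0 < k → ∃ m < 7, k * m % 7 = 1 := by decide
        obtain ⟨m, -, hm⟩ := this k hk0.2 hk0.1
        exact ⟨m, hm⟩
      have h1 := hiter m
      have hpm : (F.u ^ k) ^ m = F.u := by
        rw [← pow_mul, ← pow_mod_orderOf, F.u_seven, hm, pow_one]
      rw [hpm] at h1
      exact haZ (F.section_fixed (hZR.trans hR) hz huZ (hR ha) h1)
    have hcard : Nat.card {q : R ⧸ Z.subgroupOf R // q ≠ 1} = 7 := by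
      haveI := Fintype.ofFinite (R ⧸ Z.subgroupOf R)
      rw [Nat.card_eq_fintype_card, Fintype.card_subtype_compl, Fintype.card_subtype_eq,
        ← Nat.card_eq_fintype_card, hq]
    obtain ⟨i, hi⟩ := ((Nat.bijective_iff_injective_and_card f).2 ⟨hinj, by rw [hcard, Nat.card_fin]⟩).2
      ⟨((⟨b, hb⟩ : R) : R ⧸ Z.subgroupOf R), fun e => hbZ (mem_subgroupOf.1 ((QuotientGroup.eq_one_iff _).1 e))⟩
    exact ⟨i, i.isLt, (mk_eq _ _).1 (congrArg Subtype.val hi :)⟩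
  -- an element of order two in the section
  haveI : Fact (Nat.Prime 2) := ⟨Nat.prime_two⟩
  obtain ⟨q, hq2⟩ := exists_prime_orderOf_dvd_card' (G := R ⧸ Z.subgroupOf R) 2 (by rw [hq]; norm_num)
  obtain ⟨⟨a₀, ha₀⟩, rfl⟩ := QuotientGroup.mk_surjective q
  have ha₀Z : a₀ ∉ Z := fun h => by
    rw [(QuotientGroup.eq_one_iff _).2 (mem_subgroupOf.2 h), orderOf_one] at hq2
    norm_num at hq2
  have hsq₀ : a₀ * a₀ ∈ Z := by
    have h := pow_orderOf_eq_one ((⟨a₀, ha₀⟩ : R) : R ⧸ Z.subgroupOf R)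
    rw [hq2, pow_two, ← QuotientGroup.mk_mul, QuotientGroup.eq_one_iff, mem_subgroupOf] at h
    exact h
  have hqsq : ∀ x : R ⧸ Z.subgroupOf R, x * x = 1 := by
    intro x
    obtain ⟨⟨b, hb⟩, rfl⟩ := QuotientGroup.mk_surjective x
    by_cases hbZ : b ∈ Z
    · rw [(QuotientGroup.eq_one_iff _).2 (mem_subgroupOf.2 hbZ), mul_one]
    obtain ⟨i, -, hi⟩ := trans a₀ ha₀ ha₀Z b hb hbZ
    rw [← (mk_eq ⟨_, hpow i a₀ ha₀⟩ ⟨b, hb⟩).2 hi, ← QuotientGroup.mk_mul, QuotientGroup.eq_one_iff, mem_subgroupOf]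
    show F.u ^ i * a₀ * (F.u ^ i)⁻¹ * (F.u ^ i * a₀ * (F.u ^ i)⁻¹) ∈ Z
    rw [show F.u ^ i * a₀ * (F.u ^ i)⁻¹ * (F.u ^ i * a₀ * (F.u ^ i)⁻¹) = F.u ^ i * (a₀ * a₀) * (F.u ^ i)⁻¹ by
      group]
    exact hpowZ i _ hsq₀
  refine ⟨trans, fun a ha => ?_, fun a ha b hb => ?_⟩
  · have := hqsq ((⟨a, ha⟩ : R) : R ⧸ Z.subgroupOf R)
    rwa [← QuotientGroup.mk_mul, QuotientGroup.eq_one_iff, mem_subgroupOf] at this
  · let A : R ⧸ Z.subgroupOf R := ((⟨a, ha⟩ : R) : R ⧸ Z.subgroupOf R)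
    let B : R ⧸ Z.subgroupOf R := ((⟨b, hb⟩ : R) : R ⧸ Z.subgroupOf R)
    have hinv : ∀ x : R ⧸ Z.subgroupOf R, x⁻¹ = x := fun x => inv_eq_of_mul_eq_one_right (hqsq x)
    have h1 : A⁻¹ * B⁻¹ * A * B = 1 := by rw [hinv A, hinv B, mul_assoc, hqsq]
    have h2 : ((((⟨a, ha⟩ : R)⁻¹ * (⟨b, hb⟩ : R)⁻¹ * ⟨a, ha⟩ * ⟨b, hb⟩ : R)) : R ⧸ Z.subgroupOf R) = 1 := h1
    exact mem_subgroupOf.1 ((QuotientGroup.eq_one_iff _).1 h2)

/-- The quotient `C(z)/Q`. -/
abbrev Cbar : Type _ := ↥F.Cz ⧸ pCore 2 ↥F.Cz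

theorem card_Cbar : Nat.card F.Cbar * Nat.card F.Q = 21504 := by
  rw [F.card_Q, ← F.card_Cz, card_eq_card_quotient_mul_card_subgroup (pCore 2 ↥F.Cz)]

/-- The image of the element of order seven. -/
abbrev ubar : F.Cbar := QuotientGroup.mk ⟨F.u, F.u_mem_Cz⟩

theorem orderOf_ubar : orderOf F.ubar = 7 := by
  haveI : Fact (Nat.Prime 7) := ⟨by norm_num⟩
  have h7 : (⟨F.u, F.u_mem_Cz⟩ : F.Cz) ^ 7 = 1 := Subtype.ext F.u7
  refine orderOf_eq_prime (by rw [← QuotientGroup.mk_pow, h7]; rfl) fun e => ?_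
  obtain ⟨n, hn⟩ := F.two_pow_orderOf ((F.mem_Q F.u_mem_Cz).2 ((QuotientGroup.eq_one_iff _).1 e))
  rw [F.u_seven] at hn
  have : (7 : ℕ) = 2 := (Nat.prime_dvd_prime_iff_eq (by norm_num) Nat.prime_two).1
    ((show Nat.Prime 7 by norm_num).dvd_of_dvd_pow (dvd_of_eq hn))
  norm_num at this

/-- Frattini: an element normalising `<u>` modulo `Q` is `Q` times an element of `N(<u>)`. -/
theorem exists_q {c : F.Cz} (hc : (c : F.Cbar) ∈ normalizer (zpowers F.ubar : Set F.Cbar)) :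
    ∃ q ∈ F.Q, q * (c : G) ∈ normalizer (zpowers F.u : Set G) := by
  haveI : Fact (Nat.Prime 7) := ⟨by norm_num⟩
  set uC : F.Cz := ⟨F.u, F.u_mem_Cz⟩
  set H : Subgroup F.Cz := (zpowers F.ubar).comap (QuotientGroup.mk' (pCore 2 ↥F.Cz)) with hH
  have hu : uC ∈ H := mem_zpowers F.ubar
  have hcu : c * uC * c⁻¹ ∈ H := (mem_normalizer_iff.1 hc F.ubar).1 (mem_zpowers _)
  obtain ⟨n, -, hn⟩ := F.pow_card (le_refl F.Q)
  have hHc : Nat.card H = 7 * 2 ^ n := by
    have h1 : (zpowers F.ubar).index = H.index :=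
      (index_comap_of_surjective (f := QuotientGroup.mk' (pCore 2 ↥F.Cz)) _ (QuotientGroup.mk'_surjective _)).symm
    have h2 := card_mul_index H
    have h3 := card_mul_index (zpowers F.ubar)
    rw [Nat.card_zpowers, F.orderOf_ubar] at h3
    have h4 := F.card_Cbar
    rw [F.card_Cz] at h2
    rw [hn] at h4
    have hpos : 0 < H.index := Nat.pos_of_ne_zero H.index_ne_zero_of_finite
    refine Nat.eq_of_mul_eq_mul_right hpos ?_
    rw [h2, ← h4, ← h3, h1]
    ring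
  have h7 : ∀ x : F.Cz, x ∈ H → orderOf x = 7 → ∃ P : Sylow 7 H, (P : Subgroup H) = (zpowers x).subgroupOf H := by
    intro x hx hox
    refine ⟨Sylow.ofCard ((zpowers x).subgroupOf H) ?_, Sylow.coe_ofCard _ _⟩
    rw [Nat.card_congr (subgroupOfEquivOfLe (zpowers_le.2 hx)).toEquiv, Nat.card_zpowers, hox, hHc,
      Nat.factorization_def _ (by norm_num : Nat.Prime 7), padicValNat.mul (by norm_num) (by positivity),
      padicValNat.self (by norm_num), padicValNat.eq_zero_of_not_dvd fun h => by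
        have := (Nat.prime_dvd_prime_iff_eq (by norm_num) Nat.prime_two).1
          ((show Nat.Prime 7 by norm_num).dvd_of_dvd_pow h)
        norm_num at this]
    norm_num
  have hou : orderOf uC = 7 := by rw [← Subgroup.orderOf_coe]; exact F.u_seven
  obtain ⟨P1, hP1⟩ := h7 uC hu hou
  obtain ⟨P2, hP2⟩ := h7 _ hcu (by rw [show c * uC * c⁻¹ = MulAut.conj c uC from rfl, MulEquiv.orderOf_eq, hou])
  obtain ⟨⟨g, hg⟩, hgP⟩ := MulAction.exists_smul_eq H P2 P1
  -- `g` is a power of `u` times an element of `Q`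
  obtain ⟨k, hk⟩ := mem_zpowers_iff.1 (show (g : F.Cbar) ∈ zpowers F.ubar from hg)
  have hq : (uC ^ k)⁻¹ * g ∈ pCore 2 ↥F.Cz := by
    rw [← QuotientGroup.eq]
    exact (QuotientGroup.mk_zpow _ _ _).trans hk
  refine ⟨((uC ^ k)⁻¹ * g : F.Cz), ⟨_, hq, rfl⟩, ?_⟩
  -- conjugation by `g * c` fixes the subgroup generated by `u`
  have hmem : g * (c * uC * c⁻¹) * g⁻¹ ∈ zpowers uC := by
    have h1 : (⟨g * (c * uC * c⁻¹) * g⁻¹, mul_mem (mul_mem hg hcu) (inv_mem hg)⟩ : H) ∈ (P1 : Subgroup H) := by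
      rw [← hgP]
      exact ⟨⟨c * uC * c⁻¹, hcu⟩, by rw [hP2]; exact mem_subgroupOf.2 (mem_zpowers _), rfl⟩
    rw [hP1] at h1
    exact mem_subgroupOf.1 h1
  have key : ∀ w : G, w * F.u * w⁻¹ ∈ zpowers F.u → w ∈ normalizer (zpowers F.u : Set G) := by
    intro w hw
    have hmap : (zpowers F.u).map (MulAut.conj w).toMonoidHom = zpowers F.u := by
      rw [MonoidHom.map_zpowers]
      refine eq_of_le_of_card_ge (zpowers_le.2 hw) (le_of_eq ?_)
      rw [Nat.card_zpowers, Nat.card_zpowers]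
      exact (MulEquiv.orderOf_eq (MulAut.conj w) F.u).symm
    rw [mem_normalizer_iff]
    intro y
    conv_rhs => rw [← hmap, mem_map_equiv, MulAut.conj_symm_apply]
    simp [mul_assoc]
  apply key
  obtain ⟨l, hl⟩ := mem_zpowers_iff.1 hmem
  have hl' : F.u ^ l = (g : G) * ((c : G) * F.u * (c : G)⁻¹) * (g : G)⁻¹ := by
    simpa [uC] using congrArg Subtype.val hl
  refine mem_zpowers_iff.2 ⟨l, ?_⟩
  simp only [Subgroup.coe_mul, Subgroup.coe_inv, SubgroupClass.coe_zpow, uC]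
  calc F.u ^ l = (F.u ^ k)⁻¹ * F.u ^ l * F.u ^ k := by group
    _ = _ := by rw [hl']; group

/-- In the quotient, `u` generates its centraliser. -/
theorem cent_ubar : centralizer ({F.ubar} : Set F.Cbar) = zpowers F.ubar := by
  refine le_antisymm (fun x hx => ?_) (zpowers_le.2 (mem_centralizer_singleton_iff.2 rfl))
  obtain ⟨c, rfl⟩ := QuotientGroup.mk_surjective x
  have hcomm := mem_centralizer_singleton_iff.1 hx
  have hN : (c : F.Cbar) ∈ normalizer (zpowers F.ubar : Set F.Cbar) := by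
    refine centralizer_le_normalizer _ (mem_centralizer_iff.2 ?_)
    rintro y ⟨k, rfl⟩
    exact ((Commute.zpow_left (a := F.ubar) (b := (c : F.Cbar)) hcomm.symm k)).eq
  obtain ⟨q, hq, hqc⟩ := F.exists_q hN
  set w : F.Cz := ⟨q, F.Q_le hq⟩ * c with hw
  have hwm : (w : F.Cbar) = c := by
    rw [hw, QuotientGroup.mk_mul, (QuotientGroup.eq_one_iff _).2 ((F.mem_Q (F.Q_le hq)).1 hq), one_mul]
  -- `w` centralises `u`
  have hcent : (w : G) * F.u = F.u * w := by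
    set uC : F.Cz := ⟨F.u, F.u_mem_Cz⟩
    have h1 : ((w * uC * w⁻¹ * uC⁻¹ : F.Cz) : F.Cbar) = 1 := by
      rw [QuotientGroup.mk_mul, QuotientGroup.mk_mul, QuotientGroup.mk_mul, hwm, QuotientGroup.mk_inv,
        QuotientGroup.mk_inv, hwm, hcomm, mul_inv_cancel_right, mul_inv_cancel]
    rw [QuotientGroup.eq_one_iff] at h1
    have h2 : (w : G) * F.u * (w : G)⁻¹ * F.u⁻¹ ∈ zpowers F.u :=
      mul_mem ((mem_normalizer_iff.1 (show (w : G) ∈ _ from hqc) F.u).1 (mem_zpowers _)) (inv_mem (mem_zpowers _))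
    obtain ⟨n, hn⟩ := F.two_pow_orderOf (y := (w : G) * F.u * (w : G)⁻¹ * F.u⁻¹) ⟨_, h1, rfl⟩
    have h7 : orderOf ((w : G) * F.u * (w : G)⁻¹ * F.u⁻¹) ∣ 7 := F.u_seven ▸ orderOf_dvd_of_mem_zpowers h2
    have := orderOf_eq_one_iff.1 (Nat.eq_one_of_dvd_coprimes (Nat.Coprime.pow_left n (by norm_num)) (dvd_of_eq hn) h7)
    exact mul_inv_eq_iff_eq_mul.1 (mul_inv_eq_one.1 this)
  have hwH : (w : G) ∈ F.Cz ⊓ centralizer ({F.u} : Set G) := ⟨w.2, mem_centralizer_singleton_iff.2 hcent⟩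
  -- so it lies in `<u> × <z>`
  set H := F.Cz ⊓ centralizer ({F.u} : Set G)
  have huH : F.u ∈ H := ⟨F.u_mem_Cz, mem_centralizer_singleton_iff.2 rfl⟩
  have hzH : F.z ∈ H := ⟨F.z_mem_Cz, mem_centralizer_singleton_iff.2 F.uz.symm⟩
  have hidx : ((zpowers F.u).subgroupOf H).index = 2 := by
    have h := card_mul_index ((zpowers F.u).subgroupOf H)
    rw [Nat.card_congr (subgroupOfEquivOfLe (zpowers_le.2 huH)).toEquiv, Nat.card_zpowers, F.u_seven,
      show Nat.card H = 14 from F.card_Czu] at h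
    omega
  have conc : ∀ v : F.Cz, (v : G) ∈ zpowers F.u → (v : F.Cbar) ∈ zpowers F.ubar := by
    rintro v ⟨k, hk⟩
    refine ⟨k, ?_⟩
    show F.ubar ^ k = (v : F.Cbar)
    rw [← QuotientGroup.mk_zpow, show (⟨F.u, F.u_mem_Cz⟩ : F.Cz) ^ k = v from Subtype.ext (by simpa using hk)]
  rw [← hwm]
  by_cases hwu : (w : G) ∈ zpowers F.u
  · exact conc w hwu
  · have hzu : F.z ∉ zpowers F.u := fun h => by
      have := orderOf_dvd_of_mem_zpowers h
      rw [F.z_two, F.u_seven] at this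
      norm_num at this
    have h3 := (mul_mem_iff_of_index_two hidx (a := ⟨w, hwH⟩) (b := ⟨F.z, hzH⟩)).2
      (iff_of_false (fun h => hwu (mem_subgroupOf.1 h)) (fun h => hzu (mem_subgroupOf.1 h)))
    have hz1 : ((⟨F.z, F.z_mem_Cz⟩ : F.Cz) : F.Cbar) = 1 :=
      (QuotientGroup.eq_one_iff _).2 ((F.mem_Q F.z_mem_Cz).1 F.z_mem_Q)
    have := conc (w * ⟨F.z, F.z_mem_Cz⟩) (mem_subgroupOf.1 h3)
    rwa [QuotientGroup.mk_mul, hz1, mul_one] at this

/-- The normaliser of `<u>` in the quotient has order dividing 21. -/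
theorem card_normalizer_ubar : Nat.card (normalizer (zpowers F.ubar : Set F.Cbar)) ∣ 21 := by
  set M := normalizer (zpowers F.ubar : Set F.Cbar)
  set H := F.Cz ⊓ normalizer (zpowers F.u : Set G)
  let f : H →* F.Cbar := (QuotientGroup.mk' _).comp (Subgroup.inclusion inf_le_left)
  have hMf : M ≤ f.range := by
    intro x hx
    obtain ⟨c, rfl⟩ := QuotientGroup.mk_surjective x
    obtain ⟨q, hq, hqc⟩ := F.exists_q hx
    refine ⟨⟨q * c, mul_mem (F.Q_le hq) c.2, hqc⟩, ?_⟩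
    show ((⟨q, F.Q_le hq⟩ * c : F.Cz) : F.Cbar) = c
    rw [QuotientGroup.mk_mul, (QuotientGroup.eq_one_iff _).2 ((F.mem_Q (F.Q_le hq)).1 hq), one_mul]
  have hker : 2 ∣ Nat.card f.ker := by
    have hzH : F.z ∈ H := ⟨F.z_mem_Cz, centralizer_le_normalizer _ (mem_centralizer_iff.2 (by
      rintro y ⟨k, rfl⟩
      exact (Commute.zpow_left (a := F.u) (b := F.z) F.uz k).eq))⟩
    have hk : (⟨F.z, hzH⟩ : H) ∈ f.ker := (QuotientGroup.eq_one_iff _).2 ((F.mem_Q F.z_mem_Cz).1 F.z_mem_Q)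
    have := Subgroup.orderOf_dvd_natCard f.ker hk
    rwa [Subgroup.orderOf_mk, F.z_two] at this
  refine (card_dvd_of_le hMf).trans ?_
  have h1 := card_mul_index f.ker
  rw [index_ker, show Nat.card H = 42 from F.card_Nzu] at h1
  obtain ⟨k, hk⟩ := hker
  rw [hk] at h1
  exact ⟨k, by linarith⟩

/-- The quotient is simple as soon as it has even order. -/
theorem Cbar_simple {a : ℕ} (ha : 0 < a) (hc : Nat.card F.Cbar = 2 ^ a * 21) : IsSimpleGroup F.Cbar := by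
  haveI : Fact (Nat.Prime 7) := ⟨by norm_num⟩
  haveI : Fact (Nat.Prime 2) := ⟨Nat.prime_two⟩
  haveI : Nontrivial F.Cbar := Finite.one_lt_card_iff_nontrivial.1 (by
    rw [hc]; exact lt_of_lt_of_le (by norm_num : 1 < 21) (Nat.le_mul_of_pos_left _ (by positivity)))
  have hcore : pCore 2 F.Cbar = ⊥ := pCore_quotient_self 2
  refine ⟨fun N hN => or_iff_not_imp_left.2 fun hbot => ?_⟩
  by_contra htop
  haveI := hN
  -- a normal 2-subgroup is trivial
  have h2 : ∀ M : Subgroup F.Cbar, M.Normal → IsPGroup 2 M → M = ⊥ := fun M hM hp => by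
    haveI := hM
    exact le_bot_iff.1 (hcore ▸ le_pCore hp)
  have hd : Nat.card N ∣ 2 ^ a * 21 := hc ▸ card_subgroup_dvd_card N
  -- `N` has order divisible by seven
  have h7 : 7 ∣ Nat.card N := by
    by_contra h7
    have hmod : Nat.card N % 7 = 1 := by
      haveI : IsPGroup 7 (zpowers F.ubar) := IsPGroup.of_card (n := 1) (by
        rw [Nat.card_zpowers, F.orderOf_ubar, pow_one])
      letI : MulAction (zpowers F.ubar) N :=
        MulAction.compHom _ ((MulAut.conjNormal (H := N)).comp (zpowers F.ubar).subtype)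
      have hp : IsPGroup 7 (zpowers F.ubar) := by assumption
      have h := hp.card_modEq_card_fixedPoints (α := N)
      have hone : MulAction.fixedPoints (zpowers F.ubar) N = {1} := by
        ext x
        refine ⟨fun hx => ?_, fun hx => ?_⟩
        · have h1 := congrArg Subtype.val (hx ⟨F.ubar, mem_zpowers _⟩)
          change ((MulAut.conjNormal F.ubar x : N) : F.Cbar) = x at h1
          rw [MulAut.conjNormal_apply] at h1
          have hm : (x : F.Cbar) ∈ centralizer ({F.ubar} : Set F.Cbar) :=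
            mem_centralizer_singleton_iff.2 (mul_inv_eq_iff_eq_mul.1 h1).symm
          rw [F.cent_ubar] at hm
          have d1 := orderOf_dvd_of_mem_zpowers hm
          rw [F.orderOf_ubar] at d1
          have d2 : orderOf (x : F.Cbar) ∣ Nat.card N := Subgroup.orderOf_dvd_natCard _ x.2
          have := Nat.eq_one_of_dvd_coprimes ((Nat.Prime.coprime_iff_not_dvd (by norm_num)).2 h7) d1 d2
          exact Subtype.ext (orderOf_eq_one_iff.1 this)
        · rw [Set.mem_singleton_iff] at hx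
          subst hx
          exact fun m => Subtype.ext (by
            show ((MulAut.conjNormal (m : F.Cbar) (1 : N) : N) : F.Cbar) = ((1 : N) : F.Cbar)
            rw [map_one])
      rw [hone] at h
      simp only [Nat.card_coe_set_eq, Set.ncard_singleton, Nat.ModEq] at h
      exact h
    have hcop : (Nat.card N).Coprime 7 := ((Nat.Prime.coprime_iff_not_dvd (by norm_num)).2 h7).symm
    have hd' : Nat.card N ∣ 2 ^ a * 3 := hcop.dvd_of_dvd_mul_right (by
      rwa [mul_assoc, show 3 * 7 = 21 from rfl])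
    have h3 : ¬ 3 ∣ Nat.card N := by
      rintro ⟨k, hk⟩
      have hk2 : k ∣ 2 ^ a := Nat.dvd_of_mul_dvd_mul_left (by norm_num : 0 < 3) (by rw [← hk, mul_comm 3]; exact hd')
      obtain ⟨j, -, rfl⟩ := (Nat.dvd_prime_pow Nat.prime_two).1 hk2
      rw [hk] at hmod
      have : ∀ j : ℕ, 3 * 2 ^ j % 7 = 3 ∨ 3 * 2 ^ j % 7 = 6 ∨ 3 * 2 ^ j % 7 = 5 := by
        intro j
        induction j with
        | zero => simp
        | succ j ih => rw [pow_succ]; omega
      rcases this j with e | e | e <;> omega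
    obtain ⟨j, -, hj⟩ := (Nat.dvd_prime_pow Nat.prime_two).1
      (((Nat.Prime.coprime_iff_not_dvd Nat.prime_three).2 h3).symm.dvd_of_dvd_mul_right hd')
    exact hbot (h2 N hN (IsPGroup.of_card hj))
  -- all Sylow 7-subgroups lie in `N`
  have hS : ∀ S : Sylow 7 F.Cbar, Nat.card (S : Subgroup F.Cbar) = 7 := fun S =>
    (SmallSimple.Basic.card_sylow_eq_pow (a := 1) (m := 2 ^ a * 3) (by rw [hc]; ring)
      (fun h => by
        have h' := (Nat.Coprime.pow_right a (show Nat.Coprime 7 2 by norm_num)).dvd_of_dvd_mul_left h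
        norm_num at h') S).trans (by norm_num)
  haveI : IsCyclic (zpowers F.ubar) := isCyclic_of_prime_card (p := 7) (by rw [Nat.card_zpowers, F.orderOf_ubar])
  obtain ⟨P0, hP0⟩ := (IsPGroup.of_card (n := 1) (G := zpowers F.ubar) (p := 7)
    (by rw [Nat.card_zpowers, F.orderOf_ubar, pow_one])).exists_le_sylow
  have hP0' : zpowers F.ubar = (P0 : Subgroup F.Cbar) :=
    eq_of_le_of_card_ge hP0 (by rw [hS, Nat.card_zpowers, F.orderOf_ubar])
  -- the normaliser of a Sylow 7-subgroup has order at most 21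
  have hN21 : Nat.card (normalizer ((P0 : Subgroup F.Cbar) : Set F.Cbar)) ∣ 21 := hP0' ▸ F.card_normalizer_ubar
  -- count elements of order seven
  obtain ⟨⟨y, hy⟩, hy7⟩ := exists_prime_orderOf_dvd_card' (G := N) 7 h7
  rw [Subgroup.orderOf_mk] at hy7
  have hall : ∀ x : F.Cbar, orderOf x = 7 → x ∈ N := by
    intro x hx
    obtain ⟨Sx, hSx⟩ := (IsPGroup.of_card (n := 1) (G := zpowers x) (p := 7)
      (by rw [Nat.card_zpowers, hx, pow_one])).exists_le_sylow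
    obtain ⟨Sy, hSy⟩ := (IsPGroup.of_card (n := 1) (G := zpowers y) (p := 7)
      (by rw [Nat.card_zpowers, hy7, pow_one])).exists_le_sylow
    have ex : zpowers x = (Sx : Subgroup F.Cbar) := eq_of_le_of_card_ge hSx (by rw [hS, Nat.card_zpowers, hx])
    have ey : zpowers y = (Sy : Subgroup F.Cbar) := eq_of_le_of_card_ge hSy (by rw [hS, Nat.card_zpowers, hy7])
    obtain ⟨g, hg⟩ := MulAction.exists_smul_eq F.Cbar Sy Sx
    have hm : x ∈ (Sx : Subgroup F.Cbar) := ex ▸ mem_zpowers x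
    rw [← hg, Sylow.coe_subgroup_smul, Subgroup.mem_pointwise_smul_iff_inv_smul_mem, ← ey] at hm
    have hmN := (zpowers_le.2 hy : zpowers y ≤ N) hm
    have := hN.conj_mem _ hmN g
    simpa [MulAut.smul_def, mul_assoc] using this
  have hseven : Nat.card {x : F.Cbar // orderOf x = 7} = Nat.card (Sylow 7 F.Cbar) * 6 :=
    SmallSimple.Order168.card_orderOf_eq hS
  have hSN : ∀ S : Sylow 7 N, Nat.card (S : Subgroup N) = 7 := fun S => by
    obtain ⟨k, hk⟩ := h7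
    refine (SmallSimple.Basic.card_sylow_eq_pow (a := 1) (m := k) (by rw [hk, pow_one]) ?_ S).trans (by norm_num)
    rintro ⟨l, rfl⟩
    have h49 : 49 ∣ 2 ^ a * 21 := ⟨l * (2 ^ a * 21 / Nat.card N), by
      rw [← mul_assoc, show 49 * l = Nat.card N by rw [hk]; ring, Nat.mul_div_cancel' hd]⟩
    have h' : 49 ∣ 21 := (Nat.Coprime.pow_right a (show Nat.Coprime 49 2 by norm_num)).dvd_of_dvd_mul_left h49
    norm_num at h'
  have hsevenN : Nat.card {x : N // orderOf x = 7} = Nat.card (Sylow 7 N) * 6 :=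
    SmallSimple.Order168.card_orderOf_eq hSN
  have heq : Nat.card {x : N // orderOf x = 7} = Nat.card {x : F.Cbar // orderOf x = 7} :=
    Nat.card_congr
      { toFun := fun x => ⟨x.1.1, by rw [Subgroup.orderOf_coe]; exact x.2⟩
        invFun := fun x => ⟨⟨x.1, hall _ x.2⟩, by rw [← Subgroup.orderOf_coe]; exact x.2⟩
        left_inv := fun x => rfl
        right_inv := fun x => rfl }
  have hn7 : Nat.card (Sylow 7 F.Cbar) * Nat.card (normalizer ((P0 : Subgroup F.Cbar) : Set F.Cbar)) = 2 ^ a * 21 := by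
    rw [P0.coe_coe, P0.card_eq_index_normalizer, mul_comm, card_mul_index, hc]
  set T := Nat.card (Sylow 7 F.Cbar) with hTdef
  obtain P1 : Sylow 7 N := default
  have hNn : Nat.card N = T * Nat.card (normalizer ((P1 : Subgroup N) : Set N)) := by
    rw [show T = Nat.card (Sylow 7 N) by omega, P1.card_eq_index_normalizer, mul_comm,
      ← card_mul_index (normalizer ((P1 : Subgroup N) : Set N))]
    rfl
  have hNle : Nat.card N < 2 ^ a * 21 := by
    refine lt_of_le_of_ne (Nat.le_of_dvd (by positivity) hd) fun e => htop ?_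
    exact eq_top_of_card_eq N (by rw [e, hc])
  have hP1d : 7 ∣ Nat.card (normalizer ((P1 : Subgroup N) : Set N)) := by
    have h := card_dvd_of_le (le_normalizer (H := (P1 : Subgroup N)))
    rwa [hSN P1] at h
  have hT : T = 2 ^ a ∧ Nat.card N = 2 ^ a * 7 := by
    have h21 : Nat.card (normalizer ((P0 : Subgroup F.Cbar) : Set F.Cbar)) = 7 ∨
        Nat.card (normalizer ((P0 : Subgroup F.Cbar) : Set F.Cbar)) = 21 := by
      have h7' : 7 ∣ Nat.card (normalizer ((P0 : Subgroup F.Cbar) : Set F.Cbar)) := by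
        have h := card_dvd_of_le (le_normalizer (H := (P0 : Subgroup F.Cbar)))
        rwa [hS P0] at h
      have := Nat.le_of_dvd (by norm_num) hN21
      obtain ⟨k, hk⟩ := h7'
      have : k ≠ 2 := by rintro rfl; rw [hk] at hN21; norm_num at hN21
      have : k ≠ 0 := by rintro rfl; have := Nat.card_pos (α := normalizer ((P0 : Subgroup F.Cbar) : Set F.Cbar)); omega
      omega
    obtain ⟨k, hk⟩ := hP1d
    rw [hk] at hNn
    have hkpos : 0 < k := Nat.pos_of_ne_zero fun e => by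
      rw [e, mul_zero, mul_zero] at hNn; exact Nat.card_pos.ne' hNn
    rcases h21 with e | e
    · exfalso
      rw [e] at hn7
      have hTv : T = 2 ^ a * 3 := by omega
      rw [hTv] at hNn
      have : 2 ^ a * 21 ≤ Nat.card N := by
        rw [hNn]
        calc 2 ^ a * 21 = 2 ^ a * 3 * (7 * 1) := by ring
          _ ≤ _ := Nat.mul_le_mul_left _ (by omega)
      omega
    · rw [e] at hn7
      have hTv : T = 2 ^ a := Nat.eq_of_mul_eq_mul_right (by norm_num) hn7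
      refine ⟨hTv, ?_⟩
      rw [hTv] at hNn
      have hk3 : 2 ^ a * (7 * k) ∣ 2 ^ a * 21 := hNn ▸ hd
      have hk3' : 7 * k ∣ 21 := Nat.dvd_of_mul_dvd_mul_left (by positivity) hk3
      have : k ≤ 3 := by have := Nat.le_of_dvd (by norm_num) hk3'; omega
      have : k ≠ 3 := by rintro rfl; omega
      have : k ≠ 2 := by rintro rfl; norm_num at hk3'
      obtain rfl : k = 1 := by omega
      rw [hNn]
  obtain ⟨hTv, hNc⟩ := hT
  -- the elements of other orders form the only Sylow 2-subgroup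
  obtain S : Sylow 2 N := default
  have hS2 : Nat.card (S : Subgroup N) = 2 ^ a :=
    SmallSimple.Basic.card_sylow_eq_pow hNc (by norm_num) S
  haveI := Fintype.ofFinite N
  have hset : ((S : Subgroup N) : Set N) = {x : N | orderOf x ≠ 7} := by
    refine Set.eq_of_subset_of_ncard_le (fun x hx e => ?_) ?_ (Set.toFinite _)
    · have := Subgroup.orderOf_dvd_natCard _ hx
      rw [e, hS2] at this
      have h' := (Nat.prime_dvd_prime_iff_eq (by norm_num) Nat.prime_two).1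
        ((show Nat.Prime 7 by norm_num).dvd_of_dvd_pow this)
      norm_num at h'
    · have h1 : {x : N | orderOf x = 7}.ncard + {x : N | orderOf x ≠ 7}.ncard = Nat.card N :=
        Set.ncard_add_ncard_compl _
      have h2' : {x : N | orderOf x = 7}.ncard = Nat.card (Sylow 7 N) * 6 := by
        rw [← Nat.card_coe_set_eq]; exact hsevenN
      have h3' : ((S : Subgroup N) : Set N).ncard = 2 ^ a := by rw [← Nat.card_coe_set_eq]; exact hS2
      omega
  have hSn : ((S : Subgroup N).map N.subtype).Normal := by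
    refine ⟨?_⟩
    rintro _ ⟨x, hx, rfl⟩ g
    refine ⟨⟨g * x * g⁻¹, hN.conj_mem _ x.2 g⟩, ?_, rfl⟩
    have hx' : x ∈ ((S : Subgroup N) : Set N) := hx
    rw [hset] at hx'
    show (⟨g * x * g⁻¹, hN.conj_mem _ x.2 g⟩ : N) ∈ ((S : Subgroup N) : Set N)
    rw [hset]
    show orderOf _ ≠ 7
    rw [Subgroup.orderOf_mk, show g * (x : F.Cbar) * g⁻¹ = MulAut.conj g x from rfl, MulEquiv.orderOf_eq,
      Subgroup.orderOf_coe]
    exact hx'
  have := h2 _ hSn (S.isPGroup'.map _)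
  have hcs : Nat.card ((S : Subgroup N).map N.subtype) = 2 ^ a := by rw [card_subtype, hS2]
  rw [this, card_bot] at hcs
  exact absurd hcs (Nat.ne_of_lt (Nat.one_lt_two_pow (by omega)))

end Cfsg.Agent.M24Order.Facts
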