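import Cfsg.Agent.Lib.M24Order.Local.Base

/-!
# Common tools for the centre and the second centre of `Q`

* `abelian_small`: an abelian `u`-invariant subgroup with no involution but `z` is `{1, z}`.
* `card_orbit`: the conjugates of `z` under an overgroup of `C(z)`.
* `Z2`: the elements of `Q` with all commutators with `Q` in `{1, z}`.
-/

set_option autoImplicit false
set_option linter.style.haveILetI false

namespace Cfsg.Agent.M24Order.Facts

open Subgroup Cfsg

variable {G : Type*} [Group G] [Finite G] (F : Facts G)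

theorem conj_z_mem {X : Subgroup G} (hz : F.z ∈ X) {c : G} (hc : c ∈ F.Cz) : c * F.z * c⁻¹ ∈ X := by
  rwa [F.mem_Cz.1 hc, mul_inv_cancel_right]

/-- An abelian `u`-invariant subgroup of `Q` with no involution but `z`. -/
theorem abelian_small {X : Subgroup G} (hX : X ≤ F.Q) (hab : ∀ a ∈ X, ∀ b ∈ X, a * b = b * a)
    (hu : ∀ x ∈ X, F.u * x * F.u⁻¹ ∈ X) (hinv : ∀ x ∈ X, x * x = 1 → x = 1 ∨ x = F.z) :
    ∀ x ∈ X, x = 1 ∨ x = F.z := by
  intro x hx
  by_contra hcon
  push Not at hcon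
  obtain ⟨n, hn⟩ := F.two_pow_orderOf (hX hx)
  have hn2 : 2 ≤ n := by
    by_contra hlt
    have h1 : x * x = 1 := by
      rw [← pow_two]
      exact orderOf_dvd_iff_pow_eq_one.1 (hn ▸ pow_dvd_pow 2 (show n ≤ 1 by omega))
    rcases hinv x hx h1 with e | e
    exacts [hcon.1 e, hcon.2 e]
  set y := x ^ 2 ^ (n - 2) with hy
  have hyo : orderOf y = 4 := by
    rw [hy, orderOf_pow' x (pow_ne_zero _ two_ne_zero), hn,
      Nat.gcd_eq_right (pow_dvd_pow 2 (show n - 2 ≤ n by omega)), Nat.pow_div (by omega) (by norm_num),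
      show n - (n - 2) = 2 by omega]
  have hyX : y ∈ X := pow_mem hx _
  have hyy : y * y = F.z := by
    have h1 : y * y ≠ 1 := fun e => by
      have := orderOf_dvd_of_pow_eq_one (x := y) (n := 2) (by rw [pow_two, e])
      rw [hyo] at this
      norm_num at this
    have h2 : (y * y) * (y * y) = 1 := by
      have := pow_orderOf_eq_one y
      rw [hyo] at this
      rw [← this]; simp only [pow_succ, pow_zero, one_mul, mul_assoc]
    exact (hinv _ (mul_mem hyX hyX) h2).resolve_left h1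
  -- the square roots of `z` in `X` are `y` and `y * z`
  set T : Set G := {w | w ∈ X ∧ w * w = F.z}
  have hT : T = {y, y * F.z} := by
    ext w
    constructor
    · rintro ⟨hw, hww⟩
      have hc : Commute w y⁻¹ := (show Commute w y from hab w hw y hyX).inv_right
      have h : (y⁻¹ * w) * (y⁻¹ * w) = 1 := by
        calc y⁻¹ * w * (y⁻¹ * w) = y⁻¹ * (w * y⁻¹) * w := by group
          _ = y⁻¹ * (y⁻¹ * w) * w := by rw [hc.eq]
          _ = (y * y)⁻¹ * (w * w) := by group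
          _ = 1 := by rw [hyy, hww, inv_mul_cancel]
      rcases hinv _ (mul_mem (inv_mem hyX) hw) h with e | e
      · exact Or.inl (inv_mul_eq_one.1 e).symm
      · exact Or.inr (by rw [Set.mem_singleton_iff, ← e, mul_inv_cancel_left])
    · rintro (rfl | rfl)
      · exact ⟨hyX, hyy⟩
      · have hzX : F.z ∈ X := hyy ▸ mul_mem hyX hyX
        refine ⟨mul_mem hyX hzX, ?_⟩
        calc y * F.z * (y * F.z) = y * (F.z * y) * F.z := by group
          _ = y * y * (F.z * F.z) := by rw [hab F.z hzX y hyX]; group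
          _ = F.z := by rw [hyy, F.zz, mul_one]
  have h7 := F.dvd_of_no_fixed T (fun w hw => ⟨hu w hw.1, by
      rw [show F.u * w * F.u⁻¹ * (F.u * w * F.u⁻¹) = F.u * (w * w) * F.u⁻¹ by group, hw.2, F.uz,
        mul_inv_cancel_right]⟩)
    (fun w hw e => by
      rcases F.eq_of_fixed (hX hw.1) e with rfl | rfl
      · exact F.z_ne_one (by simpa using hw.2.symm)
      · exact F.z_ne_one (hw.2.symm.trans F.zz))
  have hne : y ≠ y * F.z := fun e => F.z_ne_one (mul_left_cancel ((mul_one y).trans e)).symm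
  rw [Nat.card_coe_set_eq, hT, Set.ncard_pair hne] at h7
  norm_num at h7

/-- The conjugates of `z` under an overgroup of its centraliser. -/
theorem card_orbit {N : Subgroup G} (hle : F.Cz ≤ N) {T : Set G}
    (hT : ∀ x, x ∈ T ↔ ∃ n ∈ N, n * F.z * n⁻¹ = x) : Nat.card N = 21504 * Nat.card T := by
  classical
  have key : ∀ a b : G, a * F.z * a⁻¹ = b * F.z * b⁻¹ ↔ a⁻¹ * b ∈ F.Cz := fun a b => by
    rw [F.mem_Cz]
    constructor
    · intro e
      calc a⁻¹ * b * F.z = a⁻¹ * (b * F.z * b⁻¹) * b := by group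
        _ = F.z * (a⁻¹ * b) := by rw [← e]; group
    · intro e
      calc a * F.z * a⁻¹ = a * (F.z * (a⁻¹ * b)) * b⁻¹ := by group
        _ = b * F.z * b⁻¹ := by rw [← e]; group
  let f : T → N ⧸ F.Cz.subgroupOf N := fun x =>
    QuotientGroup.mk (⟨((hT x.1).1 x.2).choose, ((hT x.1).1 x.2).choose_spec.1⟩ : N)
  have hsp : ∀ x : T, ((hT x.1).1 x.2).choose * F.z * (((hT x.1).1 x.2).choose)⁻¹ = x.1 := fun x =>
    ((hT x.1).1 x.2).choose_spec.2
  have hinj : Function.Injective f := fun x x' e => by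
    have h := mem_subgroupOf.1 (QuotientGroup.eq.1 e)
    exact Subtype.ext ((hsp x).symm.trans (((key _ _).2 h).trans (hsp x')))
  have hsur : Function.Surjective f := fun q => by
    obtain ⟨⟨n, hn⟩, rfl⟩ := QuotientGroup.mk_surjective q
    refine ⟨⟨n * F.z * n⁻¹, (hT _).2 ⟨n, hn, rfl⟩⟩, QuotientGroup.eq.2 (mem_subgroupOf.2 ?_)⟩
    exact (key _ _).1 (hsp ⟨n * F.z * n⁻¹, (hT _).2 ⟨n, hn, rfl⟩⟩)
  have h := card_mul_index (F.Cz.subgroupOf N)
  rw [Nat.card_congr (subgroupOfEquivOfLe hle).toEquiv, F.card_Cz, index_eq_card] at h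
  rw [← h, Nat.card_congr (Equiv.ofBijective f ⟨hinj, hsur⟩)]

/-- The elements of `Q` whose commutators with `Q` lie in `{1, z}`. -/
def Z2 : Subgroup G where
  carrier := {x | x ∈ F.Q ∧ ∀ q ∈ F.Q, x * q = q * x ∨ x * q = q * x * F.z}
  one_mem' := ⟨one_mem _, fun q _ => Or.inl (by rw [one_mul, mul_one])⟩
  mul_mem' {x y} hx hy := by
    refine ⟨mul_mem hx.1 hy.1, fun q hq => ?_⟩
    have hxz : x * F.z = F.z * x := F.mem_Cz.1 (F.Q_le hx.1)
    have hyz : y * F.z = F.z * y := F.mem_Cz.1 (F.Q_le hy.1)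
    rcases hy.2 q hq with e1 | e1 <;> rcases hx.2 q hq with e2 | e2
    · left
      rw [mul_assoc, e1, ← mul_assoc, e2, mul_assoc]
    · right
      rw [mul_assoc, e1, ← mul_assoc, e2]
      calc q * x * F.z * y = q * x * (F.z * y) := by group
        _ = q * (x * y) * F.z := by rw [← hyz]; group
    · right
      rw [mul_assoc, e1, ← mul_assoc, ← mul_assoc, e2]
      group
    · left
      rw [mul_assoc, e1, ← mul_assoc, ← mul_assoc, e2]
      calc q * x * F.z * y * F.z = q * x * (F.z * y) * F.z := by group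
        _ = q * (x * y) * (F.z * F.z) := by rw [← hyz]; group
        _ = q * (x * y) := by rw [F.zz, mul_one]
  inv_mem' {x} hx := by
    refine ⟨inv_mem hx.1, fun q hq => ?_⟩
    have hxz : x * F.z = F.z * x := F.mem_Cz.1 (F.Q_le hx.1)
    rcases hx.2 q hq with e | e
    · exact Or.inl ((show Commute x q from e).inv_left).eq
    · right
      calc x⁻¹ * q = x⁻¹ * (q * x * F.z) * (F.z⁻¹ * x⁻¹) := by group
        _ = x⁻¹ * (x * q) * (F.z⁻¹ * x⁻¹) := by rw [e]
        _ = q * (x * F.z)⁻¹ := by group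
        _ = q * (F.z * x)⁻¹ := by rw [hxz]
        _ = q * x⁻¹ * F.z := by
          rw [mul_inv_rev, inv_eq_of_mul_eq_one_right F.zz, mul_assoc]

theorem mem_Z2 {x : G} : x ∈ F.Z2 ↔ x ∈ F.Q ∧ ∀ q ∈ F.Q, x * q = q * x ∨ x * q = q * x * F.z := Iff.rfl

theorem Z2_le : F.Z2 ≤ F.Q := fun _ hx => hx.1

theorem Z2_conj {c x : G} (hc : c ∈ F.Cz) (hx : x ∈ F.Z2) : c * x * c⁻¹ ∈ F.Z2 := by
  refine ⟨F.conj_mem_Q hc hx.1, fun q hq => ?_⟩
  have hq' : c⁻¹ * q * c ∈ F.Q := by simpa using F.conj_mem_Q (inv_mem hc) hq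
  rcases hx.2 _ hq' with e | e
  · left
    calc c * x * c⁻¹ * q = c * (x * (c⁻¹ * q * c)) * c⁻¹ := by group
      _ = q * (c * x * c⁻¹) := by rw [e]; group
  · right
    calc c * x * c⁻¹ * q = c * (x * (c⁻¹ * q * c)) * c⁻¹ := by group
      _ = q * (c * x) * (F.z * c⁻¹) := by rw [e]; group
      _ = q * (c * x) * (c⁻¹ * F.z) := by
        rw [show F.z * c⁻¹ = c⁻¹ * F.z from (F.mem_Cz.1 (inv_mem hc)).symm]
      _ = _ := by group

theorem z_mem_Z2 : F.z ∈ F.Z2 :=
  ⟨F.z_mem_Q, fun _ hq => Or.inl (F.mem_Cz.1 (F.Q_le hq)).symm⟩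

theorem card_Z2 : Nat.card F.Z2 = 2 ∨ Nat.card F.Z2 = 16 ∨ Nat.card F.Z2 = 128 ∨ Nat.card F.Z2 = 1024 :=
  F.card_inv F.Z2_le F.z_mem_Z2 fun _ hx => F.Z2_conj F.u_mem_Cz hx

theorem card_center : Nat.card ↥(F.Q ⊓ centralizer (F.Q : Set G)) = 2 ∨
    Nat.card ↥(F.Q ⊓ centralizer (F.Q : Set G)) = 16 ∨ Nat.card ↥(F.Q ⊓ centralizer (F.Q : Set G)) = 128 ∨
    Nat.card ↥(F.Q ⊓ centralizer (F.Q : Set G)) = 1024 := by
  refine F.card_inv inf_le_left ⟨F.z_mem_Q, mem_centralizer_iff.2 fun q hq => F.mem_Cz.1 (F.Q_le hq)⟩ fun x hx => ?_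
  refine ⟨F.conj_mem_Q F.u_mem_Cz hx.1, mem_centralizer_iff.2 fun q hq => ?_⟩
  have hq' : F.u⁻¹ * q * F.u ∈ F.Q := by simpa using F.conj_mem_Q (inv_mem F.u_mem_Cz) hq
  have e := mem_centralizer_iff.1 hx.2 _ hq'
  calc q * (F.u * x * F.u⁻¹) = F.u * (F.u⁻¹ * q * F.u * x) * F.u⁻¹ := by group
    _ = F.u * (x * (F.u⁻¹ * q * F.u)) * F.u⁻¹ := by rw [e]
    _ = _ := by group

theorem eq_or_eq_of_card_two {X : Subgroup G} (hc : Nat.card X = 2) (hz : F.z ∈ X) {x : G} (hx : x ∈ X) :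
    x = 1 ∨ x = F.z := by
  by_cases h1 : (⟨x, hx⟩ : X) = 1
  · exact Or.inl (congrArg Subtype.val h1)
  obtain ⟨y, -, huniq⟩ := (Nat.card_eq_two_iff' (1 : X)).1 hc
  exact Or.inr (congrArg Subtype.val
    ((huniq _ h1).trans (huniq ⟨F.z, hz⟩ fun e => F.z_ne_one (congrArg Subtype.val e)).symm))

end Cfsg.Agent.M24Order.Facts
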