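import Cfsg.Agent.Lib.M24Order.Local.Normal

/-!
# The commutators of `Q` lie in `{1, z}`

`Z2_eq`: squaring maps `Q / Z2` equivariantly to `Z2 / <z>`, which forces the commutators into `<z>`.
-/

set_option autoImplicit false
set_option linter.style.haveILetI false

namespace Cfsg.Agent.M24Order.Facts

open Subgroup Cfsg

variable {G : Type*} [Group G] [Finite G] (F : Facts G)

theorem zpowers_z_conj {c x : G} (hc : c ∈ F.Cz) (hx : x ∈ zpowers F.z) : c * x * c⁻¹ = x := by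
  obtain ⟨k, rfl⟩ := hx
  show c * F.z ^ k * c⁻¹ = F.z ^ k
  rw [← conj_zpow, F.mem_Cz.1 hc, mul_inv_cancel_right]

theorem zpowers_z_le : zpowers F.z ≤ F.Q := zpowers_le.2 F.z_mem_Q

/-- A power of `u` other than `1` fixes no non-trivial element of a section. -/
theorem section_fixed_pow {Z : Subgroup G} (hZ : Z ≤ F.Q) (hz : F.z ∈ Z)
    (hu : ∀ c ∈ zpowers F.u, ∀ x ∈ Z, c * x * c⁻¹ ∈ Z) {a : G} (ha : a ∈ F.Q) {k : ℕ} (hk : ¬ 7 ∣ k)
    (hfix : a⁻¹ * (F.u ^ k * a * (F.u ^ k)⁻¹) ∈ Z) : a ∈ Z := by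
  have hiter : ∀ m : ℕ, a⁻¹ * ((F.u ^ k) ^ m * a * ((F.u ^ k) ^ m)⁻¹) ∈ Z := by
    intro m
    induction m with
    | zero => simp
    | succ m ih =>
      have := mul_mem hfix (hu _ (pow_mem (mem_zpowers _) k) _ ih)
      rwa [show a⁻¹ * (F.u ^ k * a * (F.u ^ k)⁻¹) * (F.u ^ k * (a⁻¹ * ((F.u ^ k) ^ m * a * ((F.u ^ k) ^ m)⁻¹)) *
        (F.u ^ k)⁻¹) = a⁻¹ * ((F.u ^ k) ^ (m + 1) * a * ((F.u ^ k) ^ (m + 1))⁻¹) by
          rw [pow_succ']; group] at this
  obtain ⟨m, hm⟩ : ∃ m, k * m % 7 = 1 := by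
    have key : ∀ r < 7, 0 < r → ∃ m < 7, r * m % 7 = 1 := by decide
    obtain ⟨m, -, hm⟩ := key (k % 7) (Nat.mod_lt _ (by norm_num)) (by omega)
    exact ⟨m, by rw [← Nat.mod_mul_mod]; exact hm⟩
  have h1 := hiter m
  rw [← pow_mul, ← pow_mod_orderOf, F.u_seven, hm, pow_one] at h1
  exact F.section_fixed hZ hz (fun x hx => hu _ (mem_zpowers _) x hx) ha h1

theorem Z2_ne_two : Nat.card F.Z2 ≠ 2 := by
  intro h
  haveI : Fact (Nat.Prime 2) := ⟨Nat.prime_two⟩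
  haveI hzn : ((zpowers F.z).subgroupOf F.Q).Normal := ⟨fun x hx c => mem_subgroupOf.2 (by
    show (c : G) * x * (c : G)⁻¹ ∈ zpowers F.z
    rw [F.zpowers_z_conj (F.Q_le c.2) (mem_subgroupOf.1 hx)]
    exact mem_subgroupOf.1 hx)⟩
  have hqc : Nat.card (F.Q ⧸ (zpowers F.z).subgroupOf F.Q) = 64 := by
    have h1 := card_mul_index ((zpowers F.z).subgroupOf F.Q)
    rw [Nat.card_congr (subgroupOfEquivOfLe F.zpowers_z_le).toEquiv, Nat.card_zpowers, F.z_two, F.card_Q_eq,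
      index_eq_card] at h1
    omega
  haveI : Nontrivial (F.Q ⧸ (zpowers F.z).subgroupOf F.Q) := Finite.one_lt_card_iff_nontrivial.1 (by omega)
  haveI := (IsPGroup.of_card (n := 6) (G := F.Q ⧸ (zpowers F.z).subgroupOf F.Q) (p := 2) hqc).center_nontrivial
  obtain ⟨⟨q, hqz⟩, hq1⟩ := exists_ne (1 : center (F.Q ⧸ (zpowers F.z).subgroupOf F.Q))
  obtain ⟨r, rfl⟩ := QuotientGroup.mk_surjective q
  have hrZ : (r : G) ∈ F.Z2 := by
    refine ⟨r.2, fun b hb => ?_⟩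
    have hb' := mem_center_iff.1 hqz (QuotientGroup.mk ⟨b, hb⟩)
    rw [← QuotientGroup.mk_mul, ← QuotientGroup.mk_mul, QuotientGroup.eq, mem_subgroupOf] at hb'
    have hb'' : ((b : G) * r)⁻¹ * (r * b) ∈ zpowers F.z := hb'
    rcases eq_or_eq_of_card_two F (X := zpowers F.z) (by rw [Nat.card_zpowers, F.z_two]) (mem_zpowers _) hb''
      with e | e
    · exact Or.inl (inv_mul_eq_one.1 e).symm
    · exact Or.inr (by rw [← e, mul_inv_cancel_left])
  rcases eq_or_eq_of_card_two F h F.z_mem_Z2 hrZ with e | e <;>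
    refine hq1 (Subtype.ext ((QuotientGroup.eq_one_iff _).2 (mem_subgroupOf.2 ?_))) <;> rw [e]
  exacts [one_mem _, mem_zpowers _]

/-- The squares of `Q` lie in `Z2` and behave additively modulo `z`. -/
theorem sq_add (h16 : Nat.card F.Z2 = 16) {a b : G} (ha : a ∈ F.Q) (hb : b ∈ F.Q) :
    (a * a)⁻¹ * (a * b * (a * b)) * (b * b) ∈ zpowers F.z := by
  classical
  set Z := F.Z2 with hZdef
  have hzZ : zpowers F.z ≤ Z := zpowers_le.2 F.z_mem_Z2
  have huZ : ∀ c ∈ zpowers F.u, ∀ x ∈ Z, c * x * c⁻¹ ∈ Z := fun c hc x hx =>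
    F.Z2_conj ((zpowers_le.2 F.u_mem_Cz) hc) hx
  have huz : ∀ c ∈ zpowers F.u, ∀ x ∈ zpowers F.z, c * x * c⁻¹ ∈ zpowers F.z := fun c hc x hx => by
    rw [F.zpowers_z_conj ((zpowers_le.2 F.u_mem_Cz) hc) hx]; exact hx
  have hS1 := F.section_spec (Z := zpowers F.z) F.Z2_le hzZ (mem_zpowers _)
    (fun c hc x hx => by rw [F.zpowers_z_conj (F.Q_le (F.Z2_le hc)) hx]; exact hx)
    (fun x hx => huz _ (mem_zpowers _) x hx) (fun x hx => huZ _ (mem_zpowers _) x hx)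
    (by rw [Nat.card_zpowers, F.z_two, h16])
  have hS2 := F.section_spec (Z := Z) le_rfl F.Z2_le F.z_mem_Z2
    (fun c hc x hx => F.Z2_conj (F.Q_le hc) hx) (fun x hx => huZ _ (mem_zpowers _) x hx)
    (fun x hx => F.conj_mem_Q F.u_mem_Cz hx) (by rw [h16, F.card_Q_eq])
  -- squares only depend on the coset
  have shift : ∀ p ∈ F.Q, ∀ x ∈ Z, (p * p)⁻¹ * (p * x * (p * x)) ∈ zpowers F.z := by
    intro p hp x hx
    have hxx := hS1.2.1 x hx
    rcases hx.2 p hp with e | e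
    · rwa [show (p * p)⁻¹ * (p * x * (p * x)) = (p * p)⁻¹ * (p * (x * p) * x) by group, e,
        show (p * p)⁻¹ * (p * (p * x) * x) = x * x by group]
    · rw [show (p * p)⁻¹ * (p * x * (p * x)) = (p * p)⁻¹ * (p * (x * p) * x) by group, e,
        show (p * p)⁻¹ * (p * (p * x * F.z) * x) = x * (F.z * x) by group,
        show F.z * x = x * F.z from (F.mem_Cz.1 (F.Q_le hx.1)).symm, ← mul_assoc]
      exact mul_mem hxx (mem_zpowers _)
  have shift' : ∀ x ∈ Z, ∀ p ∈ F.Q, (p * p)⁻¹ * (x * p * (x * p)) ∈ zpowers F.z := by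
    intro x hx p hp
    have h1 : p⁻¹ * x * p ∈ Z := by simpa using F.Z2_conj (inv_mem (F.Q_le hp)) hx
    have := shift p hp _ h1
    rwa [show p * (p⁻¹ * x * p) = x * p by group] at this
  have zc : ∀ s ∈ zpowers F.z, ∀ g ∈ F.Cz, g * s = s * g := fun s hs g hg =>
    mul_inv_eq_iff_eq_mul.1 (F.zpowers_z_conj hg hs)
  have inv_sq : ∀ p ∈ F.Q, p * p * (p * p) ∈ zpowers F.z := fun p hp => hS1.2.1 _ (hS2.2.1 p hp)
  by_cases haZ : a ∈ Z
  · have h1 := shift' a haZ b hb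
    have h2 := inv_sq b hb
    have h3 := hS1.2.1 a haZ
    rw [show (a * a)⁻¹ * (a * b * (a * b)) * (b * b) =
      (a * a)⁻¹ * ((b * b) * ((b * b)⁻¹ * (a * b * (a * b))) * (b * b)) by group,
      zc _ h1 _ (F.Q_le (mul_mem hb hb)), mul_assoc _ (b * b) (b * b)]
    exact mul_mem (inv_mem h3) (mul_mem h1 h2)
  by_cases hbZ : b ∈ Z
  · have h1 := shift a ha b hbZ
    exact mul_mem h1 (hS1.2.1 b hbZ)
  by_cases habZ : a * b ∈ Z
  · have h1 := hS1.2.1 _ habZ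
    have h2 := shift a⁻¹ (inv_mem ha) _ habZ
    rw [inv_mul_cancel_left, mul_inv_rev, inv_inv] at h2
    have h3 := mul_mem h1 (mul_mem (inv_mem (inv_sq a ha)) h2)
    have h4 := zc _ h1 _ (F.Q_le (inv_mem (mul_mem ha ha)))
    rwa [show (a * a * (a * a))⁻¹ * (a * a * (b * b)) = (a * a)⁻¹ * (b * b) by group, ← mul_assoc, ← h4] at h3
  -- the main case
  by_cases hsq : ∃ p ∈ F.Q, p ∉ Z ∧ p * p ∈ zpowers F.z
  · obtain ⟨p, hp, hpZ, hpp⟩ := hsq
    have hall : ∀ q ∈ F.Q, q * q ∈ zpowers F.z := by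
      intro q hq
      by_cases hqZ : q ∈ Z
      · exact hS1.2.1 q hqZ
      obtain ⟨i, -, hi⟩ := hS2.1 p hp hpZ q hq hqZ
      have hp' : F.u ^ i * p * (F.u ^ i)⁻¹ ∈ F.Q := F.conj_mem_Q (pow_mem F.u_mem_Cz _) hp
      have h1 := shift _ hp' _ hi
      rw [mul_inv_cancel_left] at h1
      have h2 : F.u ^ i * p * (F.u ^ i)⁻¹ * (F.u ^ i * p * (F.u ^ i)⁻¹) ∈ zpowers F.z := by
        rw [show F.u ^ i * p * (F.u ^ i)⁻¹ * (F.u ^ i * p * (F.u ^ i)⁻¹) = F.u ^ i * (p * p) * (F.u ^ i)⁻¹ by group]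
        exact huz _ (pow_mem (mem_zpowers _) i) _ hpp
      have := mul_mem h2 h1
      rwa [mul_inv_cancel_left] at this
    exact mul_mem (mul_mem (inv_mem (hall a ha)) (hall _ (mul_mem ha hb))) (hall b hb)
  push Not at hsq
  -- distinct cosets have distinct squares
  have dist : ∀ p ∈ F.Q, p ∉ Z → ∀ q ∈ F.Q, q ∉ Z → (p * p)⁻¹ * (q * q) ∈ zpowers F.z → p⁻¹ * q ∈ Z := by
    intro p hp hpZ q hq hqZ hpq
    obtain ⟨i, hi7, hi⟩ := hS2.1 p hp hpZ q hq hqZ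
    by_cases hi0 : i = 0
    · subst hi0
      simpa using hi
    exfalso
    set p' := F.u ^ i * p * (F.u ^ i)⁻¹ with hp'def
    have hp' : p' ∈ F.Q := F.conj_mem_Q (pow_mem F.u_mem_Cz _) hp
    have h1 := shift _ hp' _ hi
    rw [mul_inv_cancel_left] at h1
    have h2 := mul_mem hpq (inv_mem h1)
    refine hsq p hp hpZ (F.section_fixed_pow F.zpowers_z_le (mem_zpowers _) huz (mul_mem hp hp) (k := i) (by omega) ?_)
    rwa [show (p * p)⁻¹ * (q * q) * ((p' * p')⁻¹ * (q * q))⁻¹ = (p * p)⁻¹ * (F.u ^ i * (p * p) * (F.u ^ i)⁻¹) by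
      rw [hp'def]; simp only [mul_assoc, mul_inv_rev, inv_inv, inv_mul_cancel_left, mul_inv_cancel_left, mul_inv_cancel, mul_one]] at h2
  -- a non-trivial element of `C(z)/Q` fixing both cosets
  have hZn : (Z.subgroupOf F.Q).Normal := ⟨fun x hx c => mem_subgroupOf.2 (F.Z2_conj (F.Q_le c.2) (mem_subgroupOf.1 hx))⟩
  haveI := hZn
  have hq8 : Nat.card (F.Q ⧸ Z.subgroupOf F.Q) = 8 := by
    have h1 := card_mul_index (Z.subgroupOf F.Q)
    rw [Nat.card_congr (subgroupOfEquivOfLe F.Z2_le).toEquiv, h16, F.card_Q_eq, index_eq_card] at h1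
    omega
  let S : G → Subgroup F.Cz := fun p =>
    { carrier := {c | p ∈ F.Q → p⁻¹ * ((c : G) * p * (c : G)⁻¹) ∈ Z}
      one_mem' := fun _ => by simp
      mul_mem' := fun {c d} hc hd hp => by
        have := mul_mem (hc hp) (F.Z2_conj c.2 (hd hp))
        simp only [Subgroup.coe_mul]
        rwa [show p⁻¹ * ((c : G) * p * (c : G)⁻¹) * ((c : G) * (p⁻¹ * ((d : G) * p * (d : G)⁻¹)) * (c : G)⁻¹) =
          p⁻¹ * ((c : G) * (d : G) * p * ((c : G) * (d : G))⁻¹) by group] at this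
      inv_mem' := fun {c} hc hp => by
        have := F.Z2_conj (inv_mem c.2) (inv_mem (hc hp))
        simp only [Subgroup.coe_inv] at this ⊢
        rwa [show (c : G)⁻¹ * (p⁻¹ * ((c : G) * p * (c : G)⁻¹))⁻¹ * (c : G)⁻¹⁻¹ =
          p⁻¹ * ((c : G)⁻¹ * p * (c : G)⁻¹⁻¹) by group] at this }
  have hSi : ∀ p ∈ F.Q, (S p).index ≤ 8 := by
    intro p hp
    rw [index_eq_card, ← hq8]
    refine Nat.card_le_card_of_injective (fun q => QuotientGroup.mk ⟨_, F.conj_mem_Q q.out.2 hp⟩) fun q r e => ?_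
    rw [← QuotientGroup.out_eq' q, ← QuotientGroup.out_eq' r, QuotientGroup.eq]
    intro _
    have := mem_subgroupOf.1 (QuotientGroup.eq.1 e)
    simp only [Subgroup.coe_mul, Subgroup.coe_inv] at this ⊢
    have h2 := F.Z2_conj (inv_mem q.out.2) this
    rwa [show (q.out : G)⁻¹ * (((q.out : G) * p * (q.out : G)⁻¹)⁻¹ * ((r.out : G) * p * (r.out : G)⁻¹)) *
      (q.out : G)⁻¹⁻¹ = p⁻¹ * (((q.out : G)⁻¹ * r.out) * p * ((q.out : G)⁻¹ * r.out)⁻¹) by group] at h2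
  obtain ⟨k, ⟨hka, hkb⟩, hkQ⟩ : ∃ k, k ∈ S a ⊓ S b ∧ k ∉ pCore 2 ↥F.Cz := by
    by_contra hcon
    push Not at hcon
    have h1 := Nat.le_of_dvd Nat.card_pos (card_dvd_of_le (hcon : S a ⊓ S b ≤ pCore 2 ↥F.Cz))
    rw [← F.card_Q, F.card_Q_eq] at h1
    have h2 := card_mul_index (S a ⊓ S b)
    rw [F.card_Cz] at h2
    have h3 := (index_inf_le (H := S a) (K := S b)).trans (Nat.mul_le_mul (hSi a ha) (hSi b hb))
    nlinarith
  have hkab : (a * b)⁻¹ * ((k : G) * (a * b) * (k : G)⁻¹) ∈ Z := by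
    have := mul_mem (F.Z2_conj (inv_mem (F.Q_le hb)) (hka ha)) (hkb hb)
    rwa [show b⁻¹ * (a⁻¹ * ((k : G) * a * (k : G)⁻¹)) * b⁻¹⁻¹ * (b⁻¹ * ((k : G) * b * (k : G)⁻¹)) =
      (a * b)⁻¹ * ((k : G) * (a * b) * (k : G)⁻¹) by group] at this
  -- its fixed points on `Z2 / <z>`
  let U : Subgroup G :=
    { carrier := {x | x ∈ Z ∧ x⁻¹ * ((k : G) * x * (k : G)⁻¹) ∈ zpowers F.z}
      one_mem' := ⟨one_mem _, by simp⟩
      mul_mem' := fun {x y} hx hy => ⟨mul_mem hx.1 hy.1, by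
        have hy1 : y ∈ F.Cz := F.Q_le (F.Z2_le hy.1)
        have := mul_mem hx.2 hy.2
        rwa [← F.zpowers_z_conj (inv_mem hy1) hx.2, show y⁻¹ * (x⁻¹ * ((k : G) * x * (k : G)⁻¹)) * y⁻¹⁻¹ *
          (y⁻¹ * ((k : G) * y * (k : G)⁻¹)) = (x * y)⁻¹ * ((k : G) * (x * y) * (k : G)⁻¹) by group] at this⟩
      inv_mem' := fun {x} hx => ⟨inv_mem hx.1, by
        have := inv_mem hx.2
        rwa [← F.zpowers_z_conj (F.Q_le (F.Z2_le hx.1)) this,
          show x * (x⁻¹ * ((k : G) * x * (k : G)⁻¹))⁻¹ * x⁻¹ = x⁻¹⁻¹ * ((k : G) * x⁻¹ * (k : G)⁻¹) by group] at this⟩ }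
  have hUZ : U ≤ Z := fun x hx => hx.1
  have hUne : U ≠ Z := by
    intro e
    let K : Subgroup F.Cz :=
      { carrier := {c | ∀ x ∈ Z, x⁻¹ * ((c : G) * x * (c : G)⁻¹) ∈ zpowers F.z}
        one_mem' := fun x _ => by simp
        mul_mem' := fun {c d} hc hd x hx => by
          have := mul_mem (hc x hx) (hd x hx)
          simp only [Subgroup.coe_mul]
          rwa [← F.zpowers_z_conj c.2 (hd x hx), show x⁻¹ * ((c : G) * x * (c : G)⁻¹) *
            ((c : G) * (x⁻¹ * ((d : G) * x * (d : G)⁻¹)) * (c : G)⁻¹) =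
            x⁻¹ * ((c : G) * (d : G) * x * ((c : G) * (d : G))⁻¹) by group] at this
        inv_mem' := fun {c} hc x hx => by
          have := inv_mem (hc x hx)
          simp only [Subgroup.coe_inv]
          rwa [← F.zpowers_z_conj (inv_mem c.2) this, show (c : G)⁻¹ * (x⁻¹ * ((c : G) * x * (c : G)⁻¹))⁻¹ *
            (c : G)⁻¹⁻¹ = x⁻¹ * ((c : G)⁻¹ * x * (c : G)⁻¹⁻¹) by group] at this }
    haveI hKn : K.Normal := ⟨fun c hc g x hx => by
      have h1 := hc _ (F.Z2_conj (inv_mem g.2) hx)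
      simp only [Subgroup.coe_inv, inv_inv] at h1
      simp only [Subgroup.coe_mul, Subgroup.coe_inv]
      rw [← F.zpowers_z_conj g.2 h1] at h1
      rwa [show (g : G) * (((g : G)⁻¹ * x * g)⁻¹ * ((c : G) * ((g : G)⁻¹ * x * g) * (c : G)⁻¹)) * (g : G)⁻¹ =
        x⁻¹ * ((g : G) * c * (g : G)⁻¹ * x * ((g : G) * c * (g : G)⁻¹)⁻¹) by group] at h1⟩
    have hQK : pCore 2 ↥F.Cz ≤ K := by
      intro c hc x hx
      rcases hx.2 c ⟨c, hc, rfl⟩ with e' | e'
      · rw [← e', mul_inv_cancel_right, inv_mul_cancel]; exact one_mem _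
      · rw [show (c : G) * x = x * c * F.z⁻¹ by rw [e']; group,
          show x⁻¹ * (x * (c : G) * F.z⁻¹ * (c : G)⁻¹) = (c : G) * F.z⁻¹ * (c : G)⁻¹ by group,
          F.zpowers_z_conj c.2 (inv_mem (mem_zpowers _))]
        exact inv_mem (mem_zpowers _)
    have hkK : k ∈ K := fun x hx => (show x ∈ U from e.symm ▸ hx).2
    haveI := F.Cbar_simple (a := 3) (by norm_num) (by
      have := F.card_Cbar
      rw [F.card_Q_eq] at this
      omega)
    haveI : (K.map (QuotientGroup.mk' (pCore 2 ↥F.Cz))).Normal :=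
      Subgroup.Normal.map inferInstance _ (QuotientGroup.mk'_surjective _)
    have hu : F.ubar ∈ K.map (QuotientGroup.mk' (pCore 2 ↥F.Cz)) := by
      rcases (inferInstance : (K.map (QuotientGroup.mk' (pCore 2 ↥F.Cz))).Normal).eq_bot_or_eq_top with h | h
      · exfalso
        have : (k : F.Cbar) ∈ K.map (QuotientGroup.mk' (pCore 2 ↥F.Cz)) := ⟨k, hkK, rfl⟩
        rw [h, mem_bot, QuotientGroup.eq_one_iff] at this
        exact hkQ this
      · exact h ▸ mem_top _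
    obtain ⟨c, hc, hcu⟩ := hu
    have huK : (⟨F.u, F.u_mem_Cz⟩ : F.Cz) ∈ K := by
      have := mul_mem hc (hQK (QuotientGroup.eq.1 hcu))
      rwa [mul_inv_cancel_left] at this
    have : Z ≤ zpowers F.z := fun x hx => F.section_fixed F.zpowers_z_le (mem_zpowers _)
      (fun y hy => huz _ (mem_zpowers _) y hy) (F.Z2_le hx) (huK x hx)
    have h1 := Nat.le_of_dvd Nat.card_pos (card_dvd_of_le this)
    rw [h16, Nat.card_zpowers, F.z_two] at h1
    norm_num at h1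
  have hzU : zpowers F.z ≤ U := fun x hx => ⟨hzZ hx, by
    rw [F.zpowers_z_conj k.2 hx, inv_mul_cancel]; exact one_mem _⟩
  haveI hzUn : ((zpowers F.z).subgroupOf U).Normal := ⟨fun x hx c => mem_subgroupOf.2 (by
    show (c : G) * x * (c : G)⁻¹ ∈ zpowers F.z
    rw [F.zpowers_z_conj (F.Q_le (F.Z2_le (hUZ c.2))) (mem_subgroupOf.1 hx)]
    exact mem_subgroupOf.1 hx)⟩
  have hU4 : Nat.card (U ⧸ (zpowers F.z).subgroupOf U) ≤ 4 := by
    have h1 : Nat.card U ∣ 2 ^ 4 := by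
      have h := card_dvd_of_le hUZ
      rw [h16] at h
      simpa using h
    obtain ⟨j, hj, hc⟩ := (Nat.dvd_prime_pow Nat.prime_two).1 h1
    have : j ≠ 4 := fun e' => hUne (eq_of_le_of_card_ge hUZ (by rw [hc, e', h16]; norm_num))
    have h2 := card_mul_index ((zpowers F.z).subgroupOf U)
    rw [Nat.card_congr (subgroupOfEquivOfLe hzU).toEquiv, Nat.card_zpowers, F.z_two, index_eq_card, hc] at h2
    have h3 : 2 ^ j ≤ 2 ^ 3 := Nat.pow_le_pow_right (by norm_num) (by omega)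
    omega
  have fixsq : ∀ p ∈ F.Q, p⁻¹ * ((k : G) * p * (k : G)⁻¹) ∈ Z → p * p ∈ U := fun p hp hk => ⟨hS2.2.1 p hp, by
    have := shift p hp _ hk
    rw [mul_inv_cancel_left] at this
    rwa [show (k : G) * (p * p) * (k : G)⁻¹ = (k : G) * p * (k : G)⁻¹ * ((k : G) * p * (k : G)⁻¹) by group]⟩
  let P : U ⧸ (zpowers F.z).subgroupOf U := QuotientGroup.mk ⟨a * a, fixsq a ha (hka ha)⟩
  let Q' : U ⧸ (zpowers F.z).subgroupOf U := QuotientGroup.mk ⟨b * b, fixsq b hb (hkb hb)⟩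
  let R : U ⧸ (zpowers F.z).subgroupOf U := QuotientGroup.mk ⟨a * b * (a * b), fixsq _ (mul_mem ha hb) hkab⟩
  have mk1 : ∀ (p : G) (hp : p * p ∈ U), p ∈ F.Q → p ∉ Z →
      (QuotientGroup.mk ⟨p * p, hp⟩ : U ⧸ (zpowers F.z).subgroupOf U) ≠ 1 := fun p hp hpQ hpZ e =>
    hsq p hpQ hpZ (mem_subgroupOf.1 ((QuotientGroup.eq_one_iff _).1 e))
  have hP1 : P ≠ 1 := mk1 a _ ha haZ
  have hQ1 : Q' ≠ 1 := mk1 b _ hb hbZ
  have hR1 : R ≠ 1 := mk1 _ _ (mul_mem ha hb) habZ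
  have hPQ : P ≠ Q' := fun e => by
    have h1 := dist a ha haZ b hb hbZ (mem_subgroupOf.1 (QuotientGroup.eq.1 e))
    refine habZ ?_
    have := mul_mem (hS2.2.1 a ha) h1
    rwa [show a * a * (a⁻¹ * b) = a * b by group] at this
  have hPR : P ≠ R := fun e => hbZ (by
    have h1 := dist a ha haZ _ (mul_mem ha hb) habZ (mem_subgroupOf.1 (QuotientGroup.eq.1 e))
    rwa [inv_mul_cancel_left] at h1)
  have hQR : Q' ≠ R := fun e => haZ (by
    have h1 := dist b hb hbZ _ (mul_mem ha hb) habZ (mem_subgroupOf.1 (QuotientGroup.eq.1 e))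
    have := F.Z2_conj (F.Q_le hb) h1
    rwa [show b * (b⁻¹ * (a * b)) * b⁻¹ = a by group] at this)
  have hPP : ∀ x : U ⧸ (zpowers F.z).subgroupOf U, x * x = 1 := fun x => by
    obtain ⟨y, rfl⟩ := QuotientGroup.mk_surjective x
    rw [← QuotientGroup.mk_mul, QuotientGroup.eq_one_iff, mem_subgroupOf]
    exact hS1.2.1 y (hUZ y.2)
  have hRv : P * Q' = R := by
    haveI := Fintype.ofFinite (U ⧸ (zpowers F.z).subgroupOf U)
    by_contra hne
    have n1 : P * Q' ≠ 1 := fun e => hPQ ((eq_inv_of_mul_eq_one_left e).trans (inv_eq_of_mul_eq_one_right (hPP Q')))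
    have n2 : P * Q' ≠ P := fun e => hQ1 (mul_eq_left.1 e)
    have n3 : P * Q' ≠ Q' := fun e => hP1 (mul_eq_right.1 e)
    have h5 : ({1, P, Q', R, P * Q'} : Finset _).card = 5 := by
      rw [Finset.card_insert_of_notMem, Finset.card_insert_of_notMem, Finset.card_insert_of_notMem,
        Finset.card_insert_of_notMem, Finset.card_singleton] <;>
        simp only [Finset.mem_insert, Finset.mem_singleton, not_or] <;>
        first
        | exact ⟨hPQ, hPR, Ne.symm n2⟩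
        | exact ⟨hQR, Ne.symm n3⟩
        | exact Ne.symm hne
        | exact ⟨Ne.symm hP1, Ne.symm hQ1, Ne.symm hR1, Ne.symm n1⟩
    have := Finset.card_le_univ ({1, P, Q', R, P * Q'} : Finset _)
    rw [h5, ← Nat.card_eq_fintype_card] at this
    omega
  have hfin : P⁻¹ * R * Q' = 1 := by rw [← hRv, inv_mul_cancel_left, hPP]
  simp only [P, Q', R, ← QuotientGroup.mk_inv, ← QuotientGroup.mk_mul, QuotientGroup.eq_one_iff, mem_subgroupOf] at hfin
  exact hfin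

/-- All commutators of `Q` lie in `{1, z}`. -/
theorem Z2_eq : F.Z2 = F.Q := by
  rcases F.card_Z2 with h | h | h | h
  · exact absurd h F.Z2_ne_two
  · exfalso
    refine absurd ?_ (show F.Z2 ≠ F.Q from fun e => by rw [e, F.card_Q_eq] at h; norm_num at h)
    refine le_antisymm F.Z2_le fun a ha => ⟨ha, fun b hb => ?_⟩
    -- the commutator as a product of squares
    have h1 := F.sq_add h ha (inv_mem hb)
    have hbb : b * b * (b * b) ∈ zpowers F.z := by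
      have hs := F.sq_add h hb hb
      rwa [inv_mul_cancel_left] at hs
    have h2 : b * a⁻¹ * a⁻¹ * 1 ∈ F.Q := mul_mem (mul_mem (mul_mem hb (inv_mem ha)) (inv_mem ha)) (one_mem _)
    have hc : (b * a)⁻¹ * (a * b) ∈ zpowers F.z := by
      have h3 := mul_mem h1 hbb
      rwa [show (a * a)⁻¹ * (a * b⁻¹ * (a * b⁻¹)) * (b⁻¹ * b⁻¹) * (b * b * (b * b)) =
        (a⁻¹ * b⁻¹) * (a * b) by group, show a⁻¹ * b⁻¹ = (b * a)⁻¹ by group] at h3
    rcases eq_or_eq_of_card_two F (X := zpowers F.z) (by rw [Nat.card_zpowers, F.z_two]) (mem_zpowers _) hc with e | e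
    · exact Or.inl (inv_mul_eq_one.1 e).symm
    · exact Or.inr (by rw [← e, mul_inv_cancel_left])
  · exact eq_of_le_of_card_ge F.Z2_le (by rw [h, F.card_Q_eq])
  · exfalso
    have := Nat.le_of_dvd Nat.card_pos (card_dvd_of_le F.Z2_le)
    rw [h, F.card_Q_eq] at this
    norm_num at this

/-- Commutators in `Q`. -/
theorem comm_cases {a b : G} (ha : a ∈ F.Q) (hb : b ∈ F.Q) : a * b = b * a ∨ a * b = b * a * F.z :=
  (F.Z2_eq.symm ▸ ha : a ∈ F.Z2).2 b hb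

end Cfsg.Agent.M24Order.Facts
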