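import Cfsg.Agent.Lib.M24Order.Local.Base
import Mathlib.GroupTheory.SpecificGroups.Alternating.Simple

/-!
# No subgroup of order 1536 with a normal subgroup of order 512 in the centraliser of `t`

`no_1536`: the action on the five cosets, and `|C(t) ∩ C(v)| = 20` for the elements `v` of order five.
-/

set_option autoImplicit false
set_option linter.style.haveILetI false

namespace Cfsg.Agent.M24Order.Facts

open Subgroup Cfsg Equiv

variable {G : Type*} [Group G] [Finite G] (F : Facts G)

theorem no_fifteen {α : Type*} [Fintype α] [DecidableEq α] (hα : Fintype.card α = 5) (M : Subgroup (Perm α))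
    (hM : Nat.card M = 15 ∨ Nat.card M = 30) : False := by
  haveI : Nontrivial α := Fintype.one_lt_card_iff_nontrivial.1 (by omega)
  haveI : IsSimpleGroup (alternatingGroup α) := alternatingGroup.isSimpleGroup (by rw [Nat.card_eq_fintype_card, hα])
  have hA : Nat.card (alternatingGroup α) = 60 := by
    have := two_mul_nat_card_alternatingGroup (α := α)
    rw [Nat.card_perm, Nat.card_eq_fintype_card (α := α), hα, show Nat.factorial 5 = 120 from rfl] at this
    omega
  set N := M.subgroupOf (alternatingGroup α) with hN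
  have hNd : 15 ≤ Nat.card N ∧ Nat.card N ≤ 30 := by
    have h1 : Nat.card N ∣ Nat.card M := card_comap_dvd_of_injective M _ (alternatingGroup α).subtype_injective
    refine ⟨?_, le_trans (Nat.le_of_dvd Nat.card_pos h1) (by rcases hM with e | e <;> omega)⟩
    have h2 : Nat.card M ∣ Nat.card N * 2 := by
      have h4 := card_mul_index ((alternatingGroup α).subgroupOf M)
      have e : Nat.card ↥((alternatingGroup α).subgroupOf M) = Nat.card N :=
        Nat.card_congr
          { toFun := fun x => ⟨⟨x.1.1, x.2⟩, x.1.2⟩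
            invFun := fun x => ⟨⟨x.1.1, x.2⟩, x.1.2⟩
            left_inv := fun x => rfl
            right_inv := fun x => rfl }
      rw [e] at h4
      have h5 : (alternatingGroup α).relIndex M ∣ (alternatingGroup α).index :=
        relIndex_dvd_index_of_normal _ _
      rw [relIndex, alternatingGroup.index_eq_two] at h5
      rw [← h4]
      exact mul_dvd_mul_left _ h5
    have := Nat.le_of_dvd (Nat.mul_pos Nat.card_pos (by norm_num)) h2
    rcases hM with e | e
    · have h3 : 15 ∣ Nat.card N := (show Nat.Coprime 15 2 by norm_num).dvd_of_dvd_mul_right (e ▸ h2)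
      exact Nat.le_of_dvd Nat.card_pos h3
    · omega
  have hne : N ≠ ⊤ := fun e => by rw [e, card_top, hA] at hNd; omega
  have hna : ¬ IsMulCommutative (alternatingGroup α) :=
    SmallSimple.Basic.not_comm_of_not_prime (by rw [hA]; norm_num)
  have h := SmallSimple.Basic.two_mul_card_dvd_factorial hna N hne
  have hi : N.index ≤ 4 := by
    have := card_mul_index N
    rw [hA] at this
    nlinarith
  rw [hA] at h
  interval_cases hc : N.index <;> norm_num [Nat.factorial] at h

theorem no_1536 {H A : Subgroup G} (hH : H ≤ centralizer ({F.t} : Set G)) (hAH : A ≤ H)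
    (hcH : Nat.card H = 1536) (hcA : Nat.card A = 512)
    (hn : ∀ h ∈ H, ∀ x ∈ A, h * x * h⁻¹ ∈ A) : False := by
  classical
  haveI : Fact (Nat.Prime 2) := ⟨Nat.prime_two⟩
  haveI : Fact (Nat.Prime 3) := ⟨Nat.prime_three⟩
  haveI : Fact (Nat.Prime 5) := ⟨by norm_num⟩
  set C := centralizer ({F.t} : Set G) with hC
  set H' := H.subgroupOf C with hH'
  have hcH' : Nat.card H' = 1536 := by rw [hH', Nat.card_congr (subgroupOfEquivOfLe hH).toEquiv, hcH]
  have hidx : H'.index = 5 := by
    have h := card_mul_index H'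
    rw [hcH', show Nat.card C = 7680 from F.card_Ct] at h
    omega
  haveI := Fintype.ofFinite (C ⧸ H')
  have hα : Fintype.card (C ⧸ H') = 5 := by rw [← Nat.card_eq_fintype_card, ← index_eq_card, hidx]
  set f := MulAction.toPermHom C (C ⧸ H') with hf
  set K := f.ker with hK
  have hKH : K ≤ H' := by rw [hK, hf, ← normalCore_eq_ker]; exact normalCore_le H'
  have hmul : Nat.card K * Nat.card f.range = 7680 := by
    rw [hK, ← index_ker, card_mul_index]; exact F.card_Ct
  have hr : Nat.card f.range ∣ 120 := by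
    have := card_subgroup_dvd_card f.range
    rwa [Nat.card_perm, Nat.card_eq_fintype_card (α := C ⧸ H'), hα] at this
  have hKd : Nat.card K ∣ 1536 := hcH' ▸ card_dvd_of_le hKH
  obtain ⟨v, hv⟩ := exists_prime_orderOf_dvd_card' (G := C) 5 (by rw [show Nat.card C = 7680 from F.card_Ct]; norm_num)
  have hv' : orderOf (v : G) = 5 := by rw [Subgroup.orderOf_coe, hv]
  by_cases h3 : 3 ∣ Nat.card K
  · -- an element of order five normalises a subgroup of order three
    obtain D : Sylow 3 K := default
    have hDc : Nat.card (D : Subgroup K) = 3 := by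
      obtain ⟨m, hm⟩ := h3
      refine (SmallSimple.Basic.card_sylow_eq_pow (a := 1) (m := m) (by rw [hm, pow_one]) ?_ D).trans (by norm_num)
      rintro ⟨l, rfl⟩
      have : 9 ∣ 1536 := dvd_trans ⟨l, by rw [hm]; ring⟩ hKd
      norm_num at this
    set D' := (D : Subgroup K).map K.subtype with hD'
    have hD'c : Nat.card D' = 3 := by rw [hD', card_subtype, hDc]
    have hF : normalizer (D' : Set C) ⊔ K = ⊤ := D.normalizer_sup_eq_top
    have h5 : 5 ∣ Nat.card (normalizer (D' : Set C)) := by
      have h1 := relIndex_sup_right (H := normalizer (D' : Set C)) (K := K)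
      rw [hF, relIndex_top_right] at h1
      have h2 : K.index ∣ Nat.card (normalizer (D' : Set C)) := by
        rw [h1, relIndex]; exact index_dvd_card _
      refine dvd_trans ?_ h2
      have h3' := card_mul_index K
      rw [show Nat.card C = 7680 from F.card_Ct] at h3'
      have h4 : 5 ∣ Nat.card K * K.index := by rw [h3']; norm_num
      rcases (Nat.Prime.dvd_mul (by norm_num)).1 h4 with h | h
      · exact absurd (h.trans hKd) (by norm_num)
      · exact h
    obtain ⟨⟨w, hw⟩, hw5⟩ := exists_prime_orderOf_dvd_card' 5 h5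
    rw [Subgroup.orderOf_mk] at hw5
    haveI : IsCyclic D' := isCyclic_of_prime_card hD'c
    have hcent : w ∈ centralizer (D' : Set C) := by
      let φ := normalizerMonoidHom D'
      have h1 : φ ⟨w, hw⟩ = 1 := by
        have ha : Nat.card (MulAut D') = 2 := by rw [IsCyclic.card_mulAut, hD'c]; decide
        have d1 : orderOf (φ ⟨w, hw⟩) ∣ 2 := ha ▸ orderOf_dvd_natCard _
        have d2 : orderOf (φ ⟨w, hw⟩) ∣ 5 := by
          have := orderOf_map_dvd φ ⟨w, hw⟩
          rwa [Subgroup.orderOf_mk, hw5] at this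
        exact orderOf_eq_one_iff.1 (Nat.eq_one_of_dvd_coprimes (by norm_num) d1 d2)
      have hk : (⟨w, hw⟩ : normalizer (D' : Set C)) ∈ φ.ker := h1
      rwa [normalizerMonoidHom_ker, mem_subgroupOf] at hk
    have hwG : orderOf (w : G) = 5 := by rw [Subgroup.orderOf_coe, hw5]
    have h20 := (F.five _ hwG (mem_centralizer_singleton_iff.1 w.2)).1
    obtain ⟨⟨d, hd⟩, hd3⟩ := exists_prime_orderOf_dvd_card' (G := D') 3 (by rw [hD'c])
    rw [Subgroup.orderOf_mk] at hd3
    have hdm : (d : G) ∈ C ⊓ centralizer ({(w : G)} : Set G) := ⟨d.2,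
      mem_centralizer_singleton_iff.2 (congrArg Subtype.val (mem_centralizer_iff.1 hcent d hd))⟩
    have := Subgroup.orderOf_dvd_natCard _ hdm
    rw [Subgroup.orderOf_coe, hd3, h20] at this
    norm_num at this
  -- `K` is a 2-group
  have hK2 : ∃ n, n ≤ 9 ∧ Nat.card K = 2 ^ n := by
    have h : Nat.card K ∣ 2 ^ 9 := ((Nat.Prime.coprime_iff_not_dvd Nat.prime_three).2 h3).symm.dvd_of_dvd_mul_left
      (show Nat.card K ∣ 3 * 2 ^ 9 by simpa using hKd)
    obtain ⟨n, hn, e⟩ := (Nat.dvd_prime_pow Nat.prime_two).1 h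
    exact ⟨n, hn, e⟩
  obtain ⟨n, hn9, hcK⟩ := hK2
  -- the fixed points of `v` on `K`
  have hfix : Nat.card K % 5 ≠ 3 := by
    letI : MulAction (zpowers v) K :=
      MulAction.compHom _ ((MulAut.conjNormal (H := K)).comp (zpowers v).subtype)
    have hp : IsPGroup 5 (zpowers v) := IsPGroup.of_card (n := 1) (by rw [Nat.card_zpowers, hv, pow_one])
    have h := hp.card_modEq_card_fixedPoints (α := K)
    let KK : Subgroup G := K.map C.subtype ⊓ centralizer ({(v : G)} : Set G)
    have e : Nat.card (MulAction.fixedPoints (zpowers v) K) = Nat.card KK := by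
      refine Nat.card_congr
        { toFun := fun x => ⟨(x.1.1 : G), ⟨x.1.1, x.1.2, rfl⟩, ?_⟩
          invFun := fun y => ⟨⟨⟨y.1, (map_subtype_le K) y.2.1⟩, ?_⟩, ?_⟩
          left_inv := fun x => rfl
          right_inv := fun y => rfl }
      · have h1 := congrArg Subtype.val (x.2 ⟨v, mem_zpowers v⟩)
        change ((MulAut.conjNormal v x.1 : K) : C) = x.1.1 at h1
        rw [MulAut.conjNormal_apply] at h1
        exact mem_centralizer_singleton_iff.2 (congrArg Subtype.val (mul_inv_eq_iff_eq_mul.1 h1)).symm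
      · obtain ⟨x, hx, e⟩ := y.2.1
        rwa [← show x = ⟨y.1, (map_subtype_le K) y.2.1⟩ from Subtype.ext e]
      · rintro ⟨m, k, rfl⟩
        refine Subtype.ext ?_
        show ((MulAut.conjNormal (v ^ k) _ : K) : C) = _
        rw [MulAut.conjNormal_apply]
        refine Subtype.ext ?_
        have hc : Commute ((v : G) ^ k) y.1 :=
          Commute.zpow_left (mem_centralizer_singleton_iff.1 y.2.2).symm k
        simp only [Subgroup.coe_mul, Subgroup.coe_inv, SubgroupClass.coe_zpow]
        rw [hc.eq, mul_inv_cancel_right]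
    have h20 := (F.five _ hv' (mem_centralizer_singleton_iff.1 v.2)).1
    have hd : Nat.card KK ∣ 20 := h20 ▸ card_dvd_of_le (inf_le_inf_right _ (map_subtype_le K))
    have hd2 : Nat.card KK ∣ 2 ^ n := by
      rw [← hcK, ← card_subtype C K]
      exact card_dvd_of_le inf_le_left
    have h4 : Nat.card KK ∣ 4 :=
      ((Nat.Coprime.pow_left n (show Nat.Coprime 2 5 by norm_num)).coprime_dvd_left hd2).dvd_of_dvd_mul_left
        (show Nat.card KK ∣ 5 * 4 by simpa using hd)
    rw [e] at h
    have := Nat.le_of_dvd (by norm_num) h4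
    unfold Nat.ModEq at h
    obtain ⟨k, hk⟩ := h4
    interval_cases hc : Nat.card KK <;> omega
  rw [hcK] at hmul hfix
  -- the possible orders of the image
  have hcases : (n = 9 ∨ n = 8) ∨ n = 6 := by
    have hn0 : 6 ≤ n := by
      by_contra hlt
      have := Nat.le_of_dvd (by norm_num) hr
      have h2 : 2 ^ n ≤ 2 ^ 5 := Nat.pow_le_pow_right (by norm_num) (by omega)
      nlinarith
    have : n ≠ 7 := fun e => hfix (by rw [e]; norm_num)
    omega
  rcases hcases with h | rfl
  · apply no_fifteen hα f.range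
    rcases h with rfl | rfl <;> norm_num at hmul ⊢ <;> omega
  -- the image is everything, but the point stabiliser has a normal Sylow 2-subgroup
  have htop : f.range = ⊤ := eq_top_of_card_eq _ (by
    rw [Nat.card_perm, Nat.card_eq_fintype_card (α := C ⧸ H'), hα, show Nat.factorial 5 = 120 from rfl]
    omega)
  set p : C ⧸ H' := QuotientGroup.mk 1 with hp
  obtain ⟨a, ha, b, hb, c, hc, hab, hac, hbc⟩ : ∃ a, a ≠ p ∧ ∃ b, b ≠ p ∧ ∃ c, c ≠ p ∧ a ≠ b ∧ a ≠ c ∧ b ≠ c := by
    have h4 : (Finset.univ.erase p).card = 4 := by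
      rw [Finset.card_erase_of_mem (Finset.mem_univ _), Finset.card_univ, hα]
    obtain ⟨a, ha, b, hb, c, hc, hab, hac, hbc⟩ := Finset.two_lt_card.1 (show 2 < (Finset.univ.erase p).card by omega)
    exact ⟨a, Finset.ne_of_mem_erase ha, b, Finset.ne_of_mem_erase hb, c, Finset.ne_of_mem_erase hc, hab, hac, hbc⟩
  set A' := A.subgroupOf C with hA'
  haveI hAn : (A'.subgroupOf H').Normal := ⟨fun x hx h => hn _ h.2 _ hx⟩
  have hq : Nat.card (H' ⧸ A'.subgroupOf H') = 3 := by
    have h := card_mul_index (A'.subgroupOf H')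
    rw [Nat.card_congr (subgroupOfEquivOfLe (fun x hx => hAH hx : A' ≤ H')).toEquiv,
      Nat.card_congr (subgroupOfEquivOfLe (hAH.trans hH)).toEquiv, hcA, hcH', index_eq_card] at h
    omega
  have hswap : ∀ x y : C ⧸ H', x ≠ p → y ≠ p → x ≠ y → Equiv.swap x y ∈ A'.map f := by
    intro x y hx hy hxy
    obtain ⟨g, hg⟩ := (htop ▸ mem_top (Equiv.swap x y) : Equiv.swap x y ∈ f.range)
    have hgH : g ∈ H' := by
      have h1 : f g p = p := by rw [hg, Equiv.swap_apply_of_ne_of_ne (Ne.symm hx) (Ne.symm hy)]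
      change g • (QuotientGroup.mk 1 : C ⧸ H') = QuotientGroup.mk 1 at h1
      rw [MulAction.Quotient.smul_mk, QuotientGroup.eq] at h1
      simpa using h1
    -- the cube of `g` lies in `A`
    refine ⟨g ^ 3, ?_, by rw [map_pow, hg]; exact (pow_succ _ 2).trans (by rw [pow_two, Equiv.swap_mul_self, one_mul])⟩
    have h1 := pow_card_eq_one' (x := ((⟨g, hgH⟩ : H') : H' ⧸ A'.subgroupOf H'))
    rw [hq, ← QuotientGroup.mk_pow, QuotientGroup.eq_one_iff, mem_subgroupOf] at h1
    simpa using h1
  have h3c : (Equiv.swap a b * Equiv.swap b c) ∈ A'.map f := mul_mem (hswap a b ha hb hab) (hswap b c hb hc hbc)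
  have ho : orderOf (Equiv.swap a b * Equiv.swap b c) = 3 := by
    refine Equiv.Perm.IsThreeCycle.orderOf ?_
    rw [Equiv.swap_comm a b]
    exact Equiv.Perm.isThreeCycle_swap_mul_swap_same (Ne.symm hab) hbc hac
  have hpA : IsPGroup 2 (A'.map f) := by
    refine IsPGroup.map (IsPGroup.of_card (n := 9) ?_) f
    rw [hA', Nat.card_congr (subgroupOfEquivOfLe (hAH.trans hH)).toEquiv, hcA]; norm_num
  obtain ⟨m, hm⟩ := IsPGroup.iff_orderOf.1 hpA ⟨_, h3c⟩
  rw [Subgroup.orderOf_mk, ho] at hm
  have := (Nat.prime_dvd_prime_iff_eq Nat.prime_three Nat.prime_two).1 (Nat.prime_three.dvd_of_dvd_pow (dvd_of_eq hm))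
  norm_num at this

end Cfsg.Agent.M24Order.Facts
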