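import Cfsg.Agent.Lib.M24Order.Local.Solvable

/-!
# Elements of order three on `Q`, and `N(Q) = C(z)`

* `card_fixed_three`: an element of order three of `C(z)` centralises at most eight elements of `Q`.
* `exists_fixed_three`: when `Q` is abelian it centralises at least eight.
* `mem_Cz_of_normalizes`: `N(Q) = C(z)`.
-/

set_option autoImplicit false
set_option linter.style.haveILetI false

namespace Cfsg.Agent.M24Order.Facts

open Subgroup Cfsg

variable {G : Type*} [Group G] [Finite G] (F : Facts G)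

theorem Cz_le_normalizer : F.Cz ≤ normalizer (F.Q : Set G) := by
  intro c hc
  rw [mem_normalizer_iff]
  intro y
  refine ⟨fun h => F.conj_mem_Q hc h, fun h => ?_⟩
  have := F.conj_mem_Q (inv_mem hc) h
  rwa [inv_inv, show c⁻¹ * (c * y * c⁻¹) * c = y by group] at this

/-- `N(Q)` is `C(z)`. -/
theorem mem_Cz_of_normalizes {n : G} (hn : n ∈ normalizer (F.Q : Set G)) : n ∈ F.Cz := by
  classical
  set N := normalizer (F.Q : Set G) with hN
  set T : Set G := {y | ∃ n ∈ N, n * F.z * n⁻¹ = y}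
  have hNc := F.card_orbit F.Cz_le_normalizer (T := T) fun x => Iff.rfl
  have hNd : Nat.card N ∣ 244823040 := F.card ▸ card_subgroup_dvd_card N
  have hTQ : T ⊆ (F.Q : Set G) \ {1} := by
    rintro _ ⟨m, hm, rfl⟩
    exact ⟨(mem_normalizer_iff.1 hm F.z).1 F.z_mem_Q, fun e => F.z_ne_one (conj_eq_one_iff.1 e)⟩
  have hzT : F.z ∈ T := ⟨1, one_mem _, by group⟩
  have h7 := F.dvd_of_no_fixed (T \ {F.z}) (fun x hx => by
      obtain ⟨⟨m, hm, rfl⟩, hxz⟩ := hx
      refine ⟨⟨F.u * m, mul_mem (F.Cz_le_normalizer F.u_mem_Cz) hm, by group⟩, fun e => hxz ?_⟩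
      rw [Set.mem_singleton_iff] at e ⊢
      calc m * F.z * m⁻¹ = F.u⁻¹ * (F.u * (m * F.z * m⁻¹) * F.u⁻¹) * F.u := by group
        _ = F.u⁻¹ * (F.z * F.u) := by rw [e, mul_assoc]
        _ = F.z := by rw [← F.uz, inv_mul_cancel_left])
    (fun x hx e => by
      rcases F.eq_of_fixed (hTQ hx.1).1 e with e' | e'
      exacts [(hTQ hx.1).2 e', hx.2 e'])
  rw [Nat.card_coe_set_eq, Set.ncard_diff_singleton_of_mem hzT] at h7
  have hT127 : T.ncard ≤ 127 := by
    refine (Set.ncard_le_ncard hTQ (Set.toFinite _)).trans (le_of_eq ?_)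
    rw [Set.ncard_diff_singleton_of_mem (one_mem F.Q), ← Nat.card_coe_set_eq]
    exact show Nat.card F.Q - 1 = 127 by rw [F.card_Q_eq]
  have hTpos : 0 < T.ncard := Set.ncard_pos (Set.toFinite _) |>.2 ⟨F.z, hzT⟩
  rw [Nat.card_coe_set_eq T] at hNc
  have hd : T.ncard ∣ 11385 := by
    have h : 21504 * T.ncard ∣ 21504 * 11385 := by rw [← hNc]; simpa using hNd
    exact Nat.dvd_of_mul_dvd_mul_left (by norm_num) h
  have hcases : T.ncard = 1 ∨ T.ncard = 15 ∨ T.ncard = 99 := by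
    have key : ∀ m < 128, m ∣ 11385 → 7 ∣ m - 1 → m = 0 ∨ m = 1 ∨ m = 15 ∨ m = 99 := by decide +kernel
    rcases key _ (by omega) hd h7 with h | h
    · omega
    · exact h
  -- fixed points of an element of `N` of prime order `p`
  have fixed : ∀ (p : ℕ), p.Prime → p ∣ Nat.card N → ∃ v : G, orderOf v = p ∧
      Nat.card ↥(F.Q ⊓ centralizer ({v} : Set G)) % p = 128 % p := by
    intro p hp hpd
    haveI : Fact p.Prime := ⟨hp⟩
    obtain ⟨⟨v, hvN⟩, hvo⟩ := exists_prime_orderOf_dvd_card' p hpd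
    rw [Subgroup.orderOf_mk] at hvo
    refine ⟨v, hvo, ?_⟩
    have hle : zpowers v ≤ N := zpowers_le.2 hvN
    letI : MulAction (zpowers v) F.Q :=
      { smul := fun a x => ⟨(a : G) * x * (a : G)⁻¹, (mem_normalizer_iff.1 (hle a.2) _).1 x.2⟩
        one_smul := fun x => Subtype.ext (show (1 : G) * x * (1 : G)⁻¹ = x by group)
        mul_smul := fun a b x => Subtype.ext
          (show ((a : G) * b) * x * ((a : G) * b)⁻¹ = (a : G) * ((b : G) * x * (b : G)⁻¹) * (a : G)⁻¹ by group) }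
    have h := (IsPGroup.of_card (n := 1) (G := zpowers v) (p := p)
      (by rw [Nat.card_zpowers, hvo, pow_one])).card_modEq_card_fixedPoints (α := F.Q)
    have e : Nat.card (MulAction.fixedPoints (zpowers v) F.Q) = Nat.card ↥(F.Q ⊓ centralizer ({v} : Set G)) :=
      Nat.card_congr
        { toFun := fun x => ⟨x.1.1, x.1.2, mem_centralizer_singleton_iff.2
            (mul_inv_eq_iff_eq_mul.1 (congrArg Subtype.val (x.2 ⟨v, mem_zpowers v⟩))).symm⟩
          invFun := fun y => ⟨⟨y.1, y.2.1⟩, fun a => by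
            obtain ⟨k, hk⟩ := mem_zpowers_iff.1 a.2
            refine Subtype.ext ?_
            show (a : G) * y.1 * (a : G)⁻¹ = y.1
            rw [← hk, (Commute.zpow_left (mem_centralizer_singleton_iff.1 y.2.2).symm k).eq, mul_inv_cancel_right]⟩
          left_inv := fun x => rfl
          right_inv := fun y => rfl }
    rw [e] at h
    exact h.symm.trans (by rw [F.card_Q_eq])
  rcases hcases with h | h | h
  · -- the orbit is trivial
    have hall : T = {F.z} := by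
      obtain ⟨a, ha⟩ := Set.ncard_eq_one.1 h
      rw [ha] at hzT ⊢
      rw [Set.mem_singleton_iff] at hzT
      rw [hzT]
    have hm : n * F.z * n⁻¹ ∈ T := ⟨n, hn, rfl⟩
    rw [hall, Set.mem_singleton_iff] at hm
    exact F.mem_Cz.2 (mul_inv_eq_iff_eq_mul.1 hm)
  · exfalso
    rw [h] at hNc
    obtain ⟨v, hv, hf⟩ := fixed 5 (by norm_num) (by rw [hNc]; norm_num)
    obtain ⟨k, hk, hc⟩ := F.pow_card (X := F.Q ⊓ centralizer ({v} : Set G)) inf_le_left
    have h60 : Nat.card ↥(F.Q ⊓ centralizer ({v} : Set G)) ∣ 60 := F.card_five v hv ▸ card_dvd_of_le inf_le_right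
    rw [hc] at hf h60
    interval_cases k <;> omega
  · exfalso
    rw [h] at hNc
    obtain ⟨v, hv, hf⟩ := fixed 11 (by norm_num) (by rw [hNc]; norm_num)
    have hd' : Nat.card ↥(F.Q ⊓ centralizer ({v} : Set G)) ∣ 128 := F.card_Q_eq ▸ card_dvd_of_le inf_le_left
    obtain ⟨k, hk, hc⟩ := F.pow_card (X := F.Q ⊓ centralizer ({v} : Set G)) inf_le_left
    rw [hc] at hf hd'
    have hk7 : k = 7 := by
      have : k ≤ 7 := (Nat.pow_dvd_pow_iff_le_right (show 1 < 2 by norm_num)).1 (by simpa using hd')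
      interval_cases k <;> omega
    have hfull : F.Q ⊓ centralizer ({v} : Set G) = F.Q :=
      eq_of_le_of_card_ge inf_le_left (by rw [hc, hk7, F.card_Q_eq]; norm_num)
    have hzv : F.z ∈ centralizer ({v} : Set G) := (hfull.symm ▸ F.z_mem_Q : F.z ∈ F.Q ⊓ centralizer ({v} : Set G)).2
    have := Subgroup.orderOf_dvd_natCard _ (F.mem_Cz.2 (mem_centralizer_singleton_iff.1 hzv).symm : v ∈ F.Cz)
    rw [hv, F.card_Cz] at this
    norm_num at this

/-- An element of order three of `C(z)` centralises at most eight elements of `Q`. -/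
theorem card_fixed_three {d : G} (hd : d ∈ F.Cz) (hd3 : orderOf d = 3) :
    Nat.card ↥(F.Q ⊓ centralizer ({d} : Set G)) ≤ 8 := by
  classical
  haveI : Fact (Nat.Prime 3) := ⟨Nat.prime_three⟩
  -- an element of order three normalising `<u>`
  obtain ⟨⟨e, he⟩, he3⟩ := exists_prime_orderOf_dvd_card'
    (G := ↥(F.Cz ⊓ normalizer (zpowers F.u : Set G))) 3 (by rw [F.card_Nzu]; norm_num)
  rw [Subgroup.orderOf_mk] at he3
  -- all of them are conjugate
  have hS : ∀ S : Sylow 3 F.Cz, Nat.card (S : Subgroup F.Cz) = 3 := fun S =>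
    (SmallSimple.Basic.card_sylow_eq_pow (a := 1) (m := 7168) (by rw [F.card_Cz]; norm_num) (by norm_num) S).trans
      (by norm_num)
  obtain ⟨A, hA⟩ := (IsPGroup.of_card (n := 1) (G := zpowers (⟨d, hd⟩ : F.Cz)) (p := 3)
    (by rw [Nat.card_zpowers, Subgroup.orderOf_mk, hd3, pow_one])).exists_le_sylow
  obtain ⟨B, hB⟩ := (IsPGroup.of_card (n := 1) (G := zpowers (⟨e, he.1⟩ : F.Cz)) (p := 3)
    (by rw [Nat.card_zpowers, Subgroup.orderOf_mk, he3, pow_one])).exists_le_sylow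
  have eA : zpowers (⟨d, hd⟩ : F.Cz) = (A : Subgroup F.Cz) :=
    eq_of_le_of_card_ge hA (by rw [hS, Nat.card_zpowers, Subgroup.orderOf_mk, hd3])
  obtain ⟨c, hc⟩ := MulAction.exists_smul_eq F.Cz A B
  have heB : (⟨e, he.1⟩ : F.Cz) ∈ (B : Subgroup F.Cz) := hB (mem_zpowers _)
  rw [← hc, Sylow.coe_subgroup_smul, ← eA] at heB
  obtain ⟨x, ⟨k, rfl⟩, hx⟩ := heB
  have hx' : (c : G) * d ^ k * (c : G)⁻¹ = e := by simpa using congrArg Subtype.val hx
  refine le_trans (?_ : _ ≤ Nat.card ↥(F.Q ⊓ centralizer ({e} : Set G))) ?_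
  · refine Nat.card_le_card_of_injective
      (fun y => (⟨(c : G) * y.1 * (c : G)⁻¹, F.conj_mem_Q c.2 y.2.1, mem_centralizer_singleton_iff.2 (by
        rw [← hx']
        have hy := Commute.zpow_right (show Commute y.1 d from mem_centralizer_singleton_iff.1 y.2.2) k
        calc (c : G) * y.1 * (c : G)⁻¹ * ((c : G) * d ^ k * (c : G)⁻¹) = c * (y.1 * d ^ k) * (c : G)⁻¹ := by group
          _ = c * (d ^ k * y.1) * (c : G)⁻¹ := by rw [hy.eq]
          _ = _ := by group)⟩ : ↥(F.Q ⊓ centralizer ({e} : Set G))))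
      fun a b h => Subtype.ext ?_
    exact mul_left_cancel (mul_right_cancel (congrArg Subtype.val h))
  -- the count for `e`
  set X := F.Q ⊓ centralizer ({e} : Set G) with hX
  obtain ⟨r, hr⟩ := mem_zpowers_iff.1 ((mem_normalizer_iff.1 he.2 F.u).1 (mem_zpowers _))
  have hr1 : ¬ (7 : ℤ) ∣ r - 1 := by
    rintro ⟨l, hl⟩
    have hu1 : F.u ^ r = F.u := by
      rw [show r = 1 + 7 * l by linarith, zpow_add, zpow_one, zpow_mul, show F.u ^ (7 : ℤ) = 1 by exact_mod_cast F.u7,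
        one_zpow, mul_one]
    rw [hu1] at hr
    have hm : e ∈ F.Cz ⊓ centralizer ({F.u} : Set G) :=
      ⟨he.1, mem_centralizer_singleton_iff.2 (mul_inv_eq_iff_eq_mul.1 hr.symm)⟩
    have := Subgroup.orderOf_dvd_natCard _ hm
    rw [he3, F.card_Czu] at this
    norm_num at this
  obtain ⟨n, hn, hcX⟩ := F.pow_card (X := X) inf_le_left
  -- modulo three
  have hmod : Nat.card X % 3 = 2 := by
    have hle : zpowers e ≤ F.Cz := zpowers_le.2 he.1
    letI : MulAction (zpowers e) F.Q :=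
      { smul := fun a x => ⟨(a : G) * x * (a : G)⁻¹, F.conj_mem_Q (hle a.2) x.2⟩
        one_smul := fun x => Subtype.ext (show (1 : G) * x * (1 : G)⁻¹ = x by group)
        mul_smul := fun a b x => Subtype.ext
          (show ((a : G) * b) * x * ((a : G) * b)⁻¹ = (a : G) * ((b : G) * x * (b : G)⁻¹) * (a : G)⁻¹ by group) }
    have h := (IsPGroup.of_card (n := 1) (G := zpowers e) (p := 3)
      (by rw [Nat.card_zpowers, he3, pow_one])).card_modEq_card_fixedPoints (α := F.Q)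
    have e' : Nat.card (MulAction.fixedPoints (zpowers e) F.Q) = Nat.card X :=
      Nat.card_congr
        { toFun := fun x => ⟨x.1.1, x.1.2, mem_centralizer_singleton_iff.2
            (mul_inv_eq_iff_eq_mul.1 (congrArg Subtype.val (x.2 ⟨e, mem_zpowers e⟩))).symm⟩
          invFun := fun y => ⟨⟨y.1, y.2.1⟩, fun a => by
            obtain ⟨k, hk⟩ := mem_zpowers_iff.1 a.2
            refine Subtype.ext ?_
            show (a : G) * y.1 * (a : G)⁻¹ = y.1
            rw [← hk, (Commute.zpow_left (mem_centralizer_singleton_iff.1 y.2.2).symm k).eq, mul_inv_cancel_right]⟩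
          left_inv := fun x => rfl
          right_inv := fun y => rfl }
    rw [e', F.card_Q_eq] at h
    exact h.symm.trans rfl
  -- the conjugates under `<u>` of the fixed points are distinct
  let Y := {x : X // x.1 ≠ 1 ∧ x.1 ≠ F.z}
  have hY : Nat.card Y = Nat.card X - 2 := by
    have h1 : ({1, F.z} : Set G) ⊆ (X : Set G) := by
      rintro x (rfl | rfl)
      exacts [one_mem X, ⟨F.z_mem_Q, mem_centralizer_singleton_iff.2 (F.mem_Cz.1 he.1).symm⟩]
    have e1 : Nat.card Y = ((X : Set G) \ {1, F.z} : Set G).ncard := by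
      rw [← Nat.card_coe_set_eq]
      exact Nat.card_congr
        { toFun := fun x => ⟨x.1.1, x.1.2, fun h => by
            simp only [Set.mem_insert_iff, Set.mem_singleton_iff] at h
            rcases h with h | h
            exacts [x.2.1 h, x.2.2 h]⟩
          invFun := fun y => ⟨⟨y.1, y.2.1⟩, fun h => y.2.2 (Or.inl h), fun h => y.2.2 (Or.inr h)⟩
          left_inv := fun x => rfl
          right_inv := fun y => rfl }
    rw [e1, Set.ncard_diff h1 (Set.toFinite _), Set.ncard_pair (Ne.symm F.z_ne_one), ← Nat.card_coe_set_eq]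
    rfl
  have hzpow : ∀ k : ℕ, F.u ^ k * F.z = F.z * F.u ^ k := fun k => (Commute.pow_left (show Commute F.u F.z from F.uz) k).eq
  let f : Fin 7 × Y → ((F.Q : Set G) \ {1, F.z} : Set G) := fun p =>
    ⟨F.u ^ (p.1 : ℕ) * p.2.1.1 * (F.u ^ (p.1 : ℕ))⁻¹, F.conj_mem_Q (pow_mem F.u_mem_Cz _) p.2.1.2.1, by
      simp only [Set.mem_insert_iff, Set.mem_singleton_iff]
      rintro (h | h)
      · exact p.2.2.1 (conj_eq_one_iff.1 h)
      · refine p.2.2.2 ?_
        calc p.2.1.1 = (F.u ^ (p.1 : ℕ))⁻¹ * (F.u ^ (p.1 : ℕ) * p.2.1.1 * (F.u ^ (p.1 : ℕ))⁻¹) * F.u ^ (p.1 : ℕ) := by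
              group
          _ = (F.u ^ (p.1 : ℕ))⁻¹ * (F.z * F.u ^ (p.1 : ℕ)) := by rw [h, mul_assoc]
          _ = F.z := by rw [← hzpow, inv_mul_cancel_left]⟩
  have hf : Function.Injective f := by
    rintro ⟨i, x⟩ ⟨j, y⟩ h
    have h' : F.u ^ (i : ℤ) * x.1.1 * (F.u ^ (i : ℤ))⁻¹ = F.u ^ (j : ℤ) * y.1.1 * (F.u ^ (j : ℤ))⁻¹ := by
      simpa [f, zpow_natCast] using congrArg Subtype.val h
    set m : ℤ := (j : ℤ) - i with hm
    have hxy : x.1.1 = F.u ^ m * y.1.1 * (F.u ^ m)⁻¹ := by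
      calc x.1.1 = (F.u ^ (i : ℤ))⁻¹ * (F.u ^ (i : ℤ) * x.1.1 * (F.u ^ (i : ℤ))⁻¹) * F.u ^ (i : ℤ) := by group
        _ = _ := by rw [h', hm]; group
    -- apply `e`
    have h2 : x.1.1 = F.u ^ (r * m) * y.1.1 * (F.u ^ (r * m))⁻¹ := by
      have hcx : e * x.1.1 * e⁻¹ = x.1.1 := by
        rw [(mem_centralizer_singleton_iff.1 x.1.2.2).symm, mul_inv_cancel_right]
      have hcy : e * y.1.1 * e⁻¹ = y.1.1 := by
        rw [(mem_centralizer_singleton_iff.1 y.1.2.2).symm, mul_inv_cancel_right]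
      calc x.1.1 = e * (F.u ^ m * y.1.1 * (F.u ^ m)⁻¹) * e⁻¹ := by rw [← hxy, hcx]
        _ = (e * F.u ^ m * e⁻¹) * (e * y.1.1 * e⁻¹) * (e * F.u ^ m * e⁻¹)⁻¹ := by group
        _ = _ := by rw [hcy, ← conj_zpow, ← hr, ← zpow_mul]
    have h3 : Commute (F.u ^ ((r - 1) * m)) y.1.1 := by
      have e' : F.u ^ m * y.1.1 * (F.u ^ m)⁻¹ = F.u ^ (r * m) * y.1.1 * (F.u ^ (r * m))⁻¹ := hxy.symm.trans h2
      show F.u ^ ((r - 1) * m) * y.1.1 = y.1.1 * F.u ^ ((r - 1) * m)
      calc F.u ^ ((r - 1) * m) * y.1.1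
          = (F.u ^ m)⁻¹ * (F.u ^ (r * m) * y.1.1 * (F.u ^ (r * m))⁻¹) * F.u ^ (r * m) := by group
        _ = (F.u ^ m)⁻¹ * (F.u ^ m * y.1.1 * (F.u ^ m)⁻¹) * F.u ^ (r * m) := by rw [← e']
        _ = _ := by group
    by_cases hm7 : (7 : ℤ) ∣ m
    · have hij : i = j := Fin.ext (by
        have := i.isLt
        have := j.isLt
        omega)
      subst hij
      rw [sub_self] at hm
      rw [hm, zpow_zero, one_mul, inv_one, mul_one] at hxy
      exact Prod.ext rfl (Subtype.ext (Subtype.ext hxy))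
    · exfalso
      have hnd : ¬ (7 : ℤ) ∣ (r - 1) * m := fun hd => by
        rcases (show Prime (7 : ℤ) by norm_num).dvd_or_dvd hd with h | h
        exacts [hr1 h, hm7 h]
      obtain ⟨a, b, hab⟩ : ∃ a b : ℤ, (r - 1) * m * a + 7 * b = 1 := by
        exact ((show Prime (7 : ℤ) by norm_num).coprime_iff_not_dvd.2 hnd).symm.imp
          fun a h => h.imp fun b hb => by linarith
      have h4 := h3.zpow_left a
      rw [← zpow_mul, show (r - 1) * m * a = 1 - 7 * b by linarith, zpow_sub, zpow_one, zpow_mul,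
        show F.u ^ (7 : ℤ) = 1 by exact_mod_cast F.u7, one_zpow, inv_one, mul_one] at h4
      rcases F.eq_of_fixed y.1.2.1 h4.eq with h' | h'
      exacts [y.2.1 h', y.2.2 h']
  have hle := Nat.card_le_card_of_injective f hf
  have h126 : Nat.card ((F.Q : Set G) \ {1, F.z} : Set G) = 126 := by
    have h1 : ({1, F.z} : Set G) ⊆ (F.Q : Set G) := by
      rintro x (rfl | rfl)
      exacts [one_mem F.Q, F.z_mem_Q]
    rw [Nat.card_coe_set_eq, Set.ncard_diff h1 (Set.toFinite _), Set.ncard_pair (Ne.symm F.z_ne_one),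
      ← Nat.card_coe_set_eq]
    exact show Nat.card F.Q - 2 = 126 by rw [F.card_Q_eq]
  rw [h126, Nat.card_prod, Nat.card_fin, hY] at hle
  rw [hcX] at hmod hle ⊢
  interval_cases n <;> omega

/-- If `Q` is abelian, an element of order three normalising `<u>` centralises more than `<z>`. -/
theorem exists_fixed_three (hab : ∀ a ∈ F.Q, ∀ b ∈ F.Q, a * b = b * a) :
    ∃ e ∈ F.Cz, orderOf e = 3 ∧ ∃ y ∈ F.Q, y ≠ 1 ∧ y ≠ F.z ∧ y * e = e * y := by
  classical
  haveI : Fact (Nat.Prime 3) := ⟨Nat.prime_three⟩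
  obtain ⟨⟨e, he⟩, he3⟩ := exists_prime_orderOf_dvd_card'
    (G := ↥(F.Cz ⊓ normalizer (zpowers F.u : Set G))) 3 (by rw [F.card_Nzu]; norm_num)
  rw [Subgroup.orderOf_mk] at he3
  refine ⟨e, he.1, he3, ?_⟩
  by_contra hcon
  push Not at hcon
  letI : CommGroup F.Q := { (inferInstance : Group F.Q) with mul_comm := fun a b => Subtype.ext (hab a a.2 b b.2) }
  let σ : G → F.Q → F.Q := fun g x => if h : g ∈ F.Cz then ⟨g * x * g⁻¹, F.conj_mem_Q h x.2⟩ else x
  have σv : ∀ g, g ∈ F.Cz → ∀ x : F.Q, (σ g x : G) = g * x * g⁻¹ := fun g hg x => by simp [σ, hg]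
  have σmul : ∀ g, g ∈ F.Cz → ∀ x y : F.Q, σ g (x * y) = σ g x * σ g y := fun g hg x y => Subtype.ext (by
    rw [σv g hg, Subgroup.coe_mul, Subgroup.coe_mul, σv g hg, σv g hg]; group)
  have σcomp : ∀ g h, g ∈ F.Cz → h ∈ F.Cz → ∀ x : F.Q, σ g (σ h x) = σ (g * h) x := fun g h hg hh x =>
    Subtype.ext (by rw [σv g hg, σv h hh, σv _ (mul_mem hg hh)]; group)
  -- norms lie in `<z>`
  set Zq : Subgroup F.Q := (zpowers F.z).subgroupOf F.Q
  have hmemZ : ∀ y : F.Q, ((y : G) = 1 ∨ (y : G) = F.z) → y ∈ Zq := by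
    rintro y (h | h) <;> rw [mem_subgroupOf, h]
    exacts [one_mem _, mem_zpowers _]
  have he9 : e ^ 3 = 1 := he3 ▸ pow_orderOf_eq_one e
  have hne : ∀ x : F.Q, x * σ e x * σ (e * e) x ∈ Zq := by
    intro x
    refine hmemZ _ ?_
    by_contra hh
    push Not at hh
    have hfix : σ e (x * σ e x * σ (e * e) x) = x * σ e x * σ (e * e) x := by
      rw [σmul e he.1, σmul e he.1, σcomp e e he.1 he.1, σcomp e (e * e) he.1 (mul_mem he.1 he.1),
        show σ (e * (e * e)) x = x from Subtype.ext (by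
          rw [σv _ (mul_mem he.1 (mul_mem he.1 he.1)), show e * (e * e) = e ^ 3 by
            simp only [pow_succ, pow_zero, one_mul, mul_assoc], he9]; group)]
      exact mul_comm _ _ |>.trans (mul_assoc _ _ _).symm
    have h1 := congrArg Subtype.val hfix
    rw [σv e he.1] at h1
    exact hcon _ (x * σ e x * σ (e * e) x).2 hh.1 hh.2 (mul_inv_eq_iff_eq_mul.1 h1).symm
  have hu7 : ∀ x : F.Q, (∏ j : Fin 7, σ (F.u ^ (j : ℕ)) x) ∈ Zq := by
    intro x
    refine hmemZ _ (F.eq_of_fixed (SetLike.coe_mem _) ?_)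
    have hfix : σ F.u (∏ j : Fin 7, σ (F.u ^ (j : ℕ)) x) = ∏ j : Fin 7, σ (F.u ^ (j : ℕ)) x := by
      let φ : F.Q →* F.Q := MonoidHom.mk' (σ F.u) (σmul _ F.u_mem_Cz)
      show φ _ = _
      rw [map_prod]
      refine Fintype.prod_equiv (Equiv.addRight (1 : Fin 7)) _ _ fun j => Subtype.ext ?_
      show (σ F.u (σ (F.u ^ (j : ℕ)) x) : G) = σ (F.u ^ ((j + 1 : Fin 7) : ℕ)) x
      have hp := pow_mod_orderOf F.u ((j : ℕ) + 1)
      rw [F.u_seven] at hp
      rw [σv _ F.u_mem_Cz, σv _ (pow_mem F.u_mem_Cz _), σv _ (pow_mem F.u_mem_Cz _), Fin.val_add,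
        show ((j : ℕ) + ((1 : Fin 7) : ℕ)) % 7 = ((j : ℕ) + 1) % 7 from rfl, hp, pow_succ']
      group
    have h1 := congrArg Subtype.val hfix
    rw [σv _ F.u_mem_Cz] at h1
    exact mul_inv_eq_iff_eq_mul.1 h1
  obtain ⟨r, hr⟩ := mem_zpowers_iff.1 ((mem_normalizer_iff.1 he.2 F.u).1 (mem_zpowers _))
  -- an element outside `<z>`
  obtain ⟨x, hxQ, hxz⟩ : ∃ x ∈ F.Q, x ∉ zpowers F.z := by
    by_contra hh
    push Not at hh
    have := card_dvd_of_le (hh : F.Q ≤ zpowers F.z)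
    rw [F.card_Q_eq, Nat.card_zpowers, F.z_two] at this
    norm_num at this
  set v : F.Q := ⟨x, hxQ⟩
  -- `u ^ j` and the conjugate of `e`
  have hej : ∀ j : Fin 7, F.u ^ (j : ℕ) * e * (F.u ^ (j : ℕ))⁻¹ = F.u ^ ((j : ℤ) * (1 - r)) * e := by
    intro j
    have h1 : e * (F.u ^ (j : ℕ))⁻¹ * e⁻¹ = F.u ^ (-((j : ℤ) * r)) := by
      rw [← zpow_natCast F.u (j : ℕ), ← zpow_neg, ← conj_zpow, ← hr, ← zpow_mul]; ring_nf
    calc F.u ^ (j : ℕ) * e * (F.u ^ (j : ℕ))⁻¹ = F.u ^ (j : ℕ) * (e * (F.u ^ (j : ℕ))⁻¹ * e⁻¹) * e := by group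
      _ = _ := by rw [h1, ← zpow_natCast, ← zpow_add]; ring_nf
  -- reindexing by a bijection of the exponents
  have reindex : ∀ (s : ℤ), ¬ (7 : ℤ) ∣ s → ∀ w : F.Q,
      (∏ j : Fin 7, σ (F.u ^ ((j : ℤ) * s)) w) = ∏ j : Fin 7, σ (F.u ^ (j : ℕ)) w := by
    intro s hs w
    refine Fintype.prod_bijective (fun j : Fin 7 => (⟨(((j : ℤ) * s) % 7).toNat, by
      have := Int.emod_lt_of_pos ((j : ℤ) * s) (show (0 : ℤ) < 7 by norm_num)
      have := Int.emod_nonneg ((j : ℤ) * s) (show (7 : ℤ) ≠ 0 by norm_num)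
      omega⟩ : Fin 7)) ?_ _ _ fun j => ?_
    · rw [Finite.injective_iff_bijective.symm]
      intro i j h
      have h' := congrArg Fin.val h
      simp only at h'
      have h1 := Int.emod_nonneg ((i : ℤ) * s) (show (7 : ℤ) ≠ 0 by norm_num)
      have h2 := Int.emod_nonneg ((j : ℤ) * s) (show (7 : ℤ) ≠ 0 by norm_num)
      have h3 : ((i : ℤ) * s) % 7 = ((j : ℤ) * s) % 7 := by omega
      have h4 : (7 : ℤ) ∣ ((i : ℤ) - j) * s := by rw [sub_mul]; exact Int.dvd_of_emod_eq_zero (Int.emod_eq_emod_iff_emod_sub_eq_zero.1 h3)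
      rcases (show Prime (7 : ℤ) by norm_num).dvd_or_dvd h4 with h5 | h5
      · exact Fin.ext (by have := i.isLt; have := j.isLt; omega)
      · exact absurd h5 hs
    · refine congrArg (fun g => σ g w) ?_
      show F.u ^ ((j : ℤ) * s) = F.u ^ (((j : ℤ) * s) % 7).toNat
      rw [← zpow_natCast, Int.toNat_of_nonneg (Int.emod_nonneg _ (by norm_num)), ← zpow_mod_orderOf, F.u_seven]
      rfl
  -- the product of the seven norms
  have key : (∏ j : Fin 7, (v * σ (F.u ^ (j : ℕ) * e * (F.u ^ (j : ℕ))⁻¹) v *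
      σ (F.u ^ (j : ℕ) * (e * e) * (F.u ^ (j : ℕ))⁻¹) v)) ∈ Zq := by
    refine Subgroup.prod_mem _ fun j _ => ?_
    have hj := pow_mem F.u_mem_Cz (j : ℕ)
    have h := hne (σ (F.u ^ (j : ℕ))⁻¹ v)
    have h' : σ (F.u ^ (j : ℕ)) (σ (F.u ^ (j : ℕ))⁻¹ v * σ e (σ (F.u ^ (j : ℕ))⁻¹ v) *
        σ (e * e) (σ (F.u ^ (j : ℕ))⁻¹ v)) ∈ Zq := by
      rw [mem_subgroupOf, σv _ hj]
      obtain ⟨k, hk⟩ := mem_subgroupOf.1 h
      refine ⟨k, ?_⟩
      show F.z ^ k = _
      rw [← show F.z ^ k = _ from hk]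
      exact (mul_inv_eq_iff_eq_mul.2 ((Commute.zpow_right (Commute.pow_left (show Commute F.u F.z from F.uz) (j : ℕ)) k).eq)).symm
    rwa [σmul _ hj, σmul _ hj, σcomp _ _ hj (inv_mem hj), σcomp _ _ hj he.1, σcomp _ _ hj (mul_mem he.1 he.1),
      σcomp _ _ (mul_mem hj he.1) (inv_mem hj), σcomp _ _ (mul_mem hj (mul_mem he.1 he.1)) (inv_mem hj),
      mul_inv_cancel, show σ (1 : G) v = v from Subtype.ext (by rw [σv _ (one_mem _)]; group)] at h'
  have hr1 : ¬ (7 : ℤ) ∣ r - 1 ∧ ¬ (7 : ℤ) ∣ r * r - 1 := by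
    have hsq : (7 : ℤ) ∣ r * r * r - 1 := by
      have h1 : ∀ g : G, e * g * e⁻¹ = MulAut.conj e g := fun g => rfl
      have h2 : F.u ^ (r * r * r) = F.u := by
        have a1 : e * F.u ^ r * e⁻¹ = F.u ^ (r * r) := by rw [← conj_zpow, ← hr, ← zpow_mul]
        have a2 : e * F.u ^ (r * r) * e⁻¹ = F.u ^ (r * r * r) := by
          rw [← conj_zpow, ← hr, ← zpow_mul, mul_assoc]
        rw [← a2, ← a1, hr]
        calc e * (e * (e * F.u * e⁻¹) * e⁻¹) * e⁻¹ = e ^ 3 * F.u * (e ^ 3)⁻¹ := by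
              simp only [pow_succ, pow_zero, one_mul]; group
          _ = F.u := by rw [he9]; group
      have h3 : F.u ^ (r * r * r - 1) = 1 := by rw [zpow_sub, h2, zpow_one, mul_inv_cancel]
      have := orderOf_dvd_iff_zpow_eq_one.2 h3
      rwa [F.u_seven] at this
    have hA : ¬ (7 : ℤ) ∣ r - 1 := by
      rintro ⟨l, hl⟩
      have hu1 : F.u ^ r = F.u := by
        rw [show r = 1 + 7 * l by linarith, zpow_add, zpow_one, zpow_mul,
          show F.u ^ (7 : ℤ) = 1 by exact_mod_cast F.u7, one_zpow, mul_one]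
      rw [hu1] at hr
      have hm : e ∈ F.Cz ⊓ centralizer ({F.u} : Set G) :=
        ⟨he.1, mem_centralizer_singleton_iff.2 (mul_inv_eq_iff_eq_mul.1 hr.symm)⟩
      have := Subgroup.orderOf_dvd_natCard _ hm
      rw [he3, F.card_Czu] at this
      norm_num at this
    refine ⟨hA, fun h => hA ?_⟩
    have e' : r - 1 = (r * r * r - 1) - r * (r * r - 1) := by ring
    rw [e']
    exact dvd_sub hsq (h.mul_left r)
  have hej2 : ∀ j : Fin 7, F.u ^ (j : ℕ) * (e * e) * (F.u ^ (j : ℕ))⁻¹ = F.u ^ ((j : ℤ) * (1 - r * r)) * (e * e) := by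
    intro j
    have a1 : ∀ m : ℤ, e * F.u ^ m * e⁻¹ = F.u ^ (r * m) := fun m => by rw [← conj_zpow, ← hr, ← zpow_mul]
    rw [show F.u ^ (j : ℕ) * (e * e) * (F.u ^ (j : ℕ))⁻¹ =
      (F.u ^ (j : ℕ) * e * (F.u ^ (j : ℕ))⁻¹) * (F.u ^ (j : ℕ) * e * (F.u ^ (j : ℕ))⁻¹) by group, hej]
    calc F.u ^ ((j : ℤ) * (1 - r)) * e * (F.u ^ ((j : ℤ) * (1 - r)) * e)
        = F.u ^ ((j : ℤ) * (1 - r)) * (e * F.u ^ ((j : ℤ) * (1 - r)) * e⁻¹) * (e * e) := by group
      _ = _ := by rw [a1, ← zpow_add]; ring_nf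
  rw [Finset.prod_mul_distrib, Finset.prod_mul_distrib, Finset.prod_const, Finset.card_univ, Fintype.card_fin] at key
  have p1 : (∏ j : Fin 7, σ (F.u ^ (j : ℕ) * e * (F.u ^ (j : ℕ))⁻¹) v) ∈ Zq := by
    simp only [hej]
    rw [Finset.prod_congr rfl fun j _ => (σcomp (F.u ^ (((j : Fin 7) : ℤ) * (1 - r))) e
      (zpow_mem F.u_mem_Cz _) he.1 v).symm, reindex _ (fun h => hr1.1 (by simpa using h.neg_right))]
    exact hu7 _
  have p2 : (∏ j : Fin 7, σ (F.u ^ (j : ℕ) * (e * e) * (F.u ^ (j : ℕ))⁻¹) v) ∈ Zq := by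
    simp only [hej2]
    rw [Finset.prod_congr rfl fun j _ => (σcomp (F.u ^ (((j : Fin 7) : ℤ) * (1 - r * r))) (e * e)
      (zpow_mem F.u_mem_Cz _) (mul_mem he.1 he.1) v).symm, reindex _ (fun h => hr1.2 (by simpa using h.neg_right))]
    exact hu7 _
  rw [Subgroup.mul_mem_cancel_right _ p2, Subgroup.mul_mem_cancel_right _ p1] at key
  obtain ⟨n, hn⟩ := F.two_pow_orderOf hxQ
  -- a power of an odd exponent recovers `v`
  obtain ⟨m, hm⟩ : ∃ m : ℕ, (v ^ 7) ^ m = v := by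
    obtain ⟨m, hm⟩ := exists_pow_eq_self_of_coprime (x := v) (n := 7)
      (by rw [← Subgroup.orderOf_coe, hn]; exact Nat.Coprime.pow_right n (by norm_num))
    exact ⟨m, hm⟩
  exact hxz (mem_subgroupOf.1 (hm ▸ pow_mem key m : v ∈ Zq))

end Cfsg.Agent.M24Order.Facts
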