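import Cfsg.Agent.Lib.M24Order.Local.Base
import Cfsg.Agent.S0199

/-!
# The quotient `C(z)/Q` has order 21 or 168

* `card_three`: `C(z)` has 896 elements of order three (from the elements of order six).
* `card_Q_cases`: `|Q|` is 128 or 1024.
-/

set_option autoImplicit false
set_option linter.style.haveILetI false

namespace Cfsg.Agent.M24Order.Facts

open Subgroup Cfsg

variable {G : Type*} [Group G] [Finite G] (F : Facts G)

/-- The elements of order three commuting with an element. -/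
abbrev Threes (i : G) : Type _ := {d : G // orderOf d = 3 ∧ d * i = i * d}

theorem card_threes_conj (g i : G) : Nat.card (Threes (g * i * g⁻¹)) = Nat.card (Threes i) := by
  refine (Nat.card_congr (Equiv.subtypeEquiv (MulAut.conj g).toEquiv fun d => ?_)).symm
  simp only [MulEquiv.toEquiv_eq_coe, EquivLike.coe_coe, ← MulAut.conj_apply, MulEquiv.orderOf_eq, ← map_mul,
    EmbeddingLike.apply_eq_iff_eq]

/-- The elements of order three in a group of order `3 * m`. -/
theorem card_threes_sylow {i : G} {m : ℕ} (hc : Nat.card (centralizer ({i} : Set G)) = 3 * m) (hm : ¬ 3 ∣ m) :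
    ∃ n, n ∣ m ∧ n % 3 = 1 ∧ Nat.card (Threes i) = 2 * n := by
  haveI : Fact (Nat.Prime 3) := ⟨Nat.prime_three⟩
  set C := centralizer ({i} : Set G)
  have hS : ∀ S : Sylow 3 C, Nat.card (S : Subgroup C) = 3 := fun S =>
    (SmallSimple.Basic.card_sylow_eq_pow (a := 1) (m := m) (by rw [hc]; norm_num) hm S).trans (by norm_num)
  obtain S : Sylow 3 C := default
  refine ⟨Nat.card (Sylow 3 C), ?_, ?_, ?_⟩
  · have h1 := S.card_dvd_index
    have h2 := card_mul_index (S : Subgroup C)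
    rw [hS, hc] at h2
    rwa [show (S : Subgroup C).index = m by omega] at h1
  · exact card_sylow_modEq_one 3 C
  · rw [mul_comm, ← SmallSimple.Order168.card_orderOf_eq hS]
    exact Nat.card_congr
      { toFun := fun d => ⟨⟨d.1, mem_centralizer_singleton_iff.2 d.2.2⟩, by rw [Subgroup.orderOf_mk]; exact d.2.1⟩
        invFun := fun d => ⟨d.1.1, by rw [Subgroup.orderOf_coe]; exact d.2, mem_centralizer_singleton_iff.1 d.1.2⟩
        left_inv := fun d => rfl
        right_inv := fun d => rfl }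

/-- An element of order six is an involution times a commuting element of order three. -/
def sixEquiv : {g : G // orderOf g = 6} ≃ Σ i : {i : G // orderOf i = 2}, Threes i.1 where
  toFun g := ⟨⟨g.1 ^ 3, by rw [orderOf_pow' g.1 (by norm_num), g.2]; decide⟩,
    ⟨g.1 ^ 4, by rw [orderOf_pow' g.1 (by norm_num), g.2]; decide, by rw [← pow_add, ← pow_add]⟩⟩
  invFun p := ⟨p.1.1 * p.2.1, by
    rw [Commute.orderOf_mul_eq_mul_orderOf_of_coprime (show Commute p.1.1 p.2.1 from p.2.2.2.symm)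
        (by rw [p.1.2, p.2.2.1]; norm_num),
      p.1.2, p.2.2.1]⟩
  left_inv g := Subtype.ext (by
    show g.1 ^ 3 * g.1 ^ 4 = g.1
    rw [← pow_add, ← pow_mod_orderOf, g.2]
    simp)
  right_inv := by
    rintro ⟨⟨i, hi⟩, ⟨d, hd, hc⟩⟩
    have hi2 : i ^ 2 = 1 := hi ▸ pow_orderOf_eq_one i
    have hd3 : d ^ 3 = 1 := hd ▸ pow_orderOf_eq_one d
    have e3 : (i * d) ^ 3 = i := by
      rw [Commute.mul_pow (show Commute i d from hc.symm), hd3, pow_succ, hi2, one_mul, mul_one]
    have e4 : (i * d) ^ 4 = d := by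
      rw [Commute.mul_pow (show Commute i d from hc.symm), show i ^ 4 = (i ^ 2) ^ 2 from (pow_mul i 2 2), hi2, one_pow, one_mul, pow_succ,
        hd3, one_mul]
    refine Sigma.ext (Subtype.ext e3) ?_
    refine (Subtype.heq_iff_coe_eq fun x => ?_).2 e4
    show orderOf x = 3 ∧ x * (i * d) ^ 3 = (i * d) ^ 3 * x ↔ orderOf x = 3 ∧ x * i = i * x
    rw [e3]

include F in
/-- The number of conjugates. -/
theorem card_class {i : G} {m n : ℕ} (hc : Nat.card (centralizer ({i} : Set G)) = m) (hn : m * n = 244823040)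
    (hm : 0 < m) : Nat.card {y : G // IsConj i y} = n := by
  have h := SmallSimple.Basic.card_centralizer_mul_card_class i
  rw [hc, F.card, ← hn] at h
  exact Nat.eq_of_mul_eq_mul_left hm h

include F in
theorem six_eq : 11385 * Nat.card (Threes F.z) + 31878 * Nat.card (Threes F.t) = 20401920 := by
  classical
  haveI := Fintype.ofFinite G
  rw [← F.six, Nat.card_congr sixEquiv, Nat.card_sigma]
  have hdisj : ∀ i, IsConj F.z i → ¬ IsConj F.t i := by
    intro i h1 h2
    obtain ⟨g, hg⟩ := isConj_iff.1 (h1.trans h2.symm)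
    have : Nat.card (centralizer ({F.z} : Set G)) = Nat.card (centralizer ({F.t} : Set G)) := by
      refine Nat.card_congr (Equiv.subtypeEquiv (MulAut.conj g).toEquiv fun x => ?_)
      simp only [mem_centralizer_singleton_iff, MulEquiv.toEquiv_eq_coe, EquivLike.coe_coe, ← hg,
        ← MulAut.conj_apply, ← map_mul, EmbeddingLike.apply_eq_iff_eq]
    rw [F.card_Cz, F.card_Ct] at this
    norm_num at this
  have hval : ∀ i : {i : G // orderOf i = 2}, Nat.card (Threes i.1) =
      (if IsConj F.z i.1 then Nat.card (Threes F.z) else 0) + (if IsConj F.t i.1 then Nat.card (Threes F.t) else 0) := by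
    intro i
    rcases F.involution i.1 i.2 with ⟨g, hg⟩ | ⟨g, hg⟩
    · have h : IsConj F.z i.1 := isConj_iff.2 ⟨g, hg⟩
      rw [if_pos h, if_neg (hdisj _ h), add_zero, ← hg, card_threes_conj]
    · have h : IsConj F.t i.1 := isConj_iff.2 ⟨g, hg⟩
      rw [if_neg fun h' => hdisj _ h' h, if_pos h, zero_add, ← hg, card_threes_conj]
  have hcount : ∀ (j : G) (k : ℕ), orderOf j = 2 →
      (∑ i : {i : G // orderOf i = 2}, if IsConj j i.1 then k else 0) = Nat.card {y : G // IsConj j y} * k := by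
    intro j k hj
    rw [← Finset.sum_filter, Finset.sum_const, smul_eq_mul]
    congr 1
    rw [← Fintype.card_subtype, ← Nat.card_eq_fintype_card]
    exact Nat.card_congr
      { toFun := fun x => ⟨x.1.1, x.2⟩
        invFun := fun y => ⟨⟨y.1, by
          obtain ⟨g, hg⟩ := isConj_iff.1 y.2
          rw [← hg, show g * j * g⁻¹ = MulAut.conj g j from rfl, MulEquiv.orderOf_eq, hj]⟩, y.2⟩
        left_inv := fun x => rfl
        right_inv := fun y => rfl }
  rw [Finset.sum_congr rfl fun i _ => hval i, Finset.sum_add_distrib]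
  erw [hcount _ _ F.z_two, hcount _ _ F.t_two]
  rw [
    F.card_class F.card_Cz (n := 11385) (by norm_num) (by norm_num),
    F.card_class F.card_Ct (n := 31878) (by norm_num) (by norm_num)]

theorem card_three : Nat.card (Threes F.z) = 896 := by
  obtain ⟨n, hn, hn3, e1⟩ := card_threes_sylow (i := F.z) (m := 7168) (by rw [F.card_Cz]) (by norm_num)
  obtain ⟨m, hm, hm3, e2⟩ := card_threes_sylow (i := F.t) (m := 2560) (by rw [F.card_Ct]) (by norm_num)
  have h := F.six_eq
  rw [e1, e2] at h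
  rw [e1]
  have hn' : ∃ i ≤ 10, n = 2 ^ i ∨ n = 7 * 2 ^ i := by
    have h' : n ∣ 2 ^ 10 * 7 := by simpa using hn
    obtain ⟨a, b, ha, hb, rfl⟩ := Nat.dvd_mul.1 h'
    obtain ⟨i, hi, rfl⟩ := (Nat.dvd_prime_pow Nat.prime_two).1 ha
    rcases (Nat.dvd_prime (by norm_num : Nat.Prime 7)).1 hb with rfl | rfl
    exacts [⟨i, hi, Or.inl (mul_one _)⟩, ⟨i, hi, Or.inr (mul_comm _ _)⟩]
  have hm' : ∃ i ≤ 9, m = 2 ^ i ∨ m = 5 * 2 ^ i := by
    have h' : m ∣ 2 ^ 9 * 5 := by simpa using hm
    obtain ⟨a, b, ha, hb, rfl⟩ := Nat.dvd_mul.1 h'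
    obtain ⟨i, hi, rfl⟩ := (Nat.dvd_prime_pow Nat.prime_two).1 ha
    rcases (Nat.dvd_prime (by norm_num : Nat.Prime 5)).1 hb with rfl | rfl
    exacts [⟨i, hi, Or.inl (mul_one _)⟩, ⟨i, hi, Or.inr (mul_comm _ _)⟩]
  obtain ⟨i, hi, rfl | rfl⟩ := hn' <;> obtain ⟨j, hj, rfl | rfl⟩ := hm' <;>
    interval_cases i <;> interval_cases j <;> omega

/-- The quotient `Q / <z>` has order other than eight. -/
theorem card_Q_ne_sixteen : Nat.card F.Q ≠ 16 := by
  intro hQ
  have hC : Nat.card F.Cbar = 2 ^ 6 * 21 := by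
    have := F.card_Cbar
    rw [hQ] at this
    omega
  haveI := F.Cbar_simple (by norm_num) hC
  set zc : F.Cz := ⟨F.z, F.z_mem_Cz⟩
  set ZC : Subgroup F.Cz := zpowers zc
  haveI hZn : ZC.Normal := ⟨fun x hx c => by
    obtain ⟨k, rfl⟩ := hx
    have hc : Commute c zc := Subtype.ext (F.mem_Cz.1 c.2)
    show c * zc ^ k * c⁻¹ ∈ ZC
    rw [(hc.zpow_right k).eq, mul_inv_cancel_right]
    exact zpow_mem (mem_zpowers _) k⟩
  set N : Subgroup (F.Cz ⧸ ZC) := (pCore 2 ↥F.Cz).map (QuotientGroup.mk' ZC) with hN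
  haveI : N.Normal := Subgroup.Normal.map inferInstance _ (QuotientGroup.mk'_surjective _)
  have hspec := F.section_spec (Z := zpowers F.z) le_rfl (zpowers_le.2 F.z_mem_Q) (mem_zpowers _)
    (fun c hc x hx => by
      obtain ⟨k, rfl⟩ := hx
      show c * F.z ^ k * c⁻¹ ∈ zpowers F.z
      rw [← conj_zpow, F.mem_Cz.1 (F.Q_le hc), mul_inv_cancel_right]
      exact zpow_mem (mem_zpowers _) k)
    (fun x hx => by
      obtain ⟨k, rfl⟩ := hx
      show F.u * F.z ^ k * F.u⁻¹ ∈ zpowers F.z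
      rw [← conj_zpow, F.uz, mul_inv_cancel_right]
      exact zpow_mem (mem_zpowers _) k)
    (fun x hx => F.conj_mem_Q F.u_mem_Cz hx) (by rw [Nat.card_zpowers, F.z_two, hQ])
  have mk_eq : ∀ a b : F.Cz, (a : F.Cz ⧸ ZC) = b ↔ (a : G)⁻¹ * b ∈ zpowers F.z := fun a b => by
    rw [QuotientGroup.eq]
    constructor
    · rintro ⟨k, hk⟩
      exact ⟨k, by simpa [zc] using congrArg Subtype.val hk⟩
    · rintro ⟨k, hk⟩
      exact ⟨k, Subtype.ext (by simpa [zc] using hk)⟩
  have hNc : Nat.card N = 8 := by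
    have h1 : ZC ≤ pCore 2 ↥F.Cz := zpowers_le.2 ((F.mem_Q F.z_mem_Cz).1 F.z_mem_Q)
    let f := (QuotientGroup.mk' ZC).comp (pCore 2 ↥F.Cz).subtype
    have hr : f.range = N := by rw [hN, MonoidHom.range_comp, range_subtype]
    have hk : f.ker = ZC.subgroupOf (pCore 2 ↥F.Cz) := by
      ext x
      rw [MonoidHom.mem_ker, mem_subgroupOf]
      exact QuotientGroup.eq_one_iff _
    have h2 := card_mul_index f.ker
    rw [index_ker, hr, hk, Nat.card_congr (subgroupOfEquivOfLe h1).toEquiv, Nat.card_zpowers, ← Subgroup.orderOf_coe,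
      F.z_two, ← F.card_Q, hQ] at h2
    omega
  let X := {x : N // x ≠ 1}
  let χ : MulAut N →* Equiv.Perm X :=
    { toFun := fun f => f.toEquiv.subtypeEquiv fun x =>
        (not_congr ⟨fun e => e ▸ map_one f, fun e => f.injective (e.trans (map_one f).symm)⟩)
      map_one' := rfl
      map_mul' := fun f g => rfl }
  let ψ : F.Cz →* Equiv.Perm X :=
    χ.comp ((MulAut.conjNormal (H := N)).comp (QuotientGroup.mk' ZC))
  have hψ : pCore 2 ↥F.Cz ≤ ψ.ker := by
    intro c hc
    rw [MonoidHom.mem_ker]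
    refine Equiv.ext fun x => Subtype.ext (Subtype.ext ?_)
    obtain ⟨⟨y, hy⟩, hy1⟩ := x
    obtain ⟨d, hd, rfl⟩ := hy
    show (MulAut.conjNormal ((c : F.Cz ⧸ ZC)) ⟨_, _⟩ : N).1 = (d : F.Cz ⧸ ZC)
    rw [MulAut.conjNormal_apply]
    show ((c * d * c⁻¹ : F.Cz) : F.Cz ⧸ ZC) = d
    rw [mk_eq]
    have := hspec.2.2 (c : G)⁻¹ (inv_mem (⟨c, hc, rfl⟩ : (c : G) ∈ F.Q)) (d : G) ⟨d, hd, rfl⟩
    have e : ((c * d * c⁻¹ : F.Cz) : G)⁻¹ * d = ((c : G)⁻¹)⁻¹ * (d : G)⁻¹ * (c : G)⁻¹ * d := by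
      simp only [Subgroup.coe_mul, Subgroup.coe_inv]; group
    rwa [e]
  let ψ' : F.Cbar →* Equiv.Perm X := QuotientGroup.lift _ ψ hψ
  have hX : Nat.card X = 7 := by
    haveI := Fintype.ofFinite N
    rw [Nat.card_eq_fintype_card, Fintype.card_subtype_compl, Fintype.card_subtype_eq, ← Nat.card_eq_fintype_card, hNc]
  rcases (MonoidHom.normal_ker ψ').eq_bot_or_eq_top with h | h
  · have h1 := Subgroup.card_dvd_of_injective ψ' ((MonoidHom.ker_eq_bot_iff ψ').1 h)
    rw [hC, Nat.card_perm, hX] at h1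
    norm_num [Nat.factorial] at h1
  · have hu : F.ubar ∈ ψ'.ker := h ▸ mem_top _
    have hu' : ψ ⟨F.u, F.u_mem_Cz⟩ = 1 := hu
    -- `u` fixes every coset of `<z>` in `Q`
    have hle : F.Q ≤ zpowers F.z := by
      intro a ha
      by_contra haz
      obtain ⟨d, hd, rfl⟩ := ha
      have hm : (d : F.Cz ⧸ ZC) ∈ N := ⟨d, hd, rfl⟩
      have hne : (⟨_, hm⟩ : N) ≠ 1 := fun e => haz (by
        have h1 := congrArg Subtype.val e
        change (d : F.Cz ⧸ ZC) = ((1 : F.Cz) : F.Cz ⧸ ZC) at h1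
        rw [mk_eq, Subgroup.coe_one, mul_one] at h1
        exact inv_mem_iff.1 h1)
      have h1 := congrArg (fun f : Equiv.Perm X => ((f ⟨⟨_, hm⟩, hne⟩).1 : F.Cz ⧸ ZC)) hu'
      change ((MulAut.conjNormal ((⟨F.u, F.u_mem_Cz⟩ : F.Cz) : F.Cz ⧸ ZC) ⟨_, hm⟩ : N).1 = (d : F.Cz ⧸ ZC)) at h1
      rw [MulAut.conjNormal_apply] at h1
      have h1' : ((⟨F.u, F.u_mem_Cz⟩ * d * ⟨F.u, F.u_mem_Cz⟩⁻¹ : F.Cz) : F.Cz ⧸ ZC) = (d : F.Cz ⧸ ZC) := h1
      have h2 := inv_mem ((mk_eq _ _).1 h1')
      refine haz (F.section_fixed (zpowers_le.2 F.z_mem_Q) (mem_zpowers _) (fun x hx => by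
        obtain ⟨k, rfl⟩ := hx
        show F.u * F.z ^ k * F.u⁻¹ ∈ zpowers F.z
        rw [← conj_zpow, F.uz, mul_inv_cancel_right]
        exact zpow_mem (mem_zpowers _) k) ⟨d, hd, rfl⟩ ?_)
      simpa [mul_inv_rev, mul_assoc] using h2
    have := card_dvd_of_le hle
    rw [hQ, Nat.card_zpowers, F.z_two] at this
    norm_num at this

theorem card_Q_ne_two : Nat.card F.Q ≠ 2 := by
  classical
  intro hQ
  haveI : Fact (Nat.Prime 2) := ⟨Nat.prime_two⟩
  haveI : Fact (Nat.Prime 3) := ⟨Nat.prime_three⟩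
  haveI : Fact (Nat.Prime 7) := ⟨by norm_num⟩
  have hC : Nat.card F.Cbar = 2 ^ 9 * 21 := by
    have := F.card_Cbar
    rw [hQ] at this
    omega
  haveI := F.Cbar_simple (by norm_num) hC
  have hna : ¬ IsMulCommutative F.Cbar :=
    SmallSimple.Basic.not_comm_of_not_prime (by rw [hC]; norm_num)
  -- at least 896 elements of order three
  have h896 : 896 ≤ Nat.card {x : F.Cbar // orderOf x = 3} := by
    rw [← F.card_three]
    let f : Threes F.z → {x : F.Cbar // orderOf x = 3} := fun d =>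
      ⟨QuotientGroup.mk ⟨d.1, F.mem_Cz.2 d.2.2⟩, by
        have h3 : (⟨d.1, F.mem_Cz.2 d.2.2⟩ : F.Cz) ^ 3 = 1 := Subtype.ext (by
          exact orderOf_dvd_iff_pow_eq_one.1 (dvd_of_eq d.2.1))
        refine orderOf_eq_prime (by rw [← QuotientGroup.mk_pow, h3]; rfl) fun e => ?_
        have := Subgroup.orderOf_dvd_natCard _ ((F.mem_Q (F.mem_Cz.2 d.2.2)).2 ((QuotientGroup.eq_one_iff _).1 e))
        rw [d.2.1, hQ] at this
        norm_num at this⟩
    refine Nat.card_le_card_of_injective f fun a b e => Subtype.ext ?_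
    have e' := QuotientGroup.eq.1 (congrArg Subtype.val e)
    have hab : a.1⁻¹ * b.1 ∈ F.Q := ⟨_, e', rfl⟩
    have h2 : (a.1⁻¹ * b.1) ^ 2 = 1 :=
      orderOf_dvd_iff_pow_eq_one.1 (hQ ▸ Subgroup.orderOf_dvd_natCard _ hab)
    rcases (Nat.dvd_prime Nat.prime_two).1 (orderOf_dvd_of_pow_eq_one h2) with h1 | h1
    · exact (mul_eq_one_iff_inv_eq.1 (orderOf_eq_one_iff.1 h1)).symm ▸ (inv_inv a.1).symm
    · -- the only involution of `Q` is `z`
      exfalso
      have hz : a.1⁻¹ * b.1 = F.z := by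
        obtain ⟨y, -, huniq⟩ := (Nat.card_eq_two_iff' (1 : F.Q)).1 hQ
        have e1 := huniq ⟨_, hab⟩ fun e => by
          have e0 : a.1⁻¹ * b.1 = 1 := congrArg Subtype.val e
          rw [e0, orderOf_one] at h1
          norm_num at h1
        have e2 := huniq ⟨F.z, F.z_mem_Q⟩ fun e => F.z_ne_one (congrArg Subtype.val e)
        exact congrArg Subtype.val (e1.trans e2.symm)
      have hb : b.1 = a.1 * F.z := (mul_inv_cancel_left a.1 b.1).symm.trans (congrArg (a.1 * ·) hz)
      have h6 : orderOf b.1 = 6 := by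
        refine (congrArg orderOf hb).trans ?_
        rw [Commute.orderOf_mul_eq_mul_orderOf_of_coprime a.2.2 (by rw [a.2.1, F.z_two]; norm_num), a.2.1,
          F.z_two]
      rw [b.2.1] at h6
      norm_num at h6
  -- a central involution of a Sylow 2-subgroup
  obtain S : Sylow 2 F.Cbar := default
  have hS : Nat.card (S : Subgroup F.Cbar) = 2 ^ 9 := SmallSimple.Basic.card_sylow_eq_pow hC (by norm_num) S
  haveI : Nontrivial (S : Subgroup F.Cbar) := Finite.one_lt_card_iff_nontrivial.1 (by rw [hS]; norm_num)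
  haveI : Nontrivial (center (S : Subgroup F.Cbar)) := S.isPGroup'.center_nontrivial
  obtain ⟨k, hk⟩ := IsPGroup.iff_card.1 (S.isPGroup'.to_subgroup (center (S : Subgroup F.Cbar)))
  obtain ⟨⟨⟨i, hiS⟩, hiZ⟩, hi2⟩ := exists_prime_orderOf_dvd_card' (G := center (S : Subgroup F.Cbar)) 2 (by
    rw [hk]
    refine dvd_pow_self 2 fun e => ?_
    have h1 : 1 < Nat.card (center (S : Subgroup F.Cbar)) := Finite.one_lt_card
    rw [hk, e] at h1
    norm_num at h1)
  rw [Subgroup.orderOf_mk, Subgroup.orderOf_mk] at hi2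
  have hSC : (S : Subgroup F.Cbar) ≤ centralizer ({i} : Set F.Cbar) := fun s hs =>
    mem_centralizer_singleton_iff.2 (congrArg Subtype.val (mem_center_iff.1 hiZ ⟨s, hs⟩))
  have hseven : ∀ v : F.Cbar, orderOf v = 7 → ∃ g, g * F.ubar * g⁻¹ ∈ zpowers v := by
    intro v hv
    obtain ⟨A, hA⟩ := (IsPGroup.of_card (n := 1) (G := zpowers v) (p := 7) (by rw [Nat.card_zpowers, hv, pow_one])).exists_le_sylow
    obtain ⟨B, hB⟩ := (IsPGroup.of_card (n := 1) (G := zpowers F.ubar) (p := 7)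
      (by rw [Nat.card_zpowers, F.orderOf_ubar, pow_one])).exists_le_sylow
    have hc : Nat.card (A : Subgroup F.Cbar) = 7 :=
      (SmallSimple.Basic.card_sylow_eq_pow (a := 1) (m := 2 ^ 9 * 3) (by rw [hC]; norm_num) (by norm_num) A).trans (by norm_num)
    have eA : zpowers v = (A : Subgroup F.Cbar) := eq_of_le_of_card_ge hA (by rw [hc, Nat.card_zpowers, hv])
    obtain ⟨g, hg⟩ := MulAction.exists_smul_eq F.Cbar B A
    refine ⟨g, ?_⟩
    rw [eA, ← hg, Sylow.coe_subgroup_smul]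
    exact ⟨F.ubar, hB (mem_zpowers _), rfl⟩
  have h7 : ¬ 7 ∣ Nat.card (centralizer ({i} : Set F.Cbar)) := by
    intro h
    obtain ⟨⟨v, hv⟩, hv7⟩ := exists_prime_orderOf_dvd_card' 7 h
    rw [Subgroup.orderOf_mk] at hv7
    obtain ⟨g, hg⟩ := hseven v hv7
    have hcg : g⁻¹ * i * g ∈ centralizer ({F.ubar} : Set F.Cbar) := by
      obtain ⟨l, hl⟩ := mem_zpowers_iff.1 hg
      have hcom : Commute (v ^ l) i := Commute.zpow_left (mem_centralizer_singleton_iff.1 hv) l
      rw [hl] at hcom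
      refine mem_centralizer_singleton_iff.2 ?_
      calc g⁻¹ * i * g * F.ubar = g⁻¹ * (i * (g * F.ubar * g⁻¹)) * g := by group
        _ = g⁻¹ * ((g * F.ubar * g⁻¹) * i) * g := by rw [hcom.eq]
        _ = F.ubar * (g⁻¹ * i * g) := by group
    rw [F.cent_ubar] at hcg
    have := orderOf_dvd_of_mem_zpowers hcg
    rw [show g⁻¹ * i * g = MulAut.conj g⁻¹ i by simp, MulEquiv.orderOf_eq, hi2, F.orderOf_ubar] at this
    norm_num at this
  set c := Nat.card {y : F.Cbar // IsConj i y} with hcdef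
  have hcc := SmallSimple.Basic.card_centralizer_mul_card_class i
  rw [hC, ← hcdef] at hcc
  have hc : c = 7 ∨ c = 21 := by
    obtain ⟨m, hm⟩ := hS ▸ card_dvd_of_le hSC
    rw [hm] at hcc h7
    have hmc : m * c = 21 := by rw [mul_assoc] at hcc; exact Nat.eq_of_mul_eq_mul_left (by norm_num) hcc
    have : m ≤ 21 := Nat.le_of_dvd (by norm_num) ⟨c, hmc.symm⟩
    have : m ≠ 7 ∧ m ≠ 21 := ⟨fun e => h7 (by rw [e]; exact dvd_mul_left 7 _), fun e => h7 (by rw [e]; exact ⟨3 * 2 ^ 9, by ring⟩)⟩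
    interval_cases m <;> omega
  rcases hc with hc | hc
  · -- a class of seven elements
    have hne : centralizer ({i} : Set F.Cbar) ≠ ⊤ := fun e => by
      rw [e, card_top, hC] at h7
      exact h7 (by norm_num)
    have := SmallSimple.Basic.two_mul_card_dvd_factorial hna _ hne
    have hi : (centralizer ({i} : Set F.Cbar)).index = 7 := by
      have h := card_mul_index (centralizer ({i} : Set F.Cbar))
      rw [hC, ← hcc, hc] at h
      exact Nat.eq_of_mul_eq_mul_left Nat.card_pos h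
    rw [hi, hC] at this
    norm_num [Nat.factorial] at this
  -- two conjugates generating no 2-group
  have hii : i * i = 1 := by
    have := pow_orderOf_eq_one i
    rwa [hi2, pow_two] at this
  have hiinv : i⁻¹ = i := inv_eq_of_mul_eq_one_right hii
  obtain ⟨g, hg⟩ : ∃ g : F.Cbar, ¬ IsPGroup 2 ↥(zpowers i ⊔ (zpowers i).map (MulAut.conj g).toMonoidHom) := by
    by_contra hcon
    push Not at hcon
    obtain ⟨N, hN, hNp, hle⟩ := Cfsg.Agent.S0199.result (zpowers i)
      (IsPGroup.of_card (n := 1) (by rw [Nat.card_zpowers, hi2, pow_one])) hcon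
    haveI := hN
    rcases hN.eq_bot_or_eq_top with e | e
    · have := hle (mem_zpowers i)
      rw [e, mem_bot] at this
      rw [this, orderOf_one] at hi2
      norm_num at hi2
    · obtain ⟨n, hn⟩ := IsPGroup.iff_card.1 hNp
      rw [e, card_top, hC] at hn
      have : 3 ∣ 2 ^ n := hn ▸ (by norm_num)
      exact absurd (Nat.prime_three.dvd_of_dvd_pow this) (by norm_num)
  set j := g * i * g⁻¹ with hj
  have hjj : j * j = 1 := by
    rw [hj, show g * i * g⁻¹ * (g * i * g⁻¹) = g * (i * i) * g⁻¹ by group, hii]; group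
  have hjinv : j⁻¹ = j := inv_eq_of_mul_eq_one_right hjj
  set w := i * j with hw
  have hiw : i * w * i⁻¹ = w⁻¹ := by
    rw [hw, mul_inv_rev, hiinv, hjinv, ← mul_assoc i i j, hii, one_mul]
  have hodd : ∃ p : ℕ, p.Prime ∧ p ≠ 2 ∧ p ∣ orderOf w := by
    by_contra hcon
    push Not at hcon
    apply hg
    have hwp : IsPGroup 2 (zpowers w) := by
      refine IsPGroup.of_card (n := (orderOf w).primeFactorsList.length) ?_
      rw [Nat.card_zpowers]
      exact Nat.eq_prime_pow_of_unique_prime_dvd (orderOf_pos w).ne' fun {d} hd hdd => by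
        by_contra hne; exact hcon d hd hne hdd
    have hin : zpowers i ≤ normalizer (zpowers w : Set F.Cbar) := by
      rw [zpowers_le, mem_normalizer_iff]
      intro x
      have key : ∀ y ∈ zpowers w, i * y * i⁻¹ ∈ zpowers w := by
        rintro y ⟨k, rfl⟩
        show i * w ^ k * i⁻¹ ∈ zpowers w
        rw [← conj_zpow, hiw, inv_zpow]
        exact inv_mem (zpow_mem (mem_zpowers _) k)
      refine ⟨fun h => key x h, fun h => ?_⟩
      have := key _ h
      rwa [hiinv, show i * (i * x * i) * i = i * i * x * (i * i) by group, hii, one_mul, mul_one] at this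
    have hp := (IsPGroup.of_card (n := 1) (G := zpowers i) (p := 2)
      (by rw [Nat.card_zpowers, hi2, pow_one])).to_sup_of_normal_right' hwp hin
    refine hp.to_le (sup_le le_sup_left ?_)
    rw [MonoidHom.map_zpowers, zpowers_le]
    show j ∈ _
    rw [show j = i * w by rw [hw, ← mul_assoc, hii, one_mul]]
    exact mul_mem (mem_sup_left (mem_zpowers i)) (mem_sup_right (mem_zpowers w))
  obtain ⟨p, hp, hp2, hpw⟩ := hodd
  set v := w ^ (orderOf w / p) with hv
  have hvo : orderOf v = p := orderOf_pow_orderOf_div (orderOf_pos w).ne' hpw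
  have hiv : i * v * i⁻¹ = v⁻¹ := by rw [hv, ← conj_pow, hiw, inv_pow]
  have hpd : p ∣ 2 ^ 9 * 21 := hC ▸ hvo ▸ orderOf_dvd_natCard v
  have hp37 : p = 3 ∨ p = 7 := by
    rcases hp.dvd_mul.1 hpd with h | h
    · exact absurd ((Nat.prime_dvd_prime_iff_eq hp Nat.prime_two).1 (hp.dvd_of_dvd_pow h)) hp2
    · rcases hp.dvd_mul.1 (show p ∣ 3 * 7 from h) with h' | h'
      exacts [Or.inl ((Nat.prime_dvd_prime_iff_eq hp Nat.prime_three).1 h'),
        Or.inr ((Nat.prime_dvd_prime_iff_eq hp (by norm_num)).1 h')]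
  rcases hp37 with rfl | rfl
  · -- every element of order three is a product of two conjugates of `i`
    have hall : ∀ e : F.Cbar, orderOf e = 3 → ∃ a b : {y : F.Cbar // IsConj i y}, a.1 * b.1 = e := by
      intro e he
      obtain ⟨A, hA⟩ := (IsPGroup.of_card (n := 1) (G := zpowers (e ^ 2)) (p := 3) (by
        rw [Nat.card_zpowers, orderOf_pow' e (by norm_num), he]; norm_num)).exists_le_sylow
      obtain ⟨B, hB⟩ := (IsPGroup.of_card (n := 1) (G := zpowers v) (p := 3) (by
        rw [Nat.card_zpowers, hvo, pow_one])).exists_le_sylow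
      have hBc : Nat.card (B : Subgroup F.Cbar) = 3 :=
        (SmallSimple.Basic.card_sylow_eq_pow (a := 1) (m := 2 ^ 9 * 7) (by rw [hC]; norm_num) (by norm_num) B).trans (by norm_num)
      have eB : zpowers v = (B : Subgroup F.Cbar) := eq_of_le_of_card_ge hB (by rw [hBc, Nat.card_zpowers, hvo])
      obtain ⟨h, hh⟩ := MulAction.exists_smul_eq F.Cbar B A
      have hm : e ^ 2 ∈ (A : Subgroup F.Cbar) := hA (mem_zpowers _)
      rw [← hh, Sylow.coe_subgroup_smul, ← eB] at hm
      obtain ⟨y, ⟨l, rfl⟩, hy⟩ := hm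
      have hy' : h * v ^ l * h⁻¹ = e ^ 2 := hy
      set d := e ^ 2 with hd
      set a := h * i * h⁻¹ with ha
      have hainv : a * d * a⁻¹ = d⁻¹ := by
        rw [ha, ← hy', show h * i * h⁻¹ * (h * v ^ l * h⁻¹) * (h * i * h⁻¹)⁻¹ = h * (i * v ^ l * i⁻¹) * h⁻¹ by group,
          ← conj_zpow, hiv, inv_zpow]
        group
      have haconj : IsConj i a := isConj_iff.2 ⟨h, rfl⟩
      have hb : IsConj i (d * a * d⁻¹) := haconj.trans (isConj_iff.2 ⟨d, rfl⟩)
      refine ⟨⟨_, hb⟩, ⟨a, haconj⟩, ?_⟩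
      have haa : a * a = 1 := by
        rw [ha, show h * i * h⁻¹ * (h * i * h⁻¹) = h * (i * i) * h⁻¹ by group, hii]; group
      show d * a * d⁻¹ * a = e
      rw [show d * a * d⁻¹ * a = d * (a * d * a⁻¹)⁻¹ * (a * a) by group, hainv, inv_inv, haa, mul_one, hd,
        ← pow_add, ← pow_mod_orderOf, he]
      simp
    let f : {x : F.Cbar // orderOf x = 3} → {y : F.Cbar // IsConj i y} × {y : F.Cbar // IsConj i y} :=
      fun e => ((hall e.1 e.2).choose, (hall e.1 e.2).choose_spec.choose)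
    have hspec : ∀ e, (f e).1.1 * (f e).2.1 = e.1 := fun e => (hall e.1 e.2).choose_spec.choose_spec
    have hf : Function.Injective f := fun e e' h => Subtype.ext
      ((hspec e).symm.trans ((congrArg (fun p => p.1.1 * p.2.1) h).trans (hspec e')))
    have := Nat.card_le_card_of_injective f hf
    rw [Nat.card_prod, ← hcdef, hc] at this
    omega
  · obtain ⟨h, hh⟩ := hseven v hvo
    have hm : h⁻¹ * i * h ∈ normalizer (zpowers F.ubar : Set F.Cbar) := by
      obtain ⟨l, hl⟩ := mem_zpowers_iff.1 hh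
      have key : (h⁻¹ * i * h) * F.ubar * (h⁻¹ * i * h)⁻¹ = F.ubar⁻¹ := by
        calc (h⁻¹ * i * h) * F.ubar * (h⁻¹ * i * h)⁻¹ = h⁻¹ * (i * (h * F.ubar * h⁻¹) * i⁻¹) * h := by group
          _ = h⁻¹ * (v ^ l)⁻¹ * h := by rw [← hl, ← conj_zpow, hiv, inv_zpow]
          _ = F.ubar⁻¹ := by rw [hl]; group
      have hmap : (zpowers F.ubar).map (MulAut.conj (h⁻¹ * i * h)).toMonoidHom = zpowers F.ubar := by
        rw [MonoidHom.map_zpowers]
        show zpowers ((h⁻¹ * i * h) * F.ubar * (h⁻¹ * i * h)⁻¹) = _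
        rw [key, zpowers_inv]
      rw [mem_normalizer_iff]
      intro y
      conv_rhs => rw [← hmap, mem_map_equiv, MulAut.conj_symm_apply]
      simp [mul_assoc]
    have := (Subgroup.orderOf_dvd_natCard _ hm).trans F.card_normalizer_ubar
    rw [show h⁻¹ * i * h = MulAut.conj h⁻¹ i by simp, MulEquiv.orderOf_eq, hi2] at this
    norm_num at this

theorem card_Q_cases : Nat.card F.Q = 128 ∨ Nat.card F.Q = 1024 := by
  rcases F.Q_cases with h | h | h | h
  exacts [absurd h F.card_Q_ne_two, absurd h F.card_Q_ne_sixteen, Or.inl h, Or.inr h]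

end Cfsg.Agent.M24Order.Facts
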