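import Cfsg.Agent.Lib.M24Order.Local.Abelian
import Cfsg.Agent.Lib.M24Order.Local.Commutator
import Cfsg.Agent.Lib.HeLocal.Cz.Coord

/-!
# `C(z)` has the shape `2^(1+6) . L3(2)`

* `center_cases`: the centre of `Q` is `<z>`; so `Q` is extraspecial (`ctr_Q`).
* `not_rank_three`: a `u`-invariant subgroup of order sixteen is elementary abelian.
* `nonempty_shape`: the shape.
-/

set_option autoImplicit false
set_option linter.style.haveILetI false

namespace Cfsg.Agent.M24Order.Facts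

open Subgroup Cfsg
open scoped commutatorElement

variable {G : Type*} [Group G] [Finite G] (F : Facts G)

theorem Q_comm_z {q : G} (hq : q ∈ F.Q) : q * F.z = F.z * q := F.mem_Cz.1 (F.Q_le hq)

theorem center_cases {x : G} (hx : x ∈ F.Q) (hc : ∀ q ∈ F.Q, x * q = q * x) : x = 1 ∨ x = F.z := by
  set C := F.Q ⊓ centralizer (F.Q : Set G) with hC
  have hxC : x ∈ C := ⟨hx, mem_centralizer_iff.2 fun q hq => (hc q hq).symm⟩
  rcases F.card_center with h | h | h | h
  · exact F.eq_or_eq_of_card_two h ⟨F.z_mem_Q, mem_centralizer_iff.2 fun q hq => F.Q_comm_z hq⟩ hxC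
  · exact (no_center_index_eight (T := F.Q) (fun q hq => F.Q_comm_z hq)
      (fun a ha b hb => F.comm_cases ha hb) (by rw [h, F.card_Q_eq])).elim
  · refine absurd (fun a ha b hb => ?_) F.not_abelian
    have e : C = F.Q := eq_of_le_of_card_ge inf_le_left (by rw [h, F.card_Q_eq])
    exact (mem_centralizer_iff.1 (e.ge ha).2 b hb).symm
  · exfalso
    have := card_dvd_of_le (inf_le_left : C ≤ F.Q)
    rw [h, F.card_Q_eq] at this
    norm_num at this

theorem sq_cases {a : G} (ha : a ∈ F.Q) : a * a = 1 ∨ a * a = F.z := by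
  refine F.center_cases (mul_mem ha ha) fun q hq => ?_
  rcases F.comm_cases ha hq with e | e
  · exact ((show Commute a q from e).mul_left e).eq
  · calc a * a * q = a * (a * q) := mul_assoc _ _ _
      _ = (a * q) * a * F.z := by conv_lhs => rw [e]
                                  group
      _ = q * a * (F.z * a) * F.z := by rw [e]; group
      _ = q * a * (a * F.z) * F.z := by rw [F.Q_comm_z ha]
      _ = q * (a * a) * (F.z * F.z) := by group
      _ = q * (a * a) := by rw [F.zz, mul_one]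

theorem sq_mem {a : G} (ha : a ∈ F.Q) : a * a ∈ zpowers F.z := by
  rcases F.sq_cases ha with e | e <;> rw [e]
  exacts [one_mem _, mem_zpowers _]

theorem comm_mem {a b : G} (ha : a ∈ F.Q) (hb : b ∈ F.Q) : (a * b)⁻¹ * (b * a) ∈ zpowers F.z := by
  rcases F.comm_cases ha hb with e | e <;> rw [e]
  · rw [inv_mul_cancel]
    exact one_mem _
  · rw [mul_inv_rev, inv_mul_cancel_right]
    exact inv_mem (mem_zpowers _)

/-- An element outside `Q` does not centralise it, and `u` acts. -/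
theorem mem_Q_of_centralizes {c : G} (hc : c ∈ centralizer (F.Q : Set G)) : c ∈ F.Q := by
  haveI := F.Cbar_isSimple
  have hle : centralizer (F.Q : Set G) ≤ F.Cz := fun y hy =>
    F.mem_Cz.2 (mem_centralizer_iff.1 hy _ F.z_mem_Q).symm
  by_contra hcQ
  set K := ((centralizer (F.Q : Set G)).subgroupOf F.Cz).map (QuotientGroup.mk' (pCore 2 ↥F.Cz))
  haveI : ((centralizer (F.Q : Set G)).subgroupOf F.Cz).Normal := ⟨fun y hy g => mem_subgroupOf.2 (by
    refine mem_centralizer_iff.2 fun q hq => ?_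
    have hq' : (g : G)⁻¹ * q * g ∈ F.Q := by simpa using F.conj_mem_Q (inv_mem g.2) hq
    have e := mem_centralizer_iff.1 (mem_subgroupOf.1 hy) _ hq'
    show q * ((g : G) * y * (g : G)⁻¹) = (g : G) * y * (g : G)⁻¹ * q
    calc q * ((g : G) * y * (g : G)⁻¹) = (g : G) * ((g : G)⁻¹ * q * g * y) * (g : G)⁻¹ := by group
      _ = _ := by rw [e]; group)⟩
  haveI hKn : K.Normal := Subgroup.Normal.map inferInstance _ (QuotientGroup.mk'_surjective _)
  have hu : F.ubar ∈ K := by
    rcases hKn.eq_bot_or_eq_top with h | h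
    · exfalso
      have hm : ((⟨c, hle hc⟩ : F.Cz) : F.Cbar) ∈ K := ⟨⟨c, hle hc⟩, mem_subgroupOf.2 hc, rfl⟩
      rw [h, mem_bot] at hm
      exact hcQ (F.mk_eq_one.1 hm)
    · exact h ▸ mem_top _
  obtain ⟨d, hd, hdu⟩ := hu
  have hq := F.mem_Q_of_mk_eq hdu
  change (d : G)⁻¹ * F.u ∈ F.Q at hq
  have hall : F.Q ≤ zpowers F.z := fun a ha => by
    refine F.section_fixed F.zpowers_z_le (mem_zpowers _)
      (fun x hx => by rw [F.zpowers_z_conj F.u_mem_Cz hx]; exact hx) ha ?_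
    set q := (d : G)⁻¹ * F.u with hqd
    have e := mem_centralizer_iff.1 (mem_subgroupOf.1 hd) (q * a * q⁻¹) (mul_mem (mul_mem hq ha) (inv_mem hq))
    have e1 : F.u * a * F.u⁻¹ = q * a * q⁻¹ := by
      calc F.u * a * F.u⁻¹ = (d : G) * (q * a * q⁻¹) * (d : G)⁻¹ := by rw [hqd]; group
        _ = _ := by rw [← e, mul_inv_cancel_right]
    rw [e1]
    have h := F.comm_mem ha hq
    rcases F.comm_cases hq ha with e2 | e2
    · rw [e2, mul_inv_cancel_right, inv_mul_cancel]
      exact one_mem _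
    · have : a⁻¹ * (q * a * q⁻¹) = F.z := by
        rw [e2, show a * q * F.z * q⁻¹ = a * (q * F.z * q⁻¹) by group, F.Q_comm_z hq, mul_inv_cancel_right,
          inv_mul_cancel_left]
      rw [this]
      exact mem_zpowers _
  have := card_dvd_of_le hall
  rw [F.card_Q_eq, Nat.card_zpowers, F.z_two] at this
  norm_num at this

theorem ctr_Q : LargeExtra.Ctr F.Q F.z := by
  haveI : Fact (Nat.Prime 2) := ⟨Nat.prime_two⟩
  have hzc : ∀ v : F.Q, ((v : G) = 1 ∨ (v : G) = F.z) → v ∈ center F.Q := by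
    intro v hv
    refine mem_center_iff.2 fun w => Subtype.ext ?_
    show (w : G) * v = v * w
    rcases hv with e | e <;> rw [e]
    · rw [mul_one, one_mul]
    · exact F.Q_comm_z w.2
  have hcc : ∀ v ∈ center F.Q, (v : G) = 1 ∨ (v : G) = F.z := fun v hv =>
    F.center_cases v.2 fun q hq => (congrArg Subtype.val (mem_center_iff.1 hv ⟨q, hq⟩)).symm
  have hle : commutator F.Q ≤ center F.Q := by
    rw [_root_.commutator_def, commutator_le]
    intro a _ b _
    refine hzc _ ?_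
    show (a : G) * b * (a : G)⁻¹ * (b : G)⁻¹ = 1 ∨ _ = F.z
    rcases F.comm_cases a.2 b.2 with e | e
    · left; rw [e, mul_inv_cancel_right, mul_inv_cancel]
    · right
      show (a : G) * b * (a : G)⁻¹ * (b : G)⁻¹ = F.z
      rw [e, show (b : G) * a * F.z * (a : G)⁻¹ * (b : G)⁻¹ = (b : G) * ((a : G) * F.z * (a : G)⁻¹) * (b : G)⁻¹ by group,
        F.Q_comm_z a.2, mul_inv_cancel_right, F.Q_comm_z b.2, mul_inv_cancel_right]
  have hcard : Nat.card (center F.Q) = 2 := by
    rw [Nat.card_eq_two_iff' (1 : center F.Q)]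
    refine ⟨⟨⟨F.z, F.z_mem_Q⟩, hzc _ (Or.inr rfl)⟩,
      fun e => F.z_ne_one (congrArg (fun w : center F.Q => ((w : F.Q) : G)) e), ?_⟩
    rintro ⟨v, hv⟩ hv1
    rcases hcc v hv with e | e
    · exact absurd (Subtype.ext (Subtype.ext e)) hv1
    · exact Subtype.ext (Subtype.ext e)
  have heq : commutator F.Q = center F.Q := by
    refine eq_of_le_of_card_ge hle ?_
    rw [hcard]
    refine (one_lt_card_iff_ne_bot _).2 fun e => F.not_abelian fun a ha b hb => ?_
    have h0 : ⁅(⟨a, ha⟩ : F.Q), ⟨b, hb⟩⁆ ∈ commutator F.Q := commutator_mem_commutator (mem_top _) (mem_top _)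
    rw [e, mem_bot, commutatorElement_eq_one_iff_mul_comm] at h0
    exact congrArg Subtype.val h0
  refine ⟨⟨⟨F.Q_pgroup, le_antisymm ?_ ?_, heq⟩, hcard⟩, F.z_two, ?_, ?_, F.Cz_le_normalizer⟩
  · have := Cfsg.Agent.CharP.frattini_le_ker (p := 2) (QuotientGroup.mk' (center F.Q)) (fun a b => by
      show (a : F.Q ⧸ center F.Q) * b = b * a
      rw [← QuotientGroup.mk_mul, ← QuotientGroup.mk_mul, QuotientGroup.eq]
      exact hzc _ ((show ((a * b)⁻¹ * (b * a) : F.Q).1 = 1 ∨ _ from by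
        show ((a : G) * b)⁻¹ * ((b : G) * a) = 1 ∨ _ = F.z
        exact F.eq_or_eq_of_card_two (by rw [Nat.card_zpowers, F.z_two]) (mem_zpowers _) (F.comm_mem a.2 b.2))))
      (fun a => by
        rw [QuotientGroup.mk'_apply, ← QuotientGroup.mk_pow, QuotientGroup.eq_one_iff]
        refine hzc _ ?_
        rw [SubgroupClass.coe_pow, pow_two]
        exact F.sq_cases a.2)
    rwa [QuotientGroup.ker_mk'] at this
  · haveI := F.Q_pgroup.isNilpotent
    rw [← heq]
    exact Cfsg.Agent.Coprime.commutator_le_frattini _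
  · ext x
    constructor
    · rintro ⟨v, hv, rfl⟩
      rcases hcc v hv with e | e <;> rw [coe_subtype, e]
      exacts [one_mem _, mem_zpowers _]
    · intro hx
      exact ⟨⟨x, F.zpowers_z_le hx⟩, hzc _ (F.eq_or_eq_of_card_two (by rw [Nat.card_zpowers, F.z_two])
        (mem_zpowers _) hx), rfl⟩
  · ext x
    constructor
    · intro hx
      rcases F.center_cases (F.mem_Q_of_centralizes hx) (fun q hq => (mem_centralizer_iff.1 hx q hq).symm)
        with e | e <;> rw [e]
      exacts [one_mem _, mem_zpowers _]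
    · intro hx
      refine mem_centralizer_iff.2 fun q hq => ?_
      rw [← mul_inv_eq_iff_eq_mul]
      exact F.zpowers_z_conj (F.Q_le hq) hx

/-- An element outside `<z>` and its conjugates span a subgroup of order eight modulo `z`. -/
theorem exists_sixteen : ∃ S : Subgroup G, S ≤ F.Q ∧ F.z ∈ S ∧ Nat.card S = 16 ∧
    ∀ x ∈ S, F.u * x * F.u⁻¹ ∈ S := by
  classical
  haveI hZn : ((zpowers F.z).subgroupOf F.Q).Normal := ⟨fun x hx c => mem_subgroupOf.2 (by
    show (c : G) * x * (c : G)⁻¹ ∈ zpowers F.z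
    rw [F.zpowers_z_conj (F.Q_le c.2) (mem_subgroupOf.1 hx)]
    exact mem_subgroupOf.1 hx)⟩
  set Zq : Subgroup F.Q := (zpowers F.z).subgroupOf F.Q with hZq
  have hcomm : ∀ a b : F.Q ⧸ Zq, a * b = b * a := by
    intro a b
    obtain ⟨a, rfl⟩ := QuotientGroup.mk_surjective a
    obtain ⟨b, rfl⟩ := QuotientGroup.mk_surjective b
    rw [← QuotientGroup.mk_mul, ← QuotientGroup.mk_mul, QuotientGroup.eq]
    exact mem_subgroupOf.2 (F.comm_mem a.2 b.2)
  letI : CommGroup (F.Q ⧸ Zq) := { (inferInstance : Group (F.Q ⧸ Zq)) with mul_comm := hcomm }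
  have hsq : ∀ a : F.Q ⧸ Zq, a * a = 1 := by
    intro a
    obtain ⟨a, rfl⟩ := QuotientGroup.mk_surjective a
    rw [← QuotientGroup.mk_mul, QuotientGroup.eq_one_iff]
    exact mem_subgroupOf.2 (F.sq_mem a.2)
  let c : F.Q →* F.Q := MonoidHom.mk' (fun x => ⟨F.u * x * F.u⁻¹, F.conj_mem_Q F.u_mem_Cz x.2⟩) fun x y =>
    Subtype.ext (show F.u * ((x : G) * y) * F.u⁻¹ = F.u * x * F.u⁻¹ * (F.u * y * F.u⁻¹) by group)
  let U : F.Q ⧸ Zq →* F.Q ⧸ Zq := QuotientGroup.map Zq Zq c fun x hx => mem_comap.2 <| mem_subgroupOf.2 (by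
    show F.u * x * F.u⁻¹ ∈ zpowers F.z
    rw [F.zpowers_z_conj F.u_mem_Cz (mem_subgroupOf.1 hx)]
    exact mem_subgroupOf.1 hx)
  have hfix : ∀ a, U a = a → a = 1 := by
    intro a ha
    obtain ⟨a, rfl⟩ := QuotientGroup.mk_surjective a
    refine (QuotientGroup.eq_one_iff _).2 (mem_subgroupOf.2 ?_)
    refine F.section_fixed F.zpowers_z_le (mem_zpowers _)
      (fun x hx => by rw [F.zpowers_z_conj F.u_mem_Cz hx]; exact hx) a.2 ?_
    have h := mem_subgroupOf.1 (QuotientGroup.eq.1 (show (c a : F.Q ⧸ Zq) = a from ha))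
    simpa [c, mul_assoc] using inv_mem h
  have hU7 : ∀ a, U (U (U (U (U (U (U a)))))) = a := by
    intro a
    obtain ⟨a, rfl⟩ := QuotientGroup.mk_surjective a
    show ((c (c (c (c (c (c (c a)))))) : F.Q) : F.Q ⧸ Zq) = a
    refine congrArg _ (Subtype.ext ?_)
    show F.u * (F.u * (F.u * (F.u * (F.u * (F.u * (F.u * a * F.u⁻¹) * F.u⁻¹) * F.u⁻¹) * F.u⁻¹) * F.u⁻¹) * F.u⁻¹) *
      F.u⁻¹ = a
    calc _ = F.u ^ 7 * a * (F.u ^ 7)⁻¹ := by simp only [pow_succ, pow_zero, one_mul]; group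
      _ = a := by rw [F.u7]; group
  obtain ⟨a, ha1, ha⟩ : ∃ a : F.Q ⧸ Zq, a ≠ 1 ∧ (U (U (U a)) = a * U a ∨ U (U (U a)) = a * U (U a)) := by
    have hsolve : ∀ p q r : F.Q ⧸ Zq, p * q * r = 1 → r = p * q := fun p q r h => by
      calc r = (p * q) * (p * q) * r := by rw [hsq, one_mul]
        _ = p * q := by rw [mul_assoc, h, mul_one]
    haveI : Nontrivial (F.Q ⧸ Zq) := by
      refine Finite.one_lt_card_iff_nontrivial.1 ?_
      have h1 := card_mul_index ((zpowers F.z).subgroupOf F.Q)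
      rw [Nat.card_congr (subgroupOfEquivOfLe F.zpowers_z_le).toEquiv, Nat.card_zpowers, F.z_two,
        F.card_Q_eq, index_eq_card] at h1
      change 2 * Nat.card (F.Q ⧸ Zq) = 128 at h1
      omega
    obtain ⟨y, hy⟩ := exists_ne (1 : F.Q ⧸ Zq)
    by_cases h : y * U y * U (U (U y)) = 1
    · exact ⟨y, hy, Or.inl (hsolve _ _ _ h)⟩
    refine ⟨_, h, Or.inr (hsolve _ _ _ (hfix _ ?_))⟩
    simp only [map_mul, hU7]
    -- both sides are the product of the seven conjugates
    have key : ∀ a b c d e f g : F.Q ⧸ Zq, a * b * d * (c * d * f) * (d * e * g) = a * b * c * d * e * f * g := by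
      intro a b c d e f g
      calc a * b * d * (c * d * f) * (d * e * g) = a * b * c * d * e * f * g * (d * d) := by ac_rfl
        _ = _ := by rw [hsq, mul_one]
    rw [key, key]
    ac_rfl
  set B : Subgroup (F.Q ⧸ Zq) := zpowers a ⊔ zpowers (U a) ⊔ zpowers (U (U a)) with hB
  have hm0 : a ∈ B := mem_sup_left (mem_sup_left (mem_zpowers _))
  have hm1 : U a ∈ B := mem_sup_left (mem_sup_right (mem_zpowers _))
  have hm2 : U (U a) ∈ B := mem_sup_right (mem_zpowers _)
  have hUB : ∀ b ∈ B, U b ∈ B := by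
    intro b hb
    have : B.map U ≤ B := by
      rw [hB, Subgroup.map_sup, Subgroup.map_sup, MonoidHom.map_zpowers, MonoidHom.map_zpowers,
        MonoidHom.map_zpowers, sup_le_iff, sup_le_iff, zpowers_le, zpowers_le, zpowers_le]
      refine ⟨⟨hm1, hm2⟩, ?_⟩
      rcases ha with e | e <;> rw [e]
      exacts [mul_mem hm0 hm1, mul_mem hm0 hm2]
    exact this ⟨b, hb, rfl⟩
  have hBc : Nat.card B ≤ 8 := by
    have hsup : ∀ H K : Subgroup (F.Q ⧸ Zq), Nat.card ↥(H ⊔ K) ≤ Nat.card H * Nat.card K := by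
      intro H K
      rw [← Nat.card_prod]
      refine Nat.card_le_card_of_surjective (fun p : H × K =>
        (⟨(p.1 : F.Q ⧸ Zq) * p.2, mul_mem (mem_sup_left p.1.2) (mem_sup_right p.2.2)⟩ : ↥(H ⊔ K))) fun x => ?_
      obtain ⟨h, hh, k, hk, e⟩ := Subgroup.mem_sup.1 x.2
      exact ⟨(⟨h, hh⟩, ⟨k, hk⟩), Subtype.ext e⟩
    have h2 : ∀ p : F.Q ⧸ Zq, Nat.card (zpowers p) ≤ 2 := fun p => by
      rw [Nat.card_zpowers]
      exact Nat.le_of_dvd (by norm_num) (orderOf_dvd_of_pow_eq_one (by rw [pow_two, hsq]))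
    exact (hsup _ _).trans (Nat.mul_le_mul ((hsup _ _).trans (Nat.mul_le_mul (h2 _) (h2 _))) (h2 _))
  set S : Subgroup G := (B.comap (QuotientGroup.mk' Zq)).map F.Q.subtype
  have hSQ : S ≤ F.Q := map_subtype_le _
  have hzS : F.z ∈ S := ⟨⟨F.z, F.z_mem_Q⟩, by
    show ((⟨F.z, F.z_mem_Q⟩ : F.Q) : F.Q ⧸ Zq) ∈ B
    rw [(QuotientGroup.eq_one_iff _).2 (mem_subgroupOf.2 (mem_zpowers F.z))]
    exact one_mem B, rfl⟩
  have hSu : ∀ x ∈ S, F.u * x * F.u⁻¹ ∈ S := by
    rintro _ ⟨x, hx, rfl⟩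
    exact ⟨c x, hUB _ hx, rfl⟩
  refine ⟨S, hSQ, hzS, ?_, hSu⟩
  have hcS : Nat.card S = 2 * Nat.card B := by
    rw [card_map_of_injective F.Q.subtype_injective]
    have h1 := card_mul_index (B.comap (QuotientGroup.mk' Zq))
    rw [index_comap_of_surjective _ (QuotientGroup.mk'_surjective _)] at h1
    have h2 := card_mul_index B
    have h3 := card_mul_index Zq
    rw [hZq, Nat.card_congr (subgroupOfEquivOfLe F.zpowers_z_le).toEquiv, Nat.card_zpowers, F.z_two,
      index_eq_card] at h3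
    rw [← h3, ← h2, ← mul_assoc] at h1
    exact Nat.eq_of_mul_eq_mul_right (Nat.pos_of_ne_zero index_ne_zero_of_finite) h1
  have hB1 : 1 < Nat.card B := by
    refine Finite.one_lt_card_iff_nontrivial.2 ⟨⟨a, hm0⟩, 1, fun e => ha1 (congrArg Subtype.val e)⟩
  rcases F.card_inv hSQ hzS hSu with h | h | h | h <;> omega

theorem not_rank_three : ¬ Cfsg.PRankLE 2 3 ↥F.Q := by
  intro hr
  obtain ⟨S, hSQ, hzS, hS, hSu⟩ := F.exists_sixteen
  have hSz : ∀ x ∈ S, x * F.z = F.z * x := fun x hx => F.Q_comm_z (hSQ hx)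
  have hab : ∀ a ∈ S, ∀ b ∈ S, a * b = b * a := by
    set C := S ⊓ centralizer (S : Set G)
    have hCu : ∀ x ∈ C, F.u * x * F.u⁻¹ ∈ C := by
      intro x hx
      refine ⟨hSu x hx.1, mem_centralizer_iff.2 fun q hq => ?_⟩
      obtain ⟨q', hq', e⟩ : ∃ q' ∈ S, F.u * q' * F.u⁻¹ = q := by
        have hinj : Function.Injective (fun y : S => (⟨F.u * y * F.u⁻¹, hSu y y.2⟩ : S)) := fun y y' e =>
          Subtype.ext (mul_left_cancel (mul_right_cancel (congrArg Subtype.val e)))
        obtain ⟨y, hy⟩ := Finite.surjective_of_injective hinj ⟨q, hq⟩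
        exact ⟨y, y.2, congrArg Subtype.val hy⟩
      rw [← e]
      have hc := mem_centralizer_iff.1 hx.2 q' hq'
      calc F.u * q' * F.u⁻¹ * (F.u * x * F.u⁻¹) = F.u * (q' * x) * F.u⁻¹ := by group
        _ = _ := by rw [hc]; group
    have hzC : F.z ∈ C := ⟨hzS, mem_centralizer_iff.2 fun q hq => hSz q hq⟩
    have hC := card_dvd_of_le (inf_le_left : C ≤ S)
    rcases F.card_inv (inf_le_left.trans hSQ) hzC hCu with h | h | h | h
    · exact (no_center_index_eight (T := S) hSz (fun a ha b hb => F.comm_cases (hSQ ha) (hSQ hb))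
        (by rw [h, hS])).elim
    · intro a ha b hb
      have e : C = S := eq_of_le_of_card_ge inf_le_left (by rw [h, hS])
      exact (mem_centralizer_iff.1 (e.ge ha).2 b hb).symm
    all_goals rw [h, hS] at hC; norm_num at hC
  let W : Subgroup G :=
    { carrier := {x | x ∈ S ∧ x * x = 1}
      one_mem' := ⟨one_mem _, mul_one 1⟩
      mul_mem' := fun {x y} hx hy => ⟨mul_mem hx.1 hy.1, by
        calc x * y * (x * y) = x * (y * x) * y := by group
          _ = (x * x) * (y * y) := by rw [hab y hy.1 x hx.1]; group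
          _ = 1 := by rw [hx.2, hy.2, mul_one]⟩
      inv_mem' := fun {x} hx => ⟨inv_mem hx.1, by rw [← mul_inv_rev, hx.2, inv_one]⟩ }
  have hWS : W ≤ S := fun x hx => hx.1
  have hzW : F.z ∈ W := ⟨hzS, F.zz⟩
  have hWu : ∀ x ∈ W, F.u * x * F.u⁻¹ ∈ W := fun x hx => ⟨hSu x hx.1, by
    rw [show F.u * x * F.u⁻¹ * (F.u * x * F.u⁻¹) = F.u * (x * x) * F.u⁻¹ by group, hx.2, mul_one, mul_inv_cancel]⟩
  have hW : ∀ x ∈ S, x * x = 1 := by
    have hd := card_dvd_of_le hWS
    rcases F.card_inv (hWS.trans hSQ) hzW hWu with h | h | h | h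
    · exfalso
      have hsmall := F.abelian_small hSQ hab hSu
        (fun x hx hxx => F.eq_or_eq_of_card_two h hzW (show x ∈ W from ⟨hx, hxx⟩))
      have h2 : (S : Set G).ncard ≤ ({1, F.z} : Set G).ncard := Set.ncard_le_ncard hsmall (Set.toFinite _)
      rw [Set.ncard_pair (Ne.symm F.z_ne_one), ← Nat.card_coe_set_eq] at h2
      have h3 : Nat.card S ≤ 2 := h2
      omega
    · intro x hx
      have e : W = S := eq_of_le_of_card_ge hWS (by rw [h, hS])
      exact (e.ge hx).2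
    all_goals rw [h, hS] at hd; norm_num at hd
  have hle := hr (S.subgroupOf F.Q)
    ⟨⟨fun a b => Subtype.ext (Subtype.ext (hab _ (mem_subgroupOf.1 a.2) _ (mem_subgroupOf.1 b.2)))⟩⟩
    (fun a ha => Subtype.ext (by
      show (a : G) ^ 2 = 1
      rw [pow_two]
      exact hW _ (mem_subgroupOf.1 ha)))
  rw [Nat.card_congr (subgroupOfEquivOfLe hSQ).toEquiv, hS] at hle
  norm_num at hle

/-- `C(z)` has the shape `2^(1+6) . L3(2)`. -/
theorem nonempty_shape : Nonempty (HeLocal.Cz.Shape F.z) := by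
  haveI := F.Cbar_isSimple
  obtain ⟨e⟩ := L3Facts.nonempty_equiv_l3 (K := F.Cbar) F.card_Cbar_eq
  exact ⟨{
    Q := F.Q
    ctr := F.ctr_Q
    card := F.card_Q_eq
    rank := F.not_rank_three
    π := e.toMonoidHom.comp (QuotientGroup.mk' (pCore 2 ↥F.Cz))
    π_surj := e.surjective.comp (QuotientGroup.mk'_surjective _)
    π_ker := fun c => by
      show e (c : F.Cbar) = 1 ↔ _
      rw [MulEquiv.map_eq_one_iff, F.mk_eq_one] }⟩

end Cfsg.Agent.M24Order.Facts
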