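import Cfsg.Agent.Lib.M24Order.Local.Center
import Cfsg.Agent.Lib.M24Order.Local.Index
import Cfsg.Agent.Lib.M24Order.Local.Quot

/-!
# `Q` is not a Sylow 2-subgroup

* `center_eq`: if `|Q| = 1024` then `Z(Q) = {1, z}`.
* `exists_w`: a conjugate of `t` lies in `Z2(Q)`.
* `card_Q_ne_1024`.
-/

set_option autoImplicit false
set_option linter.style.haveILetI false

namespace Cfsg.Agent.M24Order.Facts

open Subgroup Cfsg

variable {G : Type*} [Group G] [Finite G] (F : Facts G)

include F in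
theorem sylow_spec : ∀ P : Sylow 2 G, Nat.card (P : Subgroup G) = 1024 := by
  haveI : Fact (Nat.Prime 2) := ⟨Nat.prime_two⟩
  intro P
  exact (SmallSimple.Basic.card_sylow_eq_pow (a := 10) (m := 239085) (by rw [F.card]; norm_num) (by norm_num) P).trans
    (by norm_num)

theorem center_eq (hQ : Nat.card F.Q = 1024) {x : G} (hx : x ∈ F.Q) (hc : x ∈ centralizer (F.Q : Set G)) :
    x = 1 ∨ x = F.z := by
  haveI : Fact (Nat.Prime 2) := ⟨Nat.prime_two⟩
  haveI : Fact (Nat.Prime 7) := ⟨by norm_num⟩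
  set X := F.Q ⊓ centralizer (F.Q : Set G) with hX
  have hXab : ∀ a ∈ X, ∀ b ∈ X, a * b = b * a := fun a ha b hb => (mem_centralizer_iff.1 ha.2 b hb.1).symm
  have hXconj : ∀ n ∈ normalizer (F.Q : Set G), ∀ y ∈ X, n * y * n⁻¹ ∈ X := by
    intro n hn y hy
    refine ⟨(mem_normalizer_iff.1 hn y).1 hy.1, mem_centralizer_iff.2 fun q hq => ?_⟩
    have hq' : n⁻¹ * q * n ∈ F.Q := by
      have := (mem_normalizer_iff.1 (inv_mem hn) q).1 hq
      rwa [inv_inv] at this
    have e := mem_centralizer_iff.1 hy.2 _ hq'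
    calc q * (n * y * n⁻¹) = n * (n⁻¹ * q * n * y) * n⁻¹ := by group
      _ = n * (y * (n⁻¹ * q * n)) * n⁻¹ := by rw [e]
      _ = _ := by group
  have hCzN : F.Cz ≤ normalizer (F.Q : Set G) := by
    intro c hc'
    rw [mem_normalizer_iff]
    intro y
    refine ⟨fun h => F.conj_mem_Q hc' h, fun h => ?_⟩
    have := F.conj_mem_Q (inv_mem hc') h
    rwa [inv_inv, show c⁻¹ * (c * y * c⁻¹) * c = y by group] at this
  refine F.abelian_small inf_le_left hXab (fun y hy => hXconj _ (hCzN F.u_mem_Cz) y hy) ?_ x ⟨hx, hc⟩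
  -- the involutions of the centre
  let W : Subgroup G :=
    { carrier := {y | y ∈ X ∧ y * y = 1}
      one_mem' := ⟨one_mem X, one_mul 1⟩
      mul_mem' := fun {a b} ha hb => ⟨mul_mem ha.1 hb.1, by
        calc a * b * (a * b) = a * (b * a) * b := by group
          _ = a * a * (b * b) := by rw [hXab b hb.1 a ha.1]; group
          _ = 1 := by rw [ha.2, hb.2, one_mul]⟩
      inv_mem' := fun {a} ha => ⟨inv_mem ha.1, by rw [← mul_inv_rev, ha.2, inv_one]⟩ }
  have hzX : F.z ∈ X := ⟨F.z_mem_Q, mem_centralizer_iff.2 fun q hq => F.mem_Cz.1 (F.Q_le hq)⟩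
  have hWconj : ∀ n ∈ normalizer (F.Q : Set G), ∀ y ∈ W, n * y * n⁻¹ ∈ W := fun n hn y hy =>
    ⟨hXconj n hn y hy.1, by rw [show n * y * n⁻¹ * (n * y * n⁻¹) = n * (y * y) * n⁻¹ by group, hy.2]; group⟩
  have hWcard := F.card_inv (X := W) (fun y hy => hy.1.1) ⟨hzX, F.zz⟩ fun y hy => hWconj _ (hCzN F.u_mem_Cz) y hy
  set N := normalizer (F.Q : Set G) with hN
  obtain ⟨P⟩ : Nonempty (Sylow 2 G) := inferInstance
  let QS : Sylow 2 G := Sylow.ofCard F.Q (by rw [hQ, ← F.sylow_spec P, P.card_eq_multiplicity])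
  have hQS : (QS : Subgroup G) = F.Q := Sylow.coe_ofCard _ _
  -- the orbit
  have horb : ∀ y, y ∈ (W : Set G) \ {1} ↔ ∃ n ∈ N, n * F.z * n⁻¹ = y := by
    intro y
    constructor
    · rintro ⟨hy, hy1⟩
      have ho : orderOf y = 2 := orderOf_eq_prime (by rw [pow_two]; exact hy.2) hy1
      rcases F.involution y ho with ⟨g, hg⟩ | ⟨g, hg⟩
      · have hzc : F.z ∈ centralizer ((QS : Subgroup G) : Set G) := by rw [hQS]; exact hzX.2
        have hyc : g⁻¹⁻¹ * F.z * g⁻¹ ∈ centralizer ((QS : Subgroup G) : Set G) := by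
          rw [hQS, inv_inv, hg]; exact hy.1.2
        obtain ⟨n, hn, e⟩ := Sylow.conj_eq_normalizer_conj_of_mem_centralizer QS F.z g⁻¹ hzc hyc
        rw [← QS.coe_coe, hQS] at hn
        rw [inv_inv, hg] at e
        exact ⟨n⁻¹, inv_mem hn, by rw [inv_inv, ← e]⟩
      · exfalso
        have hle : (F.Q : Subgroup G).map (MulAut.conj g⁻¹).toMonoidHom ≤ centralizer ({F.t} : Set G) := by
          rintro _ ⟨q, hq, rfl⟩
          have e := mem_centralizer_iff.1 hy.1.2 q hq
          rw [← hg] at e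
          refine mem_centralizer_singleton_iff.2 ?_
          show g⁻¹ * q * g⁻¹⁻¹ * F.t = F.t * (g⁻¹ * q * g⁻¹⁻¹)
          calc g⁻¹ * q * g⁻¹⁻¹ * F.t = g⁻¹ * (q * (g * F.t * g⁻¹)) * g := by group
            _ = g⁻¹ * (g * F.t * g⁻¹ * q) * g := by rw [e]
            _ = _ := by group
        have := card_dvd_of_le hle
        rw [card_map_of_injective (MulAut.conj g⁻¹).injective, hQ, F.card_Ct] at this
        norm_num at this
    · rintro ⟨n, hn, rfl⟩
      exact ⟨hWconj n hn _ ⟨hzX, F.zz⟩, fun e => F.z_ne_one (conj_eq_one_iff.1 e)⟩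
  have hNc := F.card_orbit hCzN horb
  rw [Nat.card_coe_set_eq ((W : Set G) \ {1}), Set.ncard_diff_singleton_of_mem W.one_mem,
    ← Nat.card_coe_set_eq] at hNc
  change Nat.card N = 21504 * (Nat.card W - 1) at hNc
  have hNd : Nat.card N ∣ 244823040 := F.card ▸ card_subgroup_dvd_card N
  have hW2 : Nat.card W = 2 := by
    rcases hWcard with h | h | h | h
    · exact h
    · exfalso
      rw [h] at hNc
      -- a group of order 315
      have hQN : F.Q ≤ N := le_normalizer
      haveI : (F.Q.subgroupOf N).Normal := (normal_subgroupOf_iff_le_normalizer hQN).2 le_rfl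
      have hH : Nat.card (N ⧸ F.Q.subgroupOf N) = 315 := by
        have h1 := card_mul_index (F.Q.subgroupOf N)
        rw [Nat.card_congr (subgroupOfEquivOfLe hQN).toEquiv, hQ, hNc, index_eq_card] at h1
        omega
      have h7 := seven_normal_of_card_315 hH
      haveI : Subsingleton (Sylow 7 (N ⧸ F.Q.subgroupOf N)) := Finite.card_le_one_iff_subsingleton.1 h7.le
      set uN : N := ⟨F.u, hCzN F.u_mem_Cz⟩
      set ub : N ⧸ F.Q.subgroupOf N := QuotientGroup.mk uN
      have hub : orderOf ub = 7 := by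
        refine orderOf_eq_prime (by rw [← QuotientGroup.mk_pow, show uN ^ 7 = 1 from Subtype.ext F.u7]; rfl)
          fun e => ?_
        obtain ⟨n, hn⟩ := F.two_pow_orderOf (y := F.u) (mem_subgroupOf.1 ((QuotientGroup.eq_one_iff _).1 e))
        rw [F.u_seven] at hn
        have := (Nat.prime_dvd_prime_iff_eq (by norm_num) Nat.prime_two).1
          ((show Nat.Prime 7 by norm_num).dvd_of_dvd_pow (dvd_of_eq hn))
        norm_num at this
      have hall : ∀ y : N ⧸ F.Q.subgroupOf N, orderOf y = 7 → y ∈ zpowers ub := by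
        intro y hy
        obtain ⟨A, hA⟩ := (IsPGroup.of_card (n := 1) (G := zpowers y) (p := 7)
          (by rw [Nat.card_zpowers, hy, pow_one])).exists_le_sylow
        obtain ⟨B, hB⟩ := (IsPGroup.of_card (n := 1) (G := zpowers ub) (p := 7)
          (by rw [Nat.card_zpowers, hub, pow_one])).exists_le_sylow
        have hc : Nat.card (B : Subgroup (N ⧸ F.Q.subgroupOf N)) = 7 :=
          (SmallSimple.Basic.card_sylow_eq_pow (a := 1) (m := 45) (by rw [hH]; norm_num) (by norm_num) B).trans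
            (by norm_num)
        rw [eq_of_le_of_card_ge hB (by rw [hc, Nat.card_zpowers, hub]), ← Subsingleton.elim A B]
        exact hA (mem_zpowers y)
      -- so every element of `N` fixes `z`
      have hle : N ≤ F.Cz := by
        intro n hn
        set nN : N := ⟨n, hn⟩
        have ho : orderOf (QuotientGroup.mk (nN * uN * nN⁻¹) : N ⧸ F.Q.subgroupOf N) = 7 := by
          rw [QuotientGroup.mk_mul, QuotientGroup.mk_mul, QuotientGroup.mk_inv,
            show (nN : N ⧸ F.Q.subgroupOf N) * ub * (nN : N ⧸ F.Q.subgroupOf N)⁻¹ =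
              MulAut.conj (nN : N ⧸ F.Q.subgroupOf N) ub from rfl, MulEquiv.orderOf_eq, hub]
        obtain ⟨k, hk⟩ := mem_zpowers_iff.1 (hall _ ho)
        have hk' : ((uN ^ k : N) : N ⧸ F.Q.subgroupOf N) = QuotientGroup.mk (nN * uN * nN⁻¹) := by
          rw [QuotientGroup.mk_zpow]; exact hk
        have hq : (F.u ^ k)⁻¹ * (n * F.u * n⁻¹) ∈ F.Q := by
          have := mem_subgroupOf.1 (QuotientGroup.eq.1 hk')
          simpa [uN, nN] using this
        set w := n * F.z * n⁻¹ with hw
        have hwW : w ∈ W := hWconj n hn _ ⟨hzX, F.zz⟩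
        have e1 : (n * F.u * n⁻¹) * w = w * (n * F.u * n⁻¹) := by
          rw [hw]
          calc n * F.u * n⁻¹ * (n * F.z * n⁻¹) = n * (F.u * F.z) * n⁻¹ := by group
            _ = n * (F.z * F.u) * n⁻¹ := by rw [F.uz]
            _ = _ := by group
        have e2 : ((F.u ^ k)⁻¹ * (n * F.u * n⁻¹)) * w = w * ((F.u ^ k)⁻¹ * (n * F.u * n⁻¹)) :=
          mem_centralizer_iff.1 hwW.1.2 _ hq
        have e3 : Commute (F.u ^ k) w := by
          have h1 : Commute (n * F.u * n⁻¹) w := e1
          have h2 : Commute ((F.u ^ k)⁻¹ * (n * F.u * n⁻¹)) w := e2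
          have := h1.mul_left h2.inv_left
          rwa [show n * F.u * n⁻¹ * ((F.u ^ k)⁻¹ * (n * F.u * n⁻¹))⁻¹ = F.u ^ k by group] at this
        have hk7 : ¬ (7 : ℤ) ∣ k := by
          rintro ⟨l, rfl⟩
          rw [zpow_mul, show ub ^ (7 : ℤ) = 1 by exact_mod_cast orderOf_dvd_iff_pow_eq_one.1 (dvd_of_eq hub),
            one_zpow] at hk
          rw [← hk, orderOf_one] at ho
          norm_num at ho
        obtain ⟨a, b, hab⟩ : ∃ a b : ℤ, k * a + 7 * b = 1 := by
          have h7p : Prime (7 : ℤ) := by norm_num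
          exact (h7p.coprime_iff_not_dvd.2 hk7).symm.imp fun a h => h.imp fun b hb => by linarith
        have e4 : Commute F.u w := by
          have := (e3.zpow_left a).mul_left (Commute.one_left w)
          rw [← zpow_mul, mul_one, show k * a = 1 - 7 * b by linarith, zpow_sub, zpow_one, zpow_mul,
            show F.u ^ (7 : ℤ) = 1 by exact_mod_cast F.u7, one_zpow, inv_one, mul_one] at this
          exact this
        rcases F.eq_of_fixed hwW.1.1 e4.eq with e | e
        · exact absurd (conj_eq_one_iff.1 e) F.z_ne_one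
        · exact F.mem_Cz.2 (mul_inv_eq_iff_eq_mul.1 e)
      have := card_dvd_of_le hle
      rw [hNc, F.card_Cz] at this
      norm_num at this
    · exfalso; rw [h] at hNc; rw [hNc] at hNd; norm_num at hNd
    · exfalso; rw [h] at hNc; rw [hNc] at hNd; norm_num at hNd
  exact fun y hy hyy => eq_or_eq_of_card_two F hW2 ⟨hzX, F.zz⟩ (x := y) ⟨hy, hyy⟩

/-- A conjugate of `t` in the second centre, centralised by a subgroup of index two. -/
theorem exists_w (hQ : Nat.card F.Q = 1024) :
    ∃ g : G, g * F.t * g⁻¹ ∈ F.Z2 ∧ Nat.card (centIn F.Q (g * F.t * g⁻¹)) = 512 := by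
  haveI : Fact (Nat.Prime 2) := ⟨Nat.prime_two⟩
  set C := centralizer ({F.t} : Set G) with hC
  obtain S : Sylow 2 C := default
  have hSc : Nat.card (S : Subgroup C) = 512 :=
    (SmallSimple.Basic.card_sylow_eq_pow (a := 9) (m := 15) (by rw [show Nat.card C = 7680 from F.card_Ct]; norm_num)
      (by norm_num) S).trans (by norm_num)
  set S' := (S : Subgroup C).map C.subtype with hS'
  have hS'c : Nat.card S' = 512 := by rw [hS', card_subtype, hSc]
  have htS : F.t ∈ S' := by
    set tC : C := ⟨F.t, mem_centralizer_singleton_iff.2 rfl⟩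
    have hcen : ∀ x : C, x * tC = tC * x := fun x => Subtype.ext (mem_centralizer_singleton_iff.1 x.2)
    haveI : (zpowers tC).Normal := ⟨fun x hx c => by
      obtain ⟨k, rfl⟩ := hx
      show c * tC ^ k * c⁻¹ ∈ zpowers tC
      rw [← conj_zpow, hcen, mul_inv_cancel_right]
      exact zpow_mem (mem_zpowers _) k⟩
    have hp : IsPGroup 2 (zpowers tC) := IsPGroup.of_card (n := 1) (by
      rw [Nat.card_zpowers, ← Subgroup.orderOf_coe, pow_one]; exact F.t_two)
    exact ⟨tC, hp.le_sylow_of_normal S (mem_zpowers tC), rfl⟩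
  obtain ⟨P, hP⟩ := ((S.isPGroup'.map C.subtype).exists_le_sylow : ∃ P : Sylow 2 G, S' ≤ P)
  let QS : Sylow 2 G := Sylow.ofCard F.Q (by rw [hQ, ← F.sylow_spec P, P.card_eq_multiplicity])
  obtain ⟨g, hg⟩ := MulAction.exists_smul_eq G P QS
  have hQS : (QS : Subgroup G) = F.Q := Sylow.coe_ofCard _ _
  have hmap : ∀ x ∈ S', g * x * g⁻¹ ∈ F.Q := fun x hx => by
    rw [← hQS, ← hg]; exact ⟨x, hP hx, rfl⟩
  set w := g * F.t * g⁻¹ with hw
  have hwQ : w ∈ F.Q := hmap _ htS
  set A := centIn F.Q w with hA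
  have hconj : ∀ x : G, x * F.t = F.t * x → g * x * g⁻¹ * w = w * (g * x * g⁻¹) := fun x e => by
    rw [hw, show g * x * g⁻¹ * (g * F.t * g⁻¹) = g * (x * F.t) * g⁻¹ by group, e]; group
  have hAge : 512 ∣ Nat.card A := by
    rw [← hS'c, ← Subgroup.card_map_of_injective (f := (MulAut.conj g).toMonoidHom) (MulAut.conj g).injective (K := S')]
    refine card_dvd_of_le ?_
    rintro _ ⟨x, hx, rfl⟩
    exact mem_centIn.2 ⟨hmap x hx, hconj x (mem_centralizer_singleton_iff.1 ((map_subtype_le (S : Subgroup C)) hx))⟩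
  have hAle : Nat.card A ∣ 512 := by
    have h1 : Nat.card A ∣ 1024 := hQ ▸ card_dvd_of_le inf_le_left
    have h2 : Nat.card A ∣ 7680 := by
      rw [← F.card_Ct, ← Subgroup.card_map_of_injective (f := (MulAut.conj g⁻¹).toMonoidHom) (MulAut.conj g⁻¹).injective (K := A)]
      refine card_dvd_of_le ?_
      rintro _ ⟨x, hx, rfl⟩
      have e := (mem_centIn.1 hx).2
      refine mem_centralizer_singleton_iff.2 ?_
      show g⁻¹ * x * g⁻¹⁻¹ * F.t = F.t * (g⁻¹ * x * g⁻¹⁻¹)
      calc g⁻¹ * x * g⁻¹⁻¹ * F.t = g⁻¹ * (x * w) * g := by rw [hw]; group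
        _ = g⁻¹ * (w * x) * g := by rw [e]
        _ = _ := by rw [hw]; group
    have := Nat.dvd_gcd h1 h2
    norm_num at this
    exact this
  have hA512 : Nat.card A = 512 := Nat.dvd_antisymm hAle hAge
  refine ⟨g, ?_, hA512⟩
  have hidx : (A.subgroupOf F.Q).index = 2 := by
    have h := card_mul_index (A.subgroupOf F.Q)
    rw [Nat.card_congr (subgroupOfEquivOfLe (inf_le_left : A ≤ F.Q)).toEquiv, hA512, hQ] at h
    omega
  haveI hAn : (A.subgroupOf F.Q).Normal := normal_of_index_eq_two hidx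
  refine ⟨hwQ, fun q hq => ?_⟩
  by_cases hqA : q ∈ A
  · exact Or.inl (mem_centIn.1 hqA).2.symm
  -- the commutator is central
  set w' := q * w * q⁻¹ with hw'
  have hww : w * w = 1 := by
    have := pow_orderOf_eq_one F.t
    rw [F.t_two, pow_two] at this
    rw [hw, show g * F.t * g⁻¹ * (g * F.t * g⁻¹) = g * (F.t * F.t) * g⁻¹ by group, this]; group
  have hw'A : w' ∈ A := mem_subgroupOf.1 (hAn.conj_mem ⟨w, hwQ⟩ (mem_subgroupOf.2 (mem_centIn.2 ⟨hwQ, rfl⟩)) ⟨q, hq⟩)
  have hcomm : w' * w = w * w' := (mem_centIn.1 hw'A).2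
  have hfixA : ∀ a ∈ A, a * w = w * a ∧ a * w' = w' * a := by
    intro a ha
    refine ⟨(mem_centIn.1 ha).2, ?_⟩
    have h1 : q⁻¹ * a * q ∈ A := by
      simpa [mul_assoc] using mem_subgroupOf.1 (hAn.conj_mem ⟨a, (mem_centIn.1 ha).1⟩ (mem_subgroupOf.2 ha) (⟨q, hq⟩ : F.Q)⁻¹)
    have e := (mem_centIn.1 h1).2
    calc a * w' = q * (q⁻¹ * a * q * w) * q⁻¹ := by rw [hw']; group
      _ = q * (w * (q⁻¹ * a * q)) * q⁻¹ := by rw [e]
      _ = w' * a := by rw [hw']; group
  have hq2 : q * q ∈ A := by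
    have := mul_self_mem_of_index_two hidx (⟨q, hq⟩ : F.Q)
    simpa [mem_subgroupOf] using this
  have hqw' : q * w' * q⁻¹ = w := by
    have e := (hfixA _ hq2).1
    calc q * w' * q⁻¹ = q * q * w * (q * q)⁻¹ := by rw [hw']; group
      _ = w := by rw [e]; group
  have hcz : ∀ x ∈ F.Q, x * (w * w') = w * w' * x := by
    have hA' : ∀ a ∈ A, a * (w * w') = w * w' * a := fun a ha =>
      ((show Commute a w from (hfixA a ha).1).mul_right (show Commute a w' from (hfixA a ha).2)).eq
    intro x hx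
    by_cases hxA : x ∈ A
    · exact hA' x hxA
    have hm : q⁻¹ * x ∈ A := by
      have := (mul_mem_iff_of_index_two hidx (a := (⟨q, hq⟩ : F.Q)⁻¹) (b := ⟨x, hx⟩)).2
        (iff_of_false (fun h => hqA (mem_subgroupOf.1 (inv_mem_iff.1 h))) fun h => hxA (mem_subgroupOf.1 h))
      simpa [mem_subgroupOf] using this
    have hq' : q * (w * w') * q⁻¹ = w * w' := by
      rw [show q * (w * w') * q⁻¹ = (q * w * q⁻¹) * (q * w' * q⁻¹) by group, hqw', ← hw', hcomm]
    calc x * (w * w') = q * (q⁻¹ * x * (w * w')) := by group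
      _ = q * (w * w') * (q⁻¹ * x) := by rw [hA' _ hm]; group
      _ = q * (w * w') * q⁻¹ * x := by group
      _ = w * w' * x := by rw [hq']
  have hne : w * w' ≠ 1 := by
    intro e
    have e' : w' = w := (eq_inv_of_mul_eq_one_right e).trans (inv_eq_of_mul_eq_one_right hww)
    exact hqA (mem_centIn.2 ⟨hq, mul_inv_eq_iff_eq_mul.1 e'⟩)
  rcases F.center_eq hQ (mul_mem hwQ hw'A.1) (mem_centralizer_iff.2 fun x hx => hcz x hx) with e | e
  · exact absurd e hne
  · right
    have e' : w' = w * F.z := by rw [← e, ← mul_assoc, hww, one_mul]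
    have hwz : w * F.z = F.z * w := F.mem_Cz.1 (F.Q_le hwQ)
    have h1 : q * w = w * F.z * q := by rw [← e', hw']; group
    rw [show q * w * F.z = w * F.z * q * F.z by rw [h1],
      show w * F.z * q * F.z = w * (F.z * q) * F.z by group,
      show F.z * q = q * F.z from (F.mem_Cz.1 (F.Q_le hq)).symm,
      show w * (q * F.z) * F.z = w * q * (F.z * F.z) by group, F.zz, mul_one]

theorem card_Q_ne_1024 : Nat.card F.Q ≠ 1024 := by
  classical
  intro hQ
  haveI : Fact (Nat.Prime 2) := ⟨Nat.prime_two⟩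
  obtain ⟨g, hwZ, hA512⟩ := F.exists_w hQ
  set w := g * F.t * g⁻¹ with hw
  have hcT : F.Z2 ⊓ centralizer (F.Q : Set G) = zpowers F.z := by
    refine le_antisymm (fun x hx => ?_) (zpowers_le.2 ⟨F.z_mem_Z2,
      mem_centralizer_iff.2 fun q hq => F.mem_Cz.1 (F.Q_le hq)⟩)
    rcases F.center_eq hQ (F.Z2_le hx.1) hx.2 with rfl | rfl
    exacts [one_mem _, mem_zpowers _]
  have hwz : w ≠ F.z := by
    intro e
    have : Nat.card (centIn F.Q w) = 1024 := by
      rw [e, ← hQ, show centIn F.Q F.z = F.Q from inf_eq_left.2 F.Q_le]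
    rw [hA512] at this
    norm_num at this
  have hw1 : w ≠ 1 := fun e => by
    have h := F.t_two
    rw [conj_eq_one_iff.1 e, orderOf_one] at h
    norm_num at h
  have hwzz : w ≠ F.z * F.z := by rw [F.zz]; exact hw1
  rcases F.card_Z2 with h | h | h | h
  · rcases eq_or_eq_of_card_two F h F.z_mem_Z2 hwZ with e | e
    exacts [hw1 e, hwz e]
  · -- the fourteen elements
    set H := F.Cz ⊓ centralizer ({w} : Set G) with hH
    have hAH : centIn F.Q w ≤ H := inf_le_inf_right _ F.Q_le
    have hd1 : Nat.card H ∣ 1536 := by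
      have h1 : Nat.card H ∣ 21504 := F.card_Cz ▸ card_dvd_of_le inf_le_left
      have h2 : Nat.card H ∣ 7680 := by
        rw [← F.card_Ct, ← Subgroup.card_map_of_injective (f := (MulAut.conj g⁻¹).toMonoidHom) (MulAut.conj g⁻¹).injective (K := H)]
        refine card_dvd_of_le ?_
        rintro _ ⟨x, hx, rfl⟩
        have e := mem_centralizer_singleton_iff.1 hx.2
        refine mem_centralizer_singleton_iff.2 ?_
        show g⁻¹ * x * g⁻¹⁻¹ * F.t = F.t * (g⁻¹ * x * g⁻¹⁻¹)
        calc g⁻¹ * x * g⁻¹⁻¹ * F.t = g⁻¹ * (x * w) * g := by rw [hw]; group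
          _ = g⁻¹ * (w * x) * g := by rw [e]
          _ = _ := by rw [hw]; group
      have := Nat.dvd_gcd h1 h2
      norm_num at this
      exact this
    have hd2 : 512 ∣ Nat.card H := hA512 ▸ card_dvd_of_le hAH
    have hne : Nat.card H ≠ 512 := by
      intro e
      -- 42 conjugates among 14 elements
      let f : F.Cz ⧸ H.subgroupOf F.Cz → ((F.Z2 : Set G) \ {1, F.z} : Set G) := fun q =>
        ⟨(q.out : G) * w * (q.out : G)⁻¹, F.Z2_conj q.out.2 hwZ, by
          simp only [Set.mem_insert_iff, Set.mem_singleton_iff]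
          rintro (e' | e')
          · exact hw1 (conj_eq_one_iff.1 e')
          · refine hwz ?_
            calc w = (q.out : G)⁻¹ * ((q.out : G) * w * (q.out : G)⁻¹) * q.out := by group
              _ = (q.out : G)⁻¹ * (F.z * q.out) := by rw [e', mul_assoc]
              _ = F.z := by rw [← F.mem_Cz.1 q.out.2, inv_mul_cancel_left]⟩
      have hf : Function.Injective f := fun a b e' => by
        have e1 : (a.out : G) * w * (a.out : G)⁻¹ = (b.out : G) * w * (b.out : G)⁻¹ := congrArg Subtype.val e'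
        rw [← QuotientGroup.out_eq' a, ← QuotientGroup.out_eq' b, QuotientGroup.eq, mem_subgroupOf]
        refine ⟨(a.out⁻¹ * b.out).2, mem_centralizer_singleton_iff.2 ?_⟩
        simp only [Subgroup.coe_mul, Subgroup.coe_inv]
        calc (a.out : G)⁻¹ * b.out * w = (a.out : G)⁻¹ * ((b.out : G) * w * (b.out : G)⁻¹) * b.out := by group
          _ = w * ((a.out : G)⁻¹ * b.out) := by rw [← e1]; group
      have h1 := Nat.card_le_card_of_injective f hf
      have h2 := card_mul_index (H.subgroupOf F.Cz)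
      rw [Nat.card_congr (subgroupOfEquivOfLe (inf_le_left : H ≤ F.Cz)).toEquiv, e, F.card_Cz, index_eq_card] at h2
      have h3 : ((F.Z2 : Set G) \ {1, F.z}).ncard ≤ 16 := by
        refine (Set.ncard_le_ncard Set.sdiff_subset (Set.toFinite _)).trans ?_
        rw [← Nat.card_coe_set_eq]
        exact h.le
      rw [Nat.card_coe_set_eq ((F.Z2 : Set G) \ {1, F.z})] at h1
      omega
    have hH1536 : Nat.card H = 1536 := by
      have := Nat.le_of_dvd (by norm_num) hd1
      obtain ⟨k, hk⟩ := hd2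
      obtain ⟨l, hl⟩ := hd1
      have : k ≠ 2 := by rintro rfl; rw [hk] at hl; omega
      have : k ≠ 0 := by rintro rfl; rw [hk] at hl; omega
      omega
    refine F.no_1536 (H := H.map (MulAut.conj g⁻¹).toMonoidHom)
      (A := (centIn F.Q w).map (MulAut.conj g⁻¹).toMonoidHom) ?_ (map_mono hAH)
      (by rw [card_map_of_injective (MulAut.conj g⁻¹).injective, hH1536])
      (by rw [card_map_of_injective (MulAut.conj g⁻¹).injective, hA512]) ?_
    · rintro _ ⟨x, hx, rfl⟩
      have e := mem_centralizer_singleton_iff.1 hx.2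
      refine mem_centralizer_singleton_iff.2 ?_
      show g⁻¹ * x * g⁻¹⁻¹ * F.t = F.t * (g⁻¹ * x * g⁻¹⁻¹)
      calc g⁻¹ * x * g⁻¹⁻¹ * F.t = g⁻¹ * (x * w) * g := by rw [hw]; group
        _ = g⁻¹ * (w * x) * g := by rw [e]
        _ = _ := by rw [hw]; group
    · rintro _ ⟨x, hx, rfl⟩ _ ⟨a, ha, rfl⟩
      refine ⟨x * a * x⁻¹, mem_centIn.2 ⟨F.conj_mem_Q hx.1 (mem_centIn.1 ha).1, ?_⟩, by simp only [MulEquiv.toMonoidHom_eq_coe, MonoidHom.coe_coe, MulAut.conj_apply, inv_inv]; group⟩
      have h1 : Commute x w := mem_centralizer_singleton_iff.1 hx.2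
      have h2 : Commute a w := (mem_centIn.1 ha).2
      exact ((h1.mul_left h2).mul_left h1.inv_left).eq
  · -- `Z2` of order 128
    have hTz : ∀ x ∈ F.Z2, x * F.z = F.z * x := fun x hx => F.mem_Cz.1 (F.Q_le hx.1)
    have hQz : ∀ x ∈ F.Q, x * F.z = F.z * x := fun x hx => F.mem_Cz.1 (F.Q_le hx)
    have hR := card_cent_mul hTz hQz F.zz fun x hx q hq => hx.2 q hq
    rw [h, hQ, hcT, Nat.card_zpowers, F.z_two] at hR
    set R := F.Q ⊓ centralizer (F.Z2 : Set G) with hRdef
    have hRc : Nat.card R = 16 := by omega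
    have hRu : ∀ x ∈ R, F.u * x * F.u⁻¹ ∈ R := fun x hx => ⟨F.conj_mem_Q F.u_mem_Cz hx.1,
      mem_centralizer_iff.2 fun q hq => by
        have hq' : F.u⁻¹ * q * F.u ∈ F.Z2 := by simpa using F.Z2_conj (inv_mem F.u_mem_Cz) hq
        have e := mem_centralizer_iff.1 hx.2 _ hq'
        calc q * (F.u * x * F.u⁻¹) = F.u * (F.u⁻¹ * q * F.u * x) * F.u⁻¹ := by group
          _ = F.u * (x * (F.u⁻¹ * q * F.u)) * F.u⁻¹ := by rw [e]
          _ = _ := by group⟩
    have hzR : F.z ∈ R := ⟨F.z_mem_Q, mem_centralizer_iff.2 fun q hq => hTz q hq⟩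
    have hI := F.card_inv (X := F.Z2 ⊓ R) (fun x hx => hx.2.1) ⟨F.z_mem_Z2, hzR⟩
      fun x hx => ⟨F.Z2_conj F.u_mem_Cz hx.1, hRu x hx.2⟩
    have hIle : Nat.card ↥(F.Z2 ⊓ R) ∣ 16 := hRc ▸ card_dvd_of_le inf_le_right
    rcases hI with hI | hI | hI | hI
    · -- `Q = Z2 R`, so `R` is nilpotent with trivial centre modulo `z`
      have hprod : ∀ q ∈ F.Q, ∃ a ∈ F.Z2, ∃ b ∈ R, a * b = q := by
        have key : ∀ a a' b b' : G, a ∈ F.Z2 → a' ∈ F.Z2 → b ∈ R → b' ∈ R → a * b = a' * b' →
            a'⁻¹ * a = 1 ∨ a'⁻¹ * a = F.z := fun a a' b b' ha ha' hb hb' e =>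
          eq_or_eq_of_card_two F hI ⟨F.z_mem_Z2, hzR⟩ (Subgroup.mem_inf.2 ⟨mul_mem (inv_mem ha') ha, by
            rw [show a'⁻¹ * a = b' * b⁻¹ by
              rw [eq_mul_inv_iff_mul_eq, mul_assoc, e, inv_mul_cancel_left]]
            exact mul_mem hb' (inv_mem hb)⟩)
        let f : F.Z2 × R → F.Q := fun p => ⟨p.1 * p.2, mul_mem (F.Z2_le p.1.2) p.2.2.1⟩
        haveI := Fintype.ofFinite (F.Z2 × R)
        haveI := Fintype.ofFinite F.Q
        have h2 : ∀ y : F.Q, (Finset.univ.filter fun p => f p = y).card ≤ 2 := by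
          intro y
          by_contra hlt
          obtain ⟨p₁, hp₁, p₂, hp₂, p₃, hp₃, h12, h13, h23⟩ := Finset.two_lt_card.1 (not_le.1 hlt)
          simp only [Finset.mem_filter, Finset.mem_univ, true_and] at hp₁ hp₂ hp₃
          have e : ∀ p, f p = y → p.1.1⁻¹ * p₁.1.1 = 1 ∨ p.1.1⁻¹ * p₁.1.1 = F.z := fun p hp =>
            key _ _ p₁.2.1 p.2.1 p₁.1.2 p.1.2 p₁.2.2 p.2.2 (congrArg Subtype.val (hp₁.trans hp.symm))
          have inj : ∀ p p' : F.Z2 × R, f p = f p' → p.1.1 = p'.1.1 → p = p' := by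
            rintro ⟨a, b⟩ ⟨a', b'⟩ hp ha
            have hp' : a.1 * b.1 = a'.1 * b'.1 := congrArg Subtype.val hp
            simp only at ha
            rw [ha] at hp'
            exact Prod.ext (Subtype.ext ha) (Subtype.ext (mul_left_cancel hp'))
          rcases e p₂ hp₂ with e2 | e2
          · exact h12 (inj _ _ (hp₁.trans hp₂.symm) (inv_mul_eq_one.1 e2).symm)
          · rcases e p₃ hp₃ with e3 | e3
            · exact h13 (inj _ _ (hp₁.trans hp₃.symm) (inv_mul_eq_one.1 e3).symm)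
            · exact h23 (inj _ _ (hp₂.trans hp₃.symm) (inv_injective (mul_right_cancel (e2.trans e3.symm))))
        intro q hq
        by_contra hcon
        push Not at hcon
        have h3 := Finset.card_le_mul_card_image (f := f) Finset.univ 2 fun y _ => h2 y
        have h4 : (Finset.univ.image f).card < Fintype.card F.Q := by
          refine Finset.card_lt_univ_of_notMem (x := ⟨q, hq⟩) fun hm => ?_
          obtain ⟨p, -, hp⟩ := Finset.mem_image.1 hm
          exact hcon p.1 p.1.2 p.2 p.2.2 (congrArg Subtype.val hp)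
        rw [Finset.card_univ, ← Nat.card_eq_fintype_card, Nat.card_prod, h, hRc] at h3
        rw [← Nat.card_eq_fintype_card, hQ] at h4
        omega
      haveI hzn : ((zpowers F.z).subgroupOf R).Normal := ⟨fun x hx r => by
        obtain ⟨k, hk⟩ := mem_subgroupOf.1 hx
        refine mem_subgroupOf.2 ⟨k, ?_⟩
        show F.z ^ k = (r : G) * x * (r : G)⁻¹
        rw [← show F.z ^ k = (x : G) from hk]
        rw [((Commute.zpow_left (hQz _ r.2.1).symm k).symm).eq, mul_inv_cancel_right]⟩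
      have hqc : Nat.card (R ⧸ (zpowers F.z).subgroupOf R) = 8 := by
        have h1 := card_mul_index ((zpowers F.z).subgroupOf R)
        rw [Nat.card_congr (subgroupOfEquivOfLe (zpowers_le.2 hzR)).toEquiv, Nat.card_zpowers, F.z_two, hRc,
          index_eq_card] at h1
        omega
      haveI : Nontrivial (R ⧸ (zpowers F.z).subgroupOf R) := Finite.one_lt_card_iff_nontrivial.1 (by omega)
      haveI := (IsPGroup.of_card (n := 3) (G := R ⧸ (zpowers F.z).subgroupOf R) (p := 2) hqc).center_nontrivial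
      obtain ⟨⟨q, hqz⟩, hq1⟩ := exists_ne (1 : center (R ⧸ (zpowers F.z).subgroupOf R))
      obtain ⟨r, rfl⟩ := QuotientGroup.mk_surjective q
      have hrZ : (r : G) ∈ F.Z2 := by
        refine ⟨r.2.1, fun y hy => ?_⟩
        obtain ⟨a, ha, b, hb, rfl⟩ := hprod y hy
        have hra : (r : G) * a = a * r := (mem_centralizer_iff.1 r.2.2 a ha).symm
        have hb' := mem_center_iff.1 hqz (QuotientGroup.mk ⟨b, hb⟩)
        rw [← QuotientGroup.mk_mul, ← QuotientGroup.mk_mul, QuotientGroup.eq, mem_subgroupOf] at hb'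
        have hb'' : ((b : G) * r)⁻¹ * (r * b) ∈ zpowers F.z := hb'
        have hcases : ((b : G) * r)⁻¹ * (r * b) = 1 ∨ ((b : G) * r)⁻¹ * (r * b) = F.z :=
          eq_or_eq_of_card_two F (by rw [Nat.card_zpowers, F.z_two]) (mem_zpowers _) hb''
        rcases hcases with e | e
        · left
          rw [← mul_assoc, hra, mul_assoc, ← inv_mul_eq_one.1 e, mul_assoc]
        · right
          rw [← mul_assoc, hra, mul_assoc, show (r : G) * b = b * r * F.z by rw [← e, mul_inv_cancel_left]]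
          group
      rcases eq_or_eq_of_card_two F hI ⟨F.z_mem_Z2, hzR⟩ (show (r : G) ∈ F.Z2 ⊓ R from ⟨hrZ, r.2⟩) with e | e <;>
        refine hq1 (Subtype.ext ((QuotientGroup.eq_one_iff _).2 (mem_subgroupOf.2 ?_))) <;> rw [e]
      exacts [one_mem _, mem_zpowers _]
    · -- `R` is the centre of `Z2`
      refine no_center_index_eight (T := F.Z2) hTz (fun x hx q hq => hx.2 q (F.Z2_le hq)) ?_
      have e1 : F.Z2 ⊓ centralizer (F.Z2 : Set G) = F.Z2 ⊓ R := by
        rw [hRdef, ← inf_assoc, inf_eq_left.2 F.Z2_le]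
      rw [e1, hI, h]
    · rw [hI] at hIle; norm_num at hIle
    · rw [hI] at hIle; norm_num at hIle
  · -- `Z2 = Q` has exponent four
    have hTQ : F.Z2 = F.Q := eq_of_le_of_card_ge F.Z2_le (by rw [h, hQ])
    obtain ⟨x, hx⟩ := F.eight
    obtain ⟨P, hP⟩ := (IsPGroup.of_card (n := 3) (G := zpowers x) (p := 2)
      (by rw [Nat.card_zpowers, hx]; norm_num)).exists_le_sylow
    let QS : Sylow 2 G := Sylow.ofCard F.Q (by rw [hQ, ← F.sylow_spec P, P.card_eq_multiplicity])
    obtain ⟨n, hn⟩ := MulAction.exists_smul_eq G P QS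
    have hy : n * x * n⁻¹ ∈ F.Q := by
      rw [← show (QS : Subgroup G) = F.Q from Sylow.coe_ofCard _ _, ← hn]
      exact ⟨x, hP (mem_zpowers x), rfl⟩
    set y := n * x * n⁻¹ with hydef
    have hy8 : orderOf y = 8 := by
      rw [hydef, show n * x * n⁻¹ = MulAut.conj n x from rfl, MulEquiv.orderOf_eq, hx]
    have hsq : (y * y) * (y * y) = 1 := by
      have hcy : y * y ∈ centralizer (F.Q : Set G) := by
        refine mem_centralizer_iff.2 fun q hq => ?_
        rcases (hTQ.symm ▸ hy : y ∈ F.Z2).2 q hq with e | e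
        · exact ((show Commute y q from e).mul_left (show Commute y q from e)).eq.symm
        · symm
          calc y * y * q = y * (q * y * F.z) := by rw [mul_assoc, e]
            _ = y * q * (y * F.z) := by group
            _ = q * y * F.z * (y * F.z) := by rw [e]
            _ = q * y * (F.z * y) * F.z := by group
            _ = q * (y * y) * (F.z * F.z) := by rw [← F.mem_Cz.1 (F.Q_le hy)]; group
            _ = q * (y * y) := by rw [F.zz, mul_one]
      rcases F.center_eq hQ (mul_mem hy hy) hcy with e | e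
      · rw [e, one_mul]
      · rw [e, F.zz]
    have := orderOf_dvd_of_pow_eq_one (x := y) (n := 4) (by
      rw [← hsq]; simp only [pow_succ, pow_zero, one_mul, mul_assoc])
    rw [hy8] at this
    norm_num at this

theorem card_Q_eq : Nat.card F.Q = 128 := by
  rcases F.Q_cases with h | h | h | h
  exacts [absurd h F.card_Q_ne_two, absurd h F.card_Q_ne_sixteen, h, absurd h F.card_Q_ne_1024]

end Cfsg.Agent.M24Order.Facts
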